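/-
Groups with a partition, I: normal partitions and their elementary properties.
-/
import Cfsg.Agent.H49.Hall
import Cfsg.Agent.H49.Core
import Cfsg.Agent.H3.FrobQuo
import Cfsg.Agent.H84.Kegel
import Cfsg.Agent.H84.Frob
import Cfsg.Agent.H8.BaerSuzuki
import Cfsg.Agent.H8.Dihedral
import Cfsg.Agent.H2.MinNormal

set_option autoImplicit false

open Cfsg Cfsg.Agent.H49 Subgroup

namespace Cfsg.Agent.H3

variable {G : Type*} [Group G]

/-- A conjugation-invariant proper partition; `c x` is the component containing `x ≠ 1`. -/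
structure NP (c : G → Subgroup G) : Prop where
  one : c 1 = ⊥
  mem : ∀ x, x ∈ c x
  eq : ∀ {x y}, y ∈ c x → y ≠ 1 → c y = c x
  conj : ∀ g x, c (g * x * g⁻¹) = cj g (c x)
  ne_top : ∀ x, x ≠ 1 → c x ≠ ⊤

theorem exists_np (S : Set (Subgroup G)) (hS2 : ∃ H ∈ S, ∃ K ∈ S, H ≠ K)
    (hS1 : ∀ H ∈ S, H ≠ ⊥) (hpart : ∀ g : G, g ≠ 1 → ∃! H : Subgroup G, H ∈ S ∧ g ∈ H) :
    Nontrivial G ∧ ∃ c : G → Subgroup G, NP c := by
  classical
  have hb : ∀ g : G, ∃ H : Subgroup G, (g = 1 → H = ⊥) ∧ (g ≠ 1 → H ∈ S ∧ g ∈ H) := fun g => by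
    by_cases h : g = 1
    · exact ⟨⊥, fun _ => rfl, fun h' => absurd h h'⟩
    · obtain ⟨H, hH, -⟩ := hpart g h
      exact ⟨H, fun h' => absurd h' h, fun _ => hH⟩
  choose b hb1 hb2 using hb
  have huniq : ∀ {g : G} {H : Subgroup G}, g ≠ 1 → H ∈ S → g ∈ H → b g = H :=
    fun {g H} hg hH hgH => (hpart g hg).unique (hb2 g hg) ⟨hH, hgH⟩
  obtain ⟨H, hH, K, hK, hHK⟩ := hS2
  obtain ⟨x, hx, hx1⟩ := ne_bot_iff_exists.1 (hS1 H hH)
  obtain ⟨y, hy, hy1⟩ := ne_bot_iff_exists.1 (hS1 K hK)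
  refine ⟨⟨x, 1, hx1⟩, fun x => ⨅ g : G, cj g⁻¹ (b (g * x * g⁻¹)), ?_, fun x => ?_,
    fun {x y} hy hy1 => ?_, fun g x => ?_, fun z hz htop => ?_⟩
  · refine le_bot_iff.1 ((iInf_le _ 1).trans ?_)
    simp [hb1 1 rfl]
  · refine mem_iInf.2 fun g => ?_
    rw [mem_cj, inv_inv]
    by_cases h : x = 1
    · simp [h]
    · exact (hb2 _ (by simpa using h)).2
  · have hx : x ≠ 1 := by
      rintro rfl
      have := mem_iInf.1 hy 1
      simp [hb1 1 rfl] at this
      exact hy1 this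
    refine iInf_congr fun g => ?_
    have := mem_iInf.1 hy g
    rw [mem_cj, inv_inv] at this
    rw [huniq (by simpa using hy1) (hb2 _ (by simpa using hx)).1 this]
  · ext y
    rw [mem_cj, mem_iInf, mem_iInf]
    constructor
    · intro h k
      have := h (k * g⁻¹)
      rw [mem_cj, inv_inv] at this ⊢
      simpa [mul_assoc] using this
    · intro h k
      have := h (k * g)
      rw [mem_cj, inv_inv] at this ⊢
      simpa [mul_assoc] using this
  · have h1 : b z = ⊤ := by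
      have : (⨅ g : G, cj g⁻¹ (b (g * z * g⁻¹))) ≤ b z := (iInf_le _ 1).trans (by simp)
      rw [htop] at this
      exact top_le_iff.1 this
    have h2 : (⊤ : Subgroup G) ∈ S := h1 ▸ (hb2 z hz).1
    exact hHK ((huniq hx1 hH hx).symm.trans ((huniq hx1 h2 trivial).trans
      ((huniq hy1 h2 trivial).symm.trans (huniq hy1 hK hy))))

/-- Kegel's theorem for subgroups of an ambient group. -/
theorem kegel_amb [Finite G] {p : ℕ} (hp : p.Prime) {K M : Subgroup G} (hKM : K ≤ M)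
    (hn : M ≤ 𝒩(K)) (hne : ¬ M ≤ K) (h : ∀ g ∈ M, g ∉ K → g ^ p = 1) : Group.IsNilpotent K := by
  have := normal_subgroupOf hn
  have h1 := H84.isNilpotent_of_outside_pow hp (K.subgroupOf M)
    (fun e => hne (subgroupOf_eq_top.1 e)) (fun g hg => Subtype.ext (h g g.2 hg))
  exact Group.nilpotent_of_mulEquiv (subgroupOfEquivOfLe hKM)

theorem exists_pow_prime_mem [Finite G] {H : Subgroup G} {a : G} (ha : a ∉ H) :
    ∃ (p : ℕ) (b : G), p.Prime ∧ b ∈ zpowers a ∧ b ∉ H ∧ b ^ p ∈ H := by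
  classical
  have hex : ∃ n : ℕ, 0 < n ∧ a ^ n ∈ H := ⟨orderOf a, orderOf_pos a, by simp⟩
  have hn := Nat.find_spec hex
  have h1 : Nat.find hex ≠ 1 := fun e => ha (by simpa [e] using hn.2)
  obtain ⟨m, hm⟩ := Nat.minFac_dvd (Nat.find hex)
  have hp := Nat.minFac_prime h1
  refine ⟨_, a ^ m, hp, pow_mem (mem_zpowers a) m, fun h => ?_, ?_⟩
  · have hm0 : 0 < m := Nat.pos_of_ne_zero (by rintro rfl; omega)
    have := Nat.find_min' hex ⟨hm0, h⟩
    nlinarith [hp.two_le]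
  · rw [← pow_mul, mul_comm, ← hm]
    exact hn.2

theorem pow_mem_of_mem_sup {K : Subgroup G} {a g : G} {n : ℕ} (ha : a ∈ 𝒩(K)) (han : a ^ n ∈ K)
    (hg : g ∈ K ⊔ zpowers a) : g ^ n ∈ K := by
  have hn : K ⊔ zpowers a ≤ 𝒩(K) := sup_le le_normalizer (zpowers_le.2 ha)
  obtain ⟨k, hk, _, ⟨i, rfl⟩, rfl⟩ := (mem_sup_of_norm_left (zpowers_le.2 ha)).1 hg
  have e1 : coset K ⟨k, le_normalizer hk⟩ = 1 := coset_eq_one_iff.2 hk
  have e2 : coset K ⟨a, ha⟩ ^ n = 1 := by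
    rw [← map_pow]
    exact coset_eq_one_iff.2 han
  have e3 : coset K ((⟨k, le_normalizer hk⟩ * ⟨a, ha⟩ ^ i) ^ n) = 1 := by
    rw [map_pow, map_mul, e1, one_mul, map_zpow, ← zpow_natCast, ← zpow_mul, mul_comm, zpow_mul,
      zpow_natCast, e2, one_zpow]
  exact coset_eq_one_iff.1 e3

theorem dvd_orderOf_of_pow_mem [Finite G] {K : Subgroup G} {g : G} {p : ℕ} (hp : p.Prime)
    (hg : g ∉ K) (h : g ^ p ∈ K) : p ∣ orderOf g := by
  by_contra hd
  obtain ⟨m, hm⟩ := exists_pow_eq_self_of_coprime (x := g) (n := p)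
    ((Nat.Prime.coprime_iff_not_dvd hp).2 hd)
  exact hg (hm ▸ pow_mem h m)

/-- A `p`-element normalising a subgroup of order divisible by `p` has a fixed point. -/
theorem exists_fixed [Finite G] {H : Subgroup G} {u : G} {p : ℕ} (hp : p.Prime)
    (hu : orderOf u = p) (hn : u ∈ 𝒩(H)) (hd : p ∣ Nat.card H) : ∃ y ∈ H, y ≠ 1 ∧ y * u = u * y := by
  by_contra hcon
  push Not at hcon
  have h := relIndex_dvd_card_sub_one (K := ⊥) (L := zpowers u) (N := H) (zpowers_le.2 hn)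
    (fun y hy hy1 v hv => by
      by_contra hv1
      have hz : zpowers u ⊓ 𝒞[y] = zpowers u :=
        (eq_bot_or_eq_of_prime_card (by rw [Nat.card_zpowers, hu]; exact hp) inf_le_left).resolve_left
          (fun e => hv1 (e ▸ hv))
      have : u ∈ zpowers u ⊓ 𝒞[y] := hz.symm ▸ mem_zpowers u
      exact hcon y hy hy1 (mem_cent1.1 this.2).symm)
  rw [relIndex_bot_left, Nat.card_zpowers, hu] at h
  have h2 := (Nat.dvd_sub_iff_right (card_pos' H) hd).1 h
  exact hp.one_lt.ne' (Nat.dvd_one.1 h2)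

theorem frob_of_fpf [Finite G] {F : Subgroup G} (hn : F.Normal) (h1 : F ≠ ⊥) (h2 : F ≠ ⊤)
    (hc : (Nat.card F).Coprime F.index)
    (hf : ∀ a : G, a ≠ 1 → (orderOf a).Coprime (Nat.card F) → ∀ y ∈ F, y * a = a * y → y = 1) :
    ∃ H : Subgroup G, IsFrobeniusComplement H := by
  obtain ⟨K, hK⟩ := exists_compl_of_coprime (K := F) (M := ⊤) le_top
    (normal_iff_top_le_norm.1 hn) (by rwa [relIndex_top_right])
  have hcK : Nat.card K = F.index := by rw [← hK.relIndex_left, relIndex_top_right]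
  refine ⟨K, (H84.isFrob_iff K).2 ⟨?_, ?_, fun g x hx hgx hx1 => ?_⟩⟩
  · rintro rfl
    exact h2 (by simpa using hK.1)
  · rintro rfl
    exact h1 (by simpa using hK.2.1)
  · obtain ⟨f, hf', k, hk, rfl⟩ := (mem_sup_of_norm_left hK.2.2).1 (hK.1.symm ▸ mem_top g)
    have e1 : x⁻¹ * (f⁻¹ * x * f) ∈ F ⊓ K := by
      refine mem_inf.2 ⟨?_, K.mul_mem (K.inv_mem hx) ?_⟩
      · simpa [mul_assoc] using F.mul_mem (hn.conj_mem _ (F.inv_mem hf') x⁻¹) hf'
      · simpa [mul_assoc] using K.mul_mem (K.mul_mem hk hgx) (K.inv_mem hk)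
    rw [hK.2.1, mem_bot] at e1
    have e2 : f = 1 := hf x hx1 (Nat.Coprime.coprime_dvd_left (K.orderOf_dvd_natCard hx)
      (hcK ▸ hc.symm)) f hf' (by
        calc f * x = f * x * (x⁻¹ * (f⁻¹ * x * f)) := by rw [e1, mul_one]
          _ = x * f := by group)
    simpa [e2] using hk

/-- Either a nontrivial normal `p`-subgroup, or a nontrivial `p'`-subgroup normalised by an element
of order `p`. -/
theorem normal_or_normalized {X : Type*} [Group X] [Finite X] {p : ℕ} (hp : p.Prime)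
    (hd : p ∣ Nat.card X) (h : p = 2 ∨ Group.IsSolvable X ∨ ∃ t : X, orderOf t = 2 ∧ ∀ g, g * t = t * g) :
    (∃ K : Subgroup X, K.Normal ∧ K ≠ ⊥ ∧ IsPGroup p K) ∨
      ∃ (K : Subgroup X) (a : X), K ≠ ⊥ ∧ ¬ p ∣ Nat.card K ∧ orderOf a = p ∧ a ∈ 𝒩(K) := by
  have := Fact.mk hp
  obtain ⟨a, ha⟩ := exists_prime_orderOf_dvd_card' p hd
  have key : ∀ (K : Subgroup X) (q : ℕ), q.Prime → K.Normal → K ≠ ⊥ → IsPGroup q K →
      (∃ K : Subgroup X, K.Normal ∧ K ≠ ⊥ ∧ IsPGroup p K) ∨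
      ∃ (K : Subgroup X) (a : X), K ≠ ⊥ ∧ ¬ p ∣ Nat.card K ∧ orderOf a = p ∧ a ∈ 𝒩(K) := by
    intro K q hq hK h1 h2
    by_cases e : q = p
    · exact Or.inl ⟨K, hK, h1, e ▸ h2⟩
    · exact Or.inr ⟨K, a, h1, fun hd' => e (isPi_of_isPGroup hq h2 p hp hd').symm, ha,
        normal_iff_top_le_norm.1 hK trivial⟩
  rcases h with rfl | h | ⟨t, ht, hc⟩
  · by_cases hb : ∀ g : X, IsPGroup 2 (closure ({a, g * a * g⁻¹} : Set X))
    · refine Or.inl ⟨_, inferInstance, fun e => ?_, H8.baer_suzuki_elem a hb⟩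
      have : a ∈ normalClosure ({a} : Set X) := subset_normalClosure rfl
      rw [e, mem_bot] at this
      exact H8.ne_one_of_orderOf_two ha this
    · push Not at hb
      obtain ⟨g, hg⟩ := hb
      have h1 := H8.mul_self_of_orderOf_two ha
      have h2 : g * a * g⁻¹ * (g * a * g⁻¹) = 1 :=
        H8.mul_self_of_orderOf_two (by rw [H8.orderOf_conj', ha])
      set w := a * (g * a * g⁻¹) with hw
      obtain ⟨k, m, hm, e⟩ := Nat.exists_eq_two_pow_mul_odd (orderOf_pos w).ne'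
      refine Or.inr ⟨zpowers (w ^ 2 ^ k), a, fun e' => hg ?_, ?_, ha, ?_⟩
      · exact H8.isPGroup_closure_pair h1 h2 (zpowers_eq_bot.1 e')
      · rw [Nat.card_zpowers, orderOf_pow' _ (by positivity), e, Nat.gcd_mul_right_left,
          Nat.mul_div_cancel_left _ (by positivity)]
        exact fun h => (Nat.not_even_iff_odd.2 hm) (even_iff_two_dvd.2 h)
      · rw [mem_norm_iff_cj, cj_zpowers]
        have : a * w ^ 2 ^ k * a⁻¹ = (w ^ 2 ^ k)⁻¹ := by
          rw [← conj_pow, hw, H8.conj_mul_inv h1 h2, inv_pow]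
        rw [this, zpowers_inv]
  · have : Nontrivial X := ⟨⟨a, 1, by
      rintro rfl
      exact hp.one_lt.ne (by simpa using ha)⟩⟩
    obtain ⟨M, q, hq, hM, h1, -, h2, -⟩ := H2.exists_minimal_normal_of_solvable (G := X)
    exact key M q hq hM h1 h2
  · refine key (zpowers t) 2 Nat.prime_two ⟨?_⟩ (fun e => H8.ne_one_of_orderOf_two ht
      (zpowers_eq_bot.1 e)) (IsPGroup.of_card (n := 1) (by rw [Nat.card_zpowers, ht]; rfl))
    rintro _ ⟨i, rfl⟩ g
    have : g * t ^ i * g⁻¹ = t ^ i := by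
      rw [← conj_zpow, hc, mul_inv_cancel_right]
    exact this ▸ zpow_mem (mem_zpowers t) i

/-- The previous statement pulled back from a quotient. -/
theorem normal_or_normalized' [Finite G] {N : Subgroup G} [N.Normal] {p : ℕ} (hp : p.Prime)
    (hd : p ∣ N.index) (h : p = 2 ∨ Group.IsSolvable (G ⧸ N) ∨
      ∃ t : G, t ∉ N ∧ t * t = 1 ∧ ∀ g, g * t * g⁻¹ * t⁻¹ ∈ N) :
    (∃ K : Subgroup G, K.Normal ∧ N < K ∧ ∀ g ∈ K, ∃ k, g ^ p ^ k ∈ N) ∨
      ∃ (K : Subgroup G) (a : G), N < K ∧ ¬ p ∣ N.relIndex K ∧ a ∉ N ∧ a ^ p ∈ N ∧ a ∈ 𝒩(K) := by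
  have hlt : ∀ K : Subgroup (G ⧸ N), K ≠ ⊥ → N < K.comap (QuotientGroup.mk' N) := fun K hK => by
    refine lt_of_le_of_ne (fun x hx => ?_) fun e => hK ?_
    · rw [mem_comap, QuotientGroup.mk'_apply, (QuotientGroup.eq_one_iff x).2 hx]
      exact K.one_mem
    · refine eq_bot_iff.2 fun y hy => ?_
      obtain ⟨x, rfl⟩ := QuotientGroup.mk_surjective y
      exact (QuotientGroup.eq_one_iff x).2 (e ▸ hy)
  rcases normal_or_normalized (X := G ⧸ N) hp hd (by
    rcases h with h | h | ⟨t, h1, h2, h3⟩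
    · exact Or.inl h
    · exact Or.inr (Or.inl h)
    · refine Or.inr (Or.inr ⟨t, H8.orderOf_two_of (by rw [← QuotientGroup.mk_mul, h2]; rfl)
        (fun e => h1 ((QuotientGroup.eq_one_iff t).1 e)), fun y => ?_⟩)
      obtain ⟨g, rfl⟩ := QuotientGroup.mk_surjective y
      have := (QuotientGroup.eq_one_iff _).2 (h3 g)
      rw [QuotientGroup.mk_mul, QuotientGroup.mk_mul, QuotientGroup.mk_mul, QuotientGroup.mk_inv,
        QuotientGroup.mk_inv, mul_inv_eq_one, mul_inv_eq_iff_eq_mul] at this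
      exact this) with ⟨K, h1, h2, h3⟩ | ⟨K, a, h1, h2, h3, h4⟩
  · refine Or.inl ⟨_, h1.comap _, hlt K h2, fun g hg => ?_⟩
    obtain ⟨k, hk⟩ := h3 ⟨_, hg⟩
    exact ⟨k, (QuotientGroup.eq_one_iff _).1 (congrArg Subtype.val hk)⟩
  · obtain ⟨a, rfl⟩ := QuotientGroup.mk_surjective a
    refine Or.inr ⟨_, a, hlt K h1, ?_, fun e => ?_, ?_, ?_⟩
    · have e : N.relIndex (K.comap (QuotientGroup.mk' N)) = Nat.card K := by
        have := relIndex_ker (K := K.comap (QuotientGroup.mk' N)) (QuotientGroup.mk' N)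
        rwa [QuotientGroup.ker_mk', map_comap_eq_self_of_surjective
          (QuotientGroup.mk'_surjective N)] at this
      rwa [e]
    · rw [(QuotientGroup.eq_one_iff a).2 e, orderOf_one] at h3
      exact hp.one_lt.ne h3
    · rw [← QuotientGroup.eq_one_iff, QuotientGroup.mk_pow, ← h3, pow_orderOf_eq_one]
    · rw [mem_normalizer_iff]
      intro x
      exact mem_normalizer_iff.1 h4 (x : G ⧸ N)

namespace NP

variable {c : G → Subgroup G} (h : NP c)
include h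

theorem ne_one {x y : G} (hy : y ∈ c x) (h1 : y ≠ 1) : x ≠ 1 := by
  rintro rfl
  exact h1 (mem_bot.1 (h.one ▸ hy))

theorem symm {x y : G} (hy : y ∈ c x) (h1 : y ≠ 1) : x ∈ c y := h.eq hy h1 ▸ h.mem x

theorem eq' {x y z : G} (hx : z ∈ c x) (hy : z ∈ c y) (h1 : z ≠ 1) : c x = c y :=
  (h.eq hx h1).symm.trans (h.eq hy h1)

theorem eq_one {x y z : G} (hy : y ∉ c x) (hx : z ∈ c x) (hz : z ∈ c y) : z = 1 := by
  by_contra h1
  exact hy (h.eq' hx hz h1 ▸ h.mem y)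

theorem pow_eq_one {x a : G} {n : ℕ} (ha : a ∉ c x) (hn : a ^ n ∈ c x) : a ^ n = 1 :=
  h.eq_one ha hn (pow_mem (h.mem a) n)

theorem norm_of_comm {x g : G} (hc : g * x = x * g) : g ∈ 𝒩(c x) := by
  rw [mem_norm_iff_cj, ← h.conj, hc, mul_inv_cancel_right]

theorem norm_of_inv {x g : G} (hc : g * x * g⁻¹ = x⁻¹) : g ∈ 𝒩(c x) := by
  by_cases h1 : x = 1
  · subst h1
    rw [h.one, norm_bot]
    trivial
  · rw [mem_norm_iff_cj, ← h.conj, hc, h.eq (inv_mem (h.mem x)) (inv_ne_one.2 h1)]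

theorem TI {x y g : G} (hy : y ∈ c x) (h1 : y ≠ 1) (hg : g * y * g⁻¹ ∈ c x) : g ∈ 𝒩(c x) := by
  rw [mem_norm_iff_cj, ← h.eq hy h1, ← h.conj, h.eq hg (by simpa using h1), h.eq hy h1]

theorem normal_of_le {x : G} {N : Subgroup G} (hN : N.Normal) (h1 : N ≠ ⊥) (hle : N ≤ c x) :
    (c x).Normal := by
  obtain ⟨y, hy, hy1⟩ := ne_bot_iff_exists.1 h1
  exact normal_iff_top_le_norm.2 fun g _ => h.TI (hle hy) hy1 (hle (hN.conj_mem y hy g))

/-- An element of one component normalising a second one commutes with the elements of the second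
one that normalise the first. -/
theorem comm_of_norm {x y a b : G} (hy : y ∉ c x) (ha : a ∈ c x) (hb : b ∈ c y)
    (ha' : a ∈ 𝒩(c y)) (hb' : b ∈ 𝒩(c x)) : a * b = b * a := by
  have e : a * b * a⁻¹ * b⁻¹ = 1 := by
    refine h.eq_one hy ?_ (mul_mem (conj_mem_of_norm le_rfl ha' hb) (inv_mem hb))
    have := mul_mem ha (conj_mem_of_norm le_rfl hb' (inv_mem ha))
    convert this using 1
    group
  calc a * b = a * b * a⁻¹ * b⁻¹ * (b * a) := by group
    _ = b * a := by rw [e, one_mul]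

variable [Finite G]

theorem orderOf_dvd_of_comm {x y : G} (hx : x ≠ 1) (hy : y ∉ c x) (hc : y * x = x * y) :
    orderOf y ∣ orderOf x := by
  have hy1 : y ≠ 1 := fun e => hy (e ▸ one_mem _)
  have h1 : y * x ∉ c y := fun e => hy (h.symm ((mul_mem_cancel_left (h.mem y)).1 e) hx)
  have h2 : (y * x) ^ orderOf x = y ^ orderOf x := by
    rw [Commute.mul_pow hc, pow_orderOf_eq_one, mul_one]
  rw [orderOf_dvd_iff_pow_eq_one, ← h2]
  exact h.pow_eq_one h1 (h2 ▸ pow_mem (h.mem y) _)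

theorem order_eq {x y : G} (hx : x ≠ 1) (hy : y ∉ c x) (hc : y * x = x * y) :
    orderOf y = orderOf x :=
  Nat.dvd_antisymm (h.orderOf_dvd_of_comm hx hy hc) (h.orderOf_dvd_of_comm
    (fun e => hy (e ▸ one_mem _)) (fun e => hy (h.symm e hx)) hc.symm)

theorem order_prime {x y : G} (hx : x ≠ 1) (hy : y ∉ c x) (hc : y * x = x * y) :
    (orderOf x).Prime := by
  have hp := Nat.minFac_prime (orderOf_eq_one_iff.not.2 hx)
  by_cases h1 : x ^ (orderOf x).minFac = 1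
  · have := Fact.mk hp
    rw [orderOf_eq_prime h1 hx]
    exact hp
  · have e := h.order_eq h1 (by rwa [h.eq (pow_mem (h.mem x) _) h1])
      (Commute.pow_right hc _)
    rw [h.order_eq hx hy hc, orderOf_pow' _ hp.ne_zero,
      Nat.gcd_eq_right (Nat.minFac_dvd _)] at e
    exact absurd e (Nat.div_lt_self (orderOf_pos x) hp.one_lt).ne'

theorem mem_of_comm {x y : G} (hx : x ≠ 1) (hc : y * x = x * y) (hne : orderOf y ≠ orderOf x) :
    y ∈ c x := by
  by_contra hy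
  exact hne (h.order_eq hx hy hc)

theorem mem_of_comm' {x y : G} (hc : y * x = x * y) (hx : x ≠ 1) (hne : ¬ (orderOf x).Prime) :
    y ∈ c x := by
  by_contra hy
  exact hne (h.order_prime hx hy hc)

omit [Finite G] in
/-- An involution normalising a component and outside it inverts it. -/
theorem inverts {x s : G} (hs : s * s = 1) (hn : s ∈ 𝒩(c x)) (h1 : s ∉ c x) {y : G}
    (hy : y ∈ c x) : s * y * s⁻¹ = y⁻¹ := by
  have e : (s * y) ^ 2 = s * y * s⁻¹ * y := by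
    rw [inv_eq_of_mul_eq_one_right hs, pow_two, mul_assoc (s * y)]
  have := h.pow_eq_one (n := 2) (fun e' => h1 ((mul_mem_cancel_right hy).1 e'))
    (e ▸ mul_mem (conj_mem_of_norm le_rfl hn hy) hy)
  rw [e] at this
  exact eq_inv_of_mul_eq_one_left this

omit [Finite G] in
theorem frob {x : G} (hx : x ≠ 1) (hN : 𝒩(c x) ≤ c x) : IsFrobeniusComplement (c x) :=
  (H84.isFrob_iff _).2 ⟨ne_bot_iff_exists.2 ⟨x, h.mem x, hx⟩, h.ne_top x hx,
    fun g y hy hg hy1 => inv_mem_iff.1 (hN (h.TI hy hy1 (by simpa using hg)))⟩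

theorem nilpotent {x : G} (hN : ¬ 𝒩(c x) ≤ c x) : Group.IsNilpotent (c x) := by
  obtain ⟨a, ha, ha'⟩ := SetLike.not_le_iff_exists.1 hN
  obtain ⟨p, b, hp, hb, hb1, hb2⟩ := exists_pow_prime_mem ha'
  have hbn : b ∈ 𝒩(c x) := zpowers_le.2 ha hb
  exact kegel_amb hp (M := c x ⊔ zpowers b) le_sup_left (sup_le le_normalizer (zpowers_le.2 hbn))
    (fun e => hb1 (e (mem_sup_right (mem_zpowers b))))
    (fun g hg hg' => h.pow_eq_one hg' (pow_mem_of_mem_sup hbn hb2 hg))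

end NP

theorem comm_of_nilpotent [Finite G] {H : Subgroup G} (hH : Group.IsNilpotent H) {x y : G}
    (hx : x ∈ H) (hy : y ∈ H) (hc : (orderOf x).Coprime (orderOf y)) : x * y = y * x :=
  (le_cent_iff.1 (nilpotent_cent_of_coprime hH (zpowers_le.2 hx) (zpowers_le.2 hy)
    (by rwa [Nat.card_zpowers, Nat.card_zpowers])) x (mem_zpowers x) y (mem_zpowers y)).symm

end Cfsg.Agent.H3
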