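import Mathlib
import Cfsg.Agent.H2.MinNormal

/-! Solvable groups containing a regular cyclic group of odd prime power degree. -/

set_option autoImplicit false

namespace Cfsg.Agent.H3.AltP

open Polynomial

theorem geom_char {p : ℕ} [Fact p.Prime] {R : Type*} [Ring R] [Algebra (ZMod p) R] (A : R) (j : ℕ) :
    ∑ i ∈ Finset.range (p ^ j), A ^ i = (A - 1) ^ (p ^ j - 1) ∧ (A - 1) ^ p ^ j = A ^ p ^ j - 1 := by
  have h1 : (X - 1 : (ZMod p)[X]) ^ p ^ j = X ^ p ^ j - 1 := by rw [sub_pow_char_pow, one_pow]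
  have h2 : ∑ i ∈ Finset.range (p ^ j), (X : (ZMod p)[X]) ^ i = (X - 1) ^ (p ^ j - 1) :=
    mul_right_cancel₀ (X_sub_C_ne_zero 1) (by
      rw [C_1, geom_sum_mul, ← pow_succ, Nat.sub_add_cancel (Nat.one_le_pow _ _ (Fact.out : p.Prime).pos), h1])
  exact ⟨by simpa using congrArg (aeval A) h2, by simpa using congrArg (aeval A) h1⟩

theorem unip₀ {p c : ℕ} [hp : Fact p.Prime] (h3 : 3 ≤ p) {V : Type*} [AddCommGroup V] [Finite V] [Module (ZMod p) V]
    (hc : Nat.card V = p ^ c) (f : V →+ V) (hA : ∃ j : ℕ, ∀ x, f^[p ^ j] x = x) :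
    (c = 1 → ∀ x, f x = x) ∧ (1 < c → ∀ x, ∑ i ∈ Finset.range (p ^ (c - 1)), f^[i] x = 0) := by
  let A : Module.End (ZMod p) V := f.toZModLinearMap p
  have e : ∀ (i : ℕ) (x : V), (A ^ i) x = f^[i] x := fun i x => Module.End.pow_apply A i x
  have fr : Module.finrank (ZMod p) V = c := Nat.pow_right_injective hp.out.two_le (by
    have := Module.natCard_eq_pow_finrank (K := ZMod p) (V := V)
    rw [Nat.card_zmod] at this
    exact this.symm.trans hc)
  obtain ⟨j, hj⟩ := hA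
  have nil := (A - 1).aeval_self_charpoly
  rw [IsNilpotent.charpoly_eq_X_pow_finrank ⟨p ^ j, by
    rw [(geom_char _ j).2]; exact LinearMap.ext fun x => by simp [e, hj]⟩, fr, map_pow, aeval_X] at nil
  refine ⟨fun h x => ?_, fun h x => ?_⟩
  · rw [h, pow_one, sub_eq_zero] at nil
    exact congr($nil x)
  have k2 : c ≤ p ^ (c - 1) - 1 := by
    obtain ⟨d, rfl⟩ : ∃ d, c = d + 2 := ⟨c - 2, by omega⟩
    have := Nat.lt_pow_self (n := d) hp.out.one_lt
    rw [show d + 2 - 1 = d + 1 from rfl, pow_succ]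
    have : p ^ d * 3 ≤ p ^ d * p := Nat.mul_le_mul_left _ h3
    omega
  have := congr($((geom_char (p := p) A (c - 1)).1) x)
  simpa [pow_eq_zero_of_le k2 nil, e] using this

theorem unip {p c : ℕ} [hp : Fact p.Prime] (h3 : 3 ≤ p) {V : Type*} [CommGroup V] [Finite V] (hV : ∀ x : V, x ^ p = 1)
    (hc : Nat.card V = p ^ c) (A : MulAut V) (hA : ∃ j : ℕ, A ^ p ^ j = 1) :
    (c = 1 → ∀ x, A x = x) ∧ (1 < c → ∀ x, ∏ i ∈ Finset.range (p ^ (c - 1)), (A ^ i) x = 1) := by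
  have e : ∀ (i : ℕ) (x : V), (MonoidHom.toAdditive A.toMonoidHom)^[i] (Additive.ofMul x) = Additive.ofMul ((A ^ i) x) :=
    fun i x => by
    induction i with
    | zero => rfl
    | succ i ih => rw [Function.iterate_succ_apply', ih, pow_succ']; rfl
  have := @unip₀ p c _ h3 (Additive V) _ _ (AddCommGroup.zmodModule fun x => hV x.toMul) hc
    (MonoidHom.toAdditive A.toMonoidHom) (hA.imp fun j hj x => (e _ x.toMul).trans (by rw [hj]; rfl))
  exact ⟨fun h x => this.1 h (Additive.ofMul x), fun h x => by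
    simpa only [e, ← ofMul_prod, ofMul_eq_zero] using this.2 h (Additive.ofMul x)⟩

theorem ns {p c : ℕ} [hp : Fact p.Prime] (h3 : 3 ≤ p) (hc : 1 ≤ c) {G : Type*} [Group G] [Finite G] [Group.IsSolvable G]
    [MulAction G (ZMod (p ^ c))] [FaithfulSMul G (ZMod (p ^ c))] (a b : G) (ha : ∀ x : ZMod (p ^ c), a • x = x + 1)
    (hb : ∃ j : ℕ, b ^ p ^ j = 1) : (∀ x : ZMod (p ^ c), b • x = x + b • (0 : ZMod (p ^ c))) ∨
      (2 ≤ c ∧ ∀ z : ZMod (p ^ c), ∃ y, b • (z + (p : ZMod (p ^ c)) ^ (c - 1)) = b • z + p * y) := by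
  have h1 : Fact (1 < p ^ c) := ⟨Nat.one_lt_pow (by omega) hp.out.one_lt⟩
  have : Nontrivial G := ⟨a, 1, fun h => by simpa [h] using ha 0⟩
  obtain ⟨N, q, hq, hN, N0, Nc, Nq, Ne, -⟩ := H2.exists_minimal_normal_of_solvable (G := G)
  have a1 : ∀ (i : ℕ) (x : ZMod (p ^ c)), a ^ i • x = x + i := fun i => by
    induction i with
    | zero => simp
    | succ i ih => intro x; rw [pow_succ', mul_smul, ih, ha]; push_cast; ring
  have T : ∀ n ∈ N, ∀ x z : ZMod (p ^ c), ∃ n' ∈ N, n' • (x + z) = n • x + z := fun n hn x z =>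
    ⟨_, hN.conj_mem n hn (a ^ z.val), by
      rw [mul_smul, mul_smul, a1, show (a ^ z.val)⁻¹ • (x + z) = x from inv_smul_eq_iff.2 (by simp [a1])]; simp⟩
  have S : ∀ (i : ℕ) (y : ZMod (p ^ c)), (∃ n ∈ N, n • (0 : ZMod (p ^ c)) = y) → ∃ n ∈ N, n • (0 : ZMod (p ^ c)) = i * y := by
    rintro i _ ⟨n, hn, rfl⟩
    induction i with
    | zero => exact ⟨1, N.one_mem, by simp⟩
    | succ i ih =>
      obtain ⟨n1, h1, e1⟩ := ih
      obtain ⟨n2, h2, e2⟩ := T n hn 0 (n1 • (0 : ZMod (p ^ c)))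
      exact ⟨n2 * n1, N.mul_mem h2 h1, by rw [mul_smul, ← zero_add (n1 • _), e2, e1]; push_cast; ring⟩
  have S' : ∀ x y : ZMod (p ^ c), (∃ n ∈ N, n • (0 : ZMod (p ^ c)) = y) → ∃ n ∈ N, n • (0 : ZMod (p ^ c)) = x * y :=
    fun x y h => by simpa using S x.val y h
  by_cases hB : ∃ n ∈ N, n • (0 : ZMod (p ^ c)) = 1
  swap
  · have k1 : ∀ n ∈ N, ∀ x : ZMod (p ^ c), ∃ y, n • x = x + p * y := fun n hn x => by
      obtain ⟨n', h', e⟩ := T n hn x (-x)
      rw [add_neg_cancel] at e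
      by_cases h : p ∣ (n • x + -x).val
      · obtain ⟨y, hy⟩ := h
        exact ⟨y, by have := congrArg (Nat.cast : ℕ → ZMod (p ^ c)) hy; simp at this; linear_combination this⟩
      · obtain ⟨y, hy⟩ := ((ZMod.isUnit_natCast_iff_not_dvd_pow hp.out hc).2 h).exists_left_inv
        exact absurd (hy ▸ S' y _ ⟨n', h', by simpa using e⟩) hB
    obtain ⟨n, hn, y, hy⟩ : ∃ n ∈ N, ∃ y : ZMod (p ^ c), n • y ≠ y := by
      by_contra! h
      exact N0 ((Subgroup.eq_bot_iff_forall _).2 fun n hn => eq_of_smul_eq_smul fun y : ZMod (p ^ c) => by simp [h n hn])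
    obtain ⟨n', h', e⟩ := T n hn y (-y)
    rw [add_neg_cancel] at e
    have y0 : (n • y + -y).val ≠ 0 := fun h => hy (by simpa [← sub_eq_add_neg, sub_eq_zero] using h)
    obtain ⟨j, r, hr, e'⟩ := Nat.exists_eq_pow_mul_and_not_dvd y0 p hp.out.one_lt.ne'
    have hj : j < c := (Nat.pow_lt_pow_iff_right hp.out.one_lt).1
      ((Nat.le_of_dvd (Nat.pos_of_ne_zero y0) ⟨r, e'⟩).trans_lt (ZMod.val_lt _))
    obtain ⟨s, hs⟩ := ((ZMod.isUnit_natCast_iff_not_dvd_pow (d := c) hp.out hc).2 hr).exists_left_inv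
    obtain ⟨m, hm, em⟩ := S' (p ^ (c - 1 - j) * s) _ ⟨n', h', e⟩
    have e2 : n • y + -y = p ^ j * r := by simpa using congrArg (Nat.cast : ℕ → ZMod (p ^ c)) e'
    rw [e2, show (p : ZMod (p ^ c)) ^ (c - 1 - j) * s * (p ^ j * r) = p ^ (c - 1 - j + j) * (s * r) by ring, hs, mul_one,
      Nat.sub_add_cancel (by omega)] at em
    refine .inr ⟨by_contra fun h => hB ⟨m, hm, by simpa [show c - 1 = 0 by omega] using em⟩, fun z => ?_⟩
    obtain ⟨m', hm', e3⟩ := T m hm 0 z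
    obtain ⟨y, hy⟩ := k1 _ (hN.conj_mem m' hm' b) (b • z)
    exact ⟨y, by rw [← hy, mul_smul, mul_smul, inv_smul_smul, ← zero_add z, e3, em, zero_add, add_comm]⟩
  have tr : ∀ x : ZMod (p ^ c), ∃ n ∈ N, n • (0 : ZMod (p ^ c)) = x := fun x => by simpa using S' x 1 hB
  have ce : ∀ g : G, (∀ n ∈ N, g * n = n * g) → ∀ n ∈ N, g • (0 : ZMod (p ^ c)) = n • (0 : ZMod (p ^ c)) → g = n :=
    fun g hg n hn e => eq_of_smul_eq_smul fun x : ZMod (p ^ c) => by
      obtain ⟨m, hm, rfl⟩ := tr x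
      rw [← mul_smul, hg m hm, mul_smul, e, ← mul_smul, ← mul_smul, H2.mul_comm_of_mem Nc hm hn]
  have cN : Nat.card N = p ^ c := (Nat.card_eq_of_bijective (fun n : N => n.1 • (0 : ZMod (p ^ c)))
    ⟨fun n m e => Subtype.ext (ce _ (fun _ h => H2.mul_comm_of_mem Nc n.2 h) _ m.2 e), fun x =>
      (tr x).elim fun n h => ⟨⟨n, h.1⟩, h.2⟩⟩).trans (Nat.card_zmod _)
  obtain rfl : p = q := by
    have := Fact.mk hq
    obtain ⟨k, hk⟩ := IsPGroup.iff_card.1 Nq
    exact (Nat.prime_dvd_prime_iff_eq hp.out hq).1 (hp.out.dvd_of_dvd_pow (hk ▸ cN ▸ dvd_pow_self p (by omega)))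
  let _ : CommGroup N := { (inferInstance : Group N) with mul_comm := Nc.is_comm.comm }
  have nil := fun (g : G) (hg : ∃ j : ℕ, g ^ p ^ j = 1) => unip h3 (fun x : N => Subtype.ext (Ne _ x.2)) cN
    (MulAut.conjNormal g) (hg.imp fun j hj => by rw [← map_pow, hj, map_one])
  have ap : a ^ p ^ c = 1 := eq_of_smul_eq_smul fun x : ZMod (p ^ c) => by rw [a1]; simp [-Nat.cast_pow]
  rcases hc.eq_or_lt with rfl | hc2
  · have k : ∀ g : G, (∃ j : ℕ, g ^ p ^ j = 1) → g ∈ N := fun g hg => by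
      obtain ⟨n, hn, e⟩ := tr (g • (0 : ZMod (p ^ 1)))
      exact ce g (fun m hm => mul_inv_eq_iff_eq_mul.1 congr(($((nil g hg).1 rfl ⟨m, hm⟩)).1)) n hn e.symm ▸ hn
    refine .inl fun x => ?_
    have := H2.mul_comm_of_mem Nc (k b hb) (N.pow_mem (k a ⟨_, ap⟩) x.val)
    simpa [mul_smul, a1, add_comm] using congrArg (· • (0 : ZMod (p ^ 1))) this
  exfalso
  obtain ⟨t, ht, et⟩ := hB
  have k : ∀ i : ℕ, ((∏ j ∈ Finset.range i, (MulAut.conjNormal a ^ j) (⟨t, ht⟩ : N) : N) : G) • (0 : ZMod (p ^ c)) = i :=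
    fun i => by
    induction i with
    | zero => simp
    | succ i ih =>
      simp only [Finset.prod_range_succ', pow_succ', MulAut.mul_apply, ← map_prod]
      simp only [pow_zero, MulAut.one_apply, Subgroup.coe_mul, MulAut.conjNormal_apply, et, mul_smul]
      rw [show a⁻¹ • (1 : ZMod (p ^ c)) = 0 from inv_smul_eq_iff.2 (by simp [ha]), ih, ha]; simp
  have := k (p ^ (c - 1))
  rw [(nil a ⟨_, ap⟩).2 hc2] at this
  exact absurd (Nat.le_of_dvd (by positivity) ((ZMod.natCast_eq_zero_iff _ _).1 (by simpa using this.symm)))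
    (Nat.pow_lt_pow_right hq.one_lt (by omega)).not_ge

end Cfsg.Agent.H3.AltP
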