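import Cfsg.Agent.H3.AltP1

/-! Pairs of `p`-elements of the alternating group generating a non-solvable group. -/

set_option autoImplicit false

namespace Cfsg.Agent.H3.AltP

open Equiv Subgroup

variable {X Ω : Type*} {p : ℕ}

/-- The product is not a `p`-element and the pair generates a non-solvable group. -/
def Good (p : ℕ) {G : Type*} [Group G] (a b : G) : Prop :=
  (¬ ∃ k : ℕ, (a * b) ^ p ^ k = 1) ∧ ¬ Group.IsSolvable ↥(closure ({a, b} : Set G))

theorem Good.symm {G : Type*} [Group G] {a b : G} (h : Good p a b) : Good p b a :=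
  ⟨fun ⟨k, hk⟩ => h.1 ⟨k, by
    rw [show a * b = a * (b * a) * a⁻¹ by group, conj_pow, hk]; simp⟩, by rw [Set.pair_comm]; exact h.2⟩

theorem Good.of_map {G H : Type*} [Group G] [Group H] (f : G →* H) {a b : G} (h : Good p (f a) (f b)) : Good p a b :=
  ⟨fun ⟨k, hk⟩ => h.1 ⟨k, by rw [← map_mul, ← map_pow, hk, map_one]⟩, fun hs => h.2 (by
    rw [← Set.image_pair, ← MonoidHom.map_closure]
    exact Group.isSolvable_of_surjective (f.subgroupMap_surjective _))⟩

theorem Good.map {G H : Type*} [Group G] [Group H] {f : G →* H} (hf : Function.Injective f) {a b : G} (h : Good p a b) :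
    Good p (f a) (f b) :=
  ⟨fun ⟨k, hk⟩ => h.1 ⟨k, hf (by rw [map_pow, map_mul, hk, map_one])⟩, fun hs => h.2 (by
    rw [← Set.image_pair, ← MonoidHom.map_closure] at hs
    exact Group.isSolvable_of_isSolvable_injective (f := (equivMapOfInjective _ f hf).toMonoidHom) (MulEquiv.injective _))⟩

theorem Good.of_emb {ι : X → Ω} (hι : Function.Injective ι) {a b : Perm Ω} {a₀ b₀ : Perm X}
    (ha : ∀ x, a (ι x) = ι (a₀ x)) (hb : ∀ x, b (ι x) = ι (b₀ x)) (h : Good p a₀ b₀) : Good p a b := by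
  let P : Subgroup (Perm Ω × Perm X) :=
    { carrier := {g | ∀ x, g.1 (ι x) = ι (g.2 x)}
      mul_mem' := fun {g h} hg hh x => by simp [hh x, hg _]
      one_mem' := fun _ => rfl
      inv_mem' := fun {g} hg x => by rw [Prod.fst_inv, Perm.inv_eq_iff_eq, hg]; simp }
  exact Good.map (f := (MonoidHom.fst _ _).comp P.subtype) (a := ⟨(a, a₀), ha⟩) (b := ⟨(b, b₀), hb⟩)
    ((injective_iff_map_eq_one _).2 fun g hg => Subtype.ext (Prod.ext hg (Equiv.ext fun x => hι (by
      rw [← g.2 x, show g.1.1 = 1 from hg]; rfl)))) (.of_map ((MonoidHom.snd _ _).comp P.subtype) h)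

theorem ext_sign {ι : Type*} [Fintype ι] [Fintype X] [DecidableEq X] {f g : ι → X} (hf : Function.Injective f)
    (hg : Function.Injective g) (h : Fintype.card ι + 2 ≤ Fintype.card X) (s : ℤˣ) :
    ∃ τ : Perm X, Perm.sign τ = s ∧ ∀ i, τ (f i) = g i := by
  obtain ⟨τ, hτ⟩ := Perm.exists_extending_pair f g hf hg
  obtain ⟨x, hx, y, hy, e⟩ := Finset.one_lt_card.1 (show 1 < (Finset.univ.image g)ᶜ.card by
    rw [Finset.card_compl, Finset.card_image_of_injective _ hg, Finset.card_univ]; omega)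
  by_cases hs : Perm.sign τ = s
  · exact ⟨τ, hs, hτ⟩
  · refine ⟨swap x y * τ, by rw [map_mul, Perm.sign_swap e, Int.units_ne_iff_eq_neg.1 hs]; simp, fun i => ?_⟩
    rw [Perm.mul_apply, hτ, swap_apply_of_ne_of_ne] <;> rintro rfl <;> simp at hx hy

theorem not_pow {g : Perm X} {x : X} {l : ℕ} (hl : l.Prime) (hp : p.Prime) (h : l ≠ p) (h1 : g x ≠ x)
    (h2 : (g ^ l) x = x) : ¬ ∃ k : ℕ, g ^ p ^ k = 1 := fun ⟨k, hk⟩ => h1 (by
  have := (show Function.IsPeriodicPt g l x by rwa [Function.IsPeriodicPt, Perm.iterate_eq_pow]).gcd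
    (show Function.IsPeriodicPt g (p ^ k) x by rw [Function.IsPeriodicPt, Perm.iterate_eq_pow, hk]; rfl)
  rwa [((Nat.coprime_primes hl hp).2 h).pow_right k] at this)

theorem good_zmod {c : ℕ} [hp : Fact p.Prime] (h3 : 3 ≤ p) (hc : 1 ≤ c) {v : Perm (ZMod (p ^ c))}
    (hv : ∃ j : ℕ, v ^ p ^ j = 1) {x : ZMod (p ^ c)} {l : ℕ} (hl : l.Prime) (h : l ≠ p) (h1 : v x + 1 ≠ x)
    (h2 : ((Equiv.addRight 1 * v : Perm _) ^ l) x = x)
    (h4 : 2 ≤ c → ∃ z, ∀ y, v (z + (p : ZMod (p ^ c)) ^ (c - 1)) ≠ v z + p * y) : Good p (Equiv.addRight 1) v := by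
  have k := not_pow hl hp.out h h1 h2
  refine ⟨k, fun hs => ?_⟩
  rcases ns h3 hc (G := closure {Equiv.addRight 1, v}) ⟨_, subset_closure (.inl rfl)⟩ ⟨v, subset_closure (.inr rfl)⟩
    (fun _ => rfl) (hv.imp fun j hj => Subtype.ext hj) with e | ⟨h5, e⟩
  · refine k ⟨c, Equiv.ext fun y => ?_⟩
    have : ∀ i : ℕ, ((Equiv.addRight 1 * v : Perm _) ^ i) y = y + i * (v 0 + 1) := fun i => by
      induction i with
      | zero => simp
      | succ i ih => rw [pow_succ', Perm.mul_apply, ih, Perm.mul_apply, show v _ = _ + v 0 from e _]; simp; ring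
    rw [this]; simp [-Nat.cast_pow]
  · obtain ⟨z, hz⟩ := h4 h5
    exact (e z).elim hz

theorem exists_arrow [Fintype X] [DecidableEq X] (w : Perm X) (s : Finset X) (h : 2 * s.card < Fintype.card X) :
    ∃ b, b ∉ s ∧ w b ∉ s := by
  obtain ⟨b, hb⟩ := Finset.card_pos.1 (show 0 < (s ∪ s.image w.symm)ᶜ.card by
    have := (Finset.card_union_le s _).trans (Nat.add_le_add_left (Finset.card_image_le (s := s) (f := w.symm)) _)
    rw [Finset.card_compl]; omega)
  simp only [Finset.mem_compl, Finset.mem_union, Finset.mem_image, not_or, not_exists, not_and] at hb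
  exact ⟨b, hb.1, fun h => hb.2 _ h (by simp)⟩

/-- A good conjugate of either sign. -/
def Both (p : ℕ) [Fintype X] [DecidableEq X] (a b : Perm X) : Prop :=
  ∀ s : ℤˣ, ∃ τ : Perm X, Perm.sign τ = s ∧ Good p a (τ * b * τ⁻¹)

theorem inj_cast {m r : ℕ} {f : Fin r → ℕ} (hf : Function.Injective f) (h : ∀ i, f i < m) :
    Function.Injective fun i => (f i : ZMod m) := fun i j e => hf (by
  rwa [ZMod.natCast_eq_natCast_iff', Nat.mod_eq_of_lt (h i), Nat.mod_eq_of_lt (h j)] at e)

theorem good_two {c : ℕ} [hp : Fact p.Prime] (h3 : 3 ≤ p) (hc : 1 ≤ c) {w τ : Perm (ZMod (p ^ c))}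
    (hw : ∃ j : ℕ, w ^ p ^ j = 1) {a b : ZMod (p ^ c)} (h0 : τ a = 0) (h1 : τ (w a) + 1 = τ b) (h2 : τ (w b) + 1 = 0)
    (h : a ≠ b) (h4 : 2 ≤ c → ∃ x z, τ z = τ x + (p : ZMod (p ^ c)) ^ (c - 1) ∧ ∀ y, τ (w z) ≠ τ (w x) + p * y) :
    Good p (Equiv.addRight 1) (τ * w * τ⁻¹) :=
  good_zmod (x := τ a) h3 hc (hw.imp fun j hj => by rw [conj_pow, hj]; simp) Nat.prime_two (by omega)
    (by simpa [h1] using h.symm) (by simp [sq, h1, h2, ← h0]) fun h => by
      obtain ⟨x, z, e, h⟩ := h4 h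
      exact ⟨τ x, by simpa [← e] using h⟩

theorem shift_pow (m : ℕ) : (Equiv.addRight (1 : ZMod m)) ^ m = 1 := by
  have : ∀ (i : ℕ) (y : ZMod m), ((Equiv.addRight (1 : ZMod m)) ^ i) y = y + i := fun i y => by
    induction i with
    | zero => simp
    | succ i ih => rw [pow_succ', Perm.mul_apply, ih]; simp [add_assoc]
  exact Equiv.ext fun y => by simp [this]

theorem good_five {τ : Perm (ZMod 5)} {l : ℕ} (hl : l.Prime) (h : l ≠ 5) (h1 : (τ * Equiv.addRight 1 * τ⁻¹ : Perm _) 0 + 1 ≠ 0)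
    (h2 : ((Equiv.addRight 1 * (τ * Equiv.addRight 1 * τ⁻¹) : Perm _) ^ l) 0 = 0) :
    Good 5 (Equiv.addRight (1 : ZMod 5)) (τ * Equiv.addRight 1 * τ⁻¹) :=
  good_zmod (hp := ⟨Nat.prime_five⟩) (c := 1) (by omega) le_rfl ⟨1, by
    exact conj_pow.trans (by rw [show (Equiv.addRight (1 : ZMod 5)) ^ 5 ^ 1 = 1 from shift_pow 5]; simp)⟩ hl h h1 h2 (by omega)

theorem core_five : Both 5 (Equiv.addRight (1 : ZMod 5)) (Equiv.addRight 1) := fun s => by
  rcases Int.units_eq_one_or s with rfl | rfl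
  · exact ⟨swap 1 2 * swap 3 4, by decide, good_five Nat.prime_three (by omega) (by decide) (by decide)⟩
  · exact ⟨swap 3 4, by decide, good_five Nat.prime_two (by omega) (by decide) (by decide)⟩

theorem coreA [hp : Fact p.Prime] (h5 : 5 ≤ p) : Both p (Equiv.addRight (1 : ZMod (p ^ 1))) (Equiv.addRight 1) := by
  intro s
  rcases h5.eq_or_lt with rfl | h7
  · exact core_five s
  have h6 : p ≠ 6 := by rintro rfl; exact absurd hp.out (by decide)
  have i1 := inj_cast (m := p ^ 1) (f := ![0, 1, 2, 3]) (by decide) fun i => by fin_cases i <;> simp <;> omega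
  obtain ⟨τ, h1, h2⟩ := ext_sign i1
    (inj_cast (m := p ^ 1) (f := ![0, 1, 2, p ^ 1 - 1]) (fun i j => by fin_cases i <;> fin_cases j <;> simp <;> omega)
      fun i => by fin_cases i <;> simp <;> omega) (by simp; omega) s
  have e1 : τ (0 + 1) = 1 := by simpa using h2 1
  have e2 : τ 2 = 2 := by simpa using h2 2
  have e3 : τ (2 + 1) = (p ^ 1 - 1 : ℕ) := by have := h2 3; norm_num at this ⊢; exact this
  refine ⟨τ, h1, good_two (a := 0) (b := 2) (by omega) le_rfl ⟨1, shift_pow _⟩ (by simpa using h2 0) ?_ ?_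
    (by simpa using i1.ne (show (0 : Fin 4) ≠ 2 by decide)) (by omega)⟩
  · simp only [coe_addRight]
    rw [e1, e2]; norm_num
  · simp only [coe_addRight]
    rw [e3, Nat.cast_pred (pow_pos hp.out.pos _), ZMod.natCast_self]; simp

theorem coreB {c : ℕ} [hp : Fact p.Prime] (h3 : 3 ≤ p) (hc : 2 ≤ c) {w : Perm (ZMod (p ^ c))} (hw : ∃ j : ℕ, w ^ p ^ j = 1)
    (w1 : w ≠ 1) : Both p (Equiv.addRight 1) w := by
  intro s
  obtain ⟨a, ha⟩ := not_forall.1 fun h => w1 (Equiv.ext h)
  replace ha : w a ≠ a := ha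
  obtain ⟨k, hk⟩ : ∃ k, k = p ^ (c - 1) := ⟨_, rfl⟩
  have k1 : 3 ≤ k := hk ▸ h3.trans (Nat.le_self_pow (by omega) p)
  have k2 : k * 3 ≤ p ^ c := by
    rw [show c = c - 1 + 1 by omega, pow_succ, ← hk]; exact Nat.mul_le_mul_left _ h3
  have k3 : (k : ZMod (p ^ c)) = p * p ^ (c - 2) := by rw [hk, ← pow_succ', show c - 2 + 1 = c - 1 by omega]; simp
  have k4 : (p : ZMod (p ^ c)) ^ (c - 1) = k := by simp [hk]
  have k5 : ∀ y : ZMod (p ^ c), 1 ≠ p * y := fun y h => by
    have := congrArg (ZMod.castHom (dvd_pow_self p (by omega : c ≠ 0)) (ZMod p)) h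
    simp [-ZMod.castHom_apply] at this
  have k6 : ∀ y : ZMod (p ^ c), 2 ≠ p * y := fun y h => by
    have := congrArg (ZMod.castHom (dvd_pow_self p (by omega : c ≠ 0)) (ZMod p)) h
    rw [map_mul, map_natCast, ZMod.natCast_self, zero_mul, map_ofNat] at this
    exact absurd (Nat.le_of_dvd two_pos ((ZMod.natCast_eq_zero_iff 2 p).1 this)) (by omega)
  have k7 : ((p ^ c - 1 : ℕ) : ZMod (p ^ c)) = -1 := by rw [Nat.cast_pred (pow_pos hp.out.pos _)]; simp [-Nat.cast_pow]
  have cd : Fintype.card (ZMod (p ^ c)) = p ^ c := ZMod.card _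
  by_cases hb : ∃ b, w b = b
  · obtain ⟨b, hb⟩ := hb
    have b1 : b ≠ a := fun h => ha (h ▸ hb)
    have b2 : b ≠ w a := fun h => b1 (w.injective (hb.trans h))
    obtain ⟨d, d1, d2⟩ := exists_arrow w {b, a, w a} (by have := Finset.card_le_three (a := b) (b := a) (c := w a); omega)
    simp only [Finset.mem_insert, Finset.mem_singleton, not_or] at d1 d2
    by_cases hd : w d = d
    · obtain ⟨τ, h1, h2⟩ := ext_sign (f := ![b, a, w a, d]) (fun i j => by fin_cases i <;> fin_cases j <;> simp <;> grind)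
        (inj_cast (m := p ^ c) (f := ![0, 1, p ^ c - 1, k + 1]) (fun i j => by fin_cases i <;> fin_cases j <;> simp <;> omega)
          fun i => by fin_cases i <;> simp <;> omega) (by simp; omega) s
      have e0 : τ b = 0 := by simpa using h2 0
      have e1 : τ a = 1 := by simpa using h2 1
      have e2 : τ (w a) = -1 := (h2 2).trans k7
      have e3 : τ d = k + 1 := by simpa using h2 3
      exact ⟨τ, h1, good_two h3 (by omega) hw e0 (by simp [hb, e0, e1]) (by simp [e2]) b1 fun _ =>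
        ⟨a, d, by rw [e1, e3, k4, add_comm], fun y h => k6 (y - p ^ (c - 2)) (by
          rw [hd, e2, e3, k3] at h; linear_combination h)⟩⟩
    · obtain ⟨τ, h1, h2⟩ := ext_sign (f := ![b, a, w a, d, w d]) (fun i j => by fin_cases i <;> fin_cases j <;> simp <;> grind)
        (inj_cast (m := p ^ c) (f := ![0, 1, p ^ c - 1, k + 1, k]) (fun i j => by fin_cases i <;> fin_cases j <;> simp <;> omega)
          fun i => by fin_cases i <;> simp <;> omega) (by simp; omega) s
      have e0 : τ b = 0 := by simpa using h2 0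
      have e1 : τ a = 1 := by simpa using h2 1
      have e2 : τ (w a) = -1 := (h2 2).trans k7
      have e3 : τ d = k + 1 := by simpa using h2 3
      have e4 : τ (w d) = k := h2 4
      exact ⟨τ, h1, good_two h3 (by omega) hw e0 (by simp [hb, e0, e1]) (by simp [e2]) b1 fun _ =>
        ⟨a, d, by rw [e1, e3, k4, add_comm], fun y h => k5 (y - p ^ (c - 2)) (by
          rw [e2, e4, k3] at h; linear_combination h)⟩⟩
  push Not at hb
  obtain ⟨b, b1, b2⟩ := exists_arrow w {a, w a} (by have := Finset.card_le_two (a := a) (b := w a); omega)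
  obtain ⟨d, d1, d2⟩ := exists_arrow w {a, w a, b, w b} (by
    have := Finset.card_le_four (a := a) (b := w a) (c := b) (d := w b); omega)
  simp only [Finset.mem_insert, Finset.mem_singleton, not_or] at b1 b2 d1 d2
  have := hb b
  have := hb d
  obtain ⟨τ, h1, h2⟩ := ext_sign (f := ![a, w a, b, w b, d, w d]) (fun i j => by fin_cases i <;> fin_cases j <;> simp <;> grind)
    (inj_cast (m := p ^ c) (f := ![0, 1, 2, p ^ c - 1, k, k * 2]) (fun i j => by fin_cases i <;> fin_cases j <;> simp <;> omega)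
      fun i => by fin_cases i <;> simp <;> omega) (by simp; omega) s
  have e0 : τ a = 0 := by simpa using h2 0
  have e1 : τ (w a) = 1 := by simpa using h2 1
  have e2 : τ b = 2 := by simpa using h2 2
  have e3 : τ (w b) = -1 := (h2 3).trans k7
  have e4 : τ d = k := h2 4
  have e5 : τ (w d) = k * 2 := by simpa using h2 5
  exact ⟨τ, h1, good_two h3 (by omega) hw e0 (by rw [e1, e2]; norm_num) (by simp [e3]) (Ne.symm b1.1) fun _ =>
    ⟨a, d, by rw [e0, e4, k4, zero_add], fun y h => k5 (p ^ (c - 2) * 2 - y) (by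
      rw [e1, e5, k3] at h; linear_combination -h)⟩⟩

end Cfsg.Agent.H3.AltP
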