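import Cfsg.Agent.H3.AltP2

/-! Pairs of `p`-elements of the alternating group generating a non-solvable group: the theorem. -/

set_option autoImplicit false

namespace Cfsg.Agent.H3.AltP

open Equiv Subgroup
open scoped commutatorElement

variable {X Ω : Type*} {p : ℕ}

theorem Both.of_odd [Fintype X] [DecidableEq X] {a b : Perm X} (τ r : Perm X) (h1 : r * b * r⁻¹ = b) (h2 : Perm.sign r = -1)
    (h : Good p a (τ * b * τ⁻¹)) : Both p a b := fun s => by
  by_cases hs : Perm.sign τ = s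
  · exact ⟨τ, hs, h⟩
  · exact ⟨τ * r, by rw [map_mul, h2, Int.units_ne_iff_eq_neg.1 hs]; simp, by
      rwa [show τ * r * b * (τ * r)⁻¹ = τ * (r * b * r⁻¹) * τ⁻¹ by group, h1]⟩

theorem Both.emb [Fintype X] [DecidableEq X] [Fintype Ω] [DecidableEq Ω] {ι κ : X → Ω} (hι : Function.Injective ι)
    (hκ : Function.Injective κ) {a b : Perm Ω} {a₀ b₀ : Perm X} (ha : ∀ x, a (ι x) = ι (a₀ x))
    (hb : ∀ x, b (κ x) = κ (b₀ x)) (h : Both p a₀ b₀) : Both p a b := fun s => by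
  obtain ⟨σ, hσ⟩ := Perm.exists_extending_pair κ ι hκ hι
  obtain ⟨τ, h1, h2⟩ := h (s * Perm.sign σ)
  refine ⟨τ.viaFintypeEmbedding ⟨ι, hι⟩ * σ, by
    rw [map_mul, Perm.viaFintypeEmbedding_sign, h1, mul_assoc, Int.units_mul_self, mul_one], h2.of_emb hι ha fun x => ?_⟩
  have e : ∀ x, (τ.viaFintypeEmbedding ⟨ι, hι⟩ * σ) (κ x) = ι (τ x) := fun x => by
    rw [Perm.mul_apply, hσ]; exact Perm.viaFintypeEmbedding_apply_image τ ⟨ι, hι⟩ x
  obtain ⟨x, rfl⟩ := τ.surjective x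
  rw [← e, Perm.mul_apply, Perm.mul_apply, Perm.inv_def, symm_apply_apply, hb, e]; simp

theorem Both.symm [Fintype X] [DecidableEq X] {a b : Perm X} (h : Both p a b) : Both p b a := fun s => by
  obtain ⟨τ, h1, h2⟩ := h s
  exact ⟨τ⁻¹, by simpa using h1, h2.symm.of_emb τ⁻¹.injective (by simp) (by simp)⟩

theorem good_three {a b : Perm X} {x : X} (h1 : (a * b) x ≠ x) (h2 : ((a * b) ^ 5) x = x) (ha : a ≠ 1)
    (h : (a = ⁅b * a * a * b, b * a * b⁆ ∧ b = ⁅a * b * a * a, a * b * a⁆) ∨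
      (a = ⁅b * a * b * a * a * b * a * b * b, a⁆ ∧ b = ⁅a * a * b * a * b * b * a * b * a, b⁆)) : Good 3 a b := by
  refine ⟨not_pow Nat.prime_five Nat.prime_three (by omega) h1 h2, fun hs => ?_⟩
  have a1 : a ∈ closure {a, b} := subset_closure (.inl rfl)
  have b1 : b ∈ closure {a, b} := subset_closure (.inr rfl)
  have := (map_lt_map_iff_of_injective (closure {a, b}).subtype_injective).2
    (Group.IsSolvable.commutator_lt_of_ne_bot (H := (⊤ : Subgroup (closure {a, b}))) fun e =>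
      ha congr(($((Subgroup.eq_bot_iff_forall _).1 e ⟨a, a1⟩ trivial)).1))
  rw [map_commutator, ← MonoidHom.range_eq_map, range_subtype] at this
  refine this.not_ge ((closure_le _).2 ?_)
  have k : ∀ {x y z : Perm X}, z = ⁅x, y⁆ → x ∈ closure {a, b} → y ∈ closure {a, b} → z ∈ ⁅closure {a, b}, closure {a, b}⁆ :=
    fun e hx hy => e ▸ commutator_mem_commutator hx hy
  rcases h with ⟨e1, e2⟩ | ⟨e1, e2⟩ <;> refine Set.pair_subset (k e1 ?_ ?_) (k e2 ?_ ?_) <;>
    repeat' first | exact a1 | exact b1 | apply Subgroup.mul_mem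

theorem conj_three [Fintype X] [DecidableEq X] {a b : Perm X} (a3 : a ^ 3 = 1) (a1 : a ≠ 1) (b3 : b ^ 3 = 1) (b1 : b ≠ 1) :
    (∃ t, a.support.card = (t + 1) * 3) ∧ (a.support.card = b.support.card → ∃ σ : Perm X, ∀ x, a (σ x) = σ (b x)) := by
  have := Fact.mk Nat.prime_three
  obtain ⟨t, ht⟩ := Perm.cycleType_prime_order (orderOf_eq_prime a3 a1 ▸ Nat.prime_three)
  obtain ⟨r, hr⟩ := Perm.cycleType_prime_order (orderOf_eq_prime b3 b1 ▸ Nat.prime_three)
  rw [orderOf_eq_prime a3 a1] at ht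
  rw [orderOf_eq_prime b3 b1] at hr
  rw [← Perm.sum_cycleType, ← Perm.sum_cycleType, ht, hr]
  simp only [Multiset.sum_replicate, smul_eq_mul]
  refine ⟨⟨t, rfl⟩, fun h => ?_⟩
  obtain ⟨σ, hσ⟩ := isConj_iff.1 (Perm.isConj_iff_cycleType_eq.2 (show b.cycleType = a.cycleType by
    rw [ht, hr, show t = r by omega]))
  exact ⟨σ, fun x => by simp [← hσ]⟩

set_option maxRecDepth 100000 in
theorem core5 {a b : Perm (Fin 5)} (a3 : a ^ 3 = 1) (a1 : a ≠ 1) (b3 : b ^ 3 = 1) (b1 : b ≠ 1) : Both 3 a b := by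
  have k : ∀ {a : Perm (Fin 5)}, a ^ 3 = 1 → a ≠ 1 → ∃ σ : Perm (Fin 5), ∀ x, a (σ x) = σ (c[0, 1, 2] x) := fun {a} a3 a1 => by
    obtain ⟨⟨t, ht⟩, h⟩ := conj_three (b := c[0, 1, 2]) a3 a1 (by decide) (by decide)
    have := a.support.card_le_univ
    rw [Fintype.card_fin] at this
    exact h (by rw [show (c[0, 1, 2] : Perm (Fin 5)).support.card = 3 by decide]; omega)
  obtain ⟨σ, hσ⟩ := k a3 a1
  obtain ⟨τ, hτ⟩ := k b3 b1
  exact .emb σ.injective τ.injective hσ hτ (.of_odd (swap 1 3 * swap 2 4) (swap 3 4) (by decide) (by decide)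
    (good_three (x := 0) (by decide) (by decide) (by decide) (.inl (by decide))))

set_option maxRecDepth 100000 in
theorem core6 {a b : Perm (Fin 6)} (a3 : a ^ 3 = 1) (a1 : a ≠ 1) (b3 : b ^ 3 = 1) (b1 : b ≠ 1) : Both 3 a b := by
  have k : ∀ {a : Perm (Fin 6)}, a ^ 3 = 1 → a ≠ 1 → ∃ σ : Perm (Fin 6), (∀ x, a (σ x) = σ (c[0, 1, 2] x)) ∨
      ∀ x, a (σ x) = σ ((c[0, 1, 2] * c[3, 4, 5] : Perm (Fin 6)) x) := fun {a} a3 a1 => by
    obtain ⟨⟨t, ht⟩, h⟩ := conj_three (b := c[0, 1, 2]) a3 a1 (by decide) (by decide)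
    obtain ⟨-, h'⟩ := conj_three (b := c[0, 1, 2] * c[3, 4, 5]) a3 a1 (by decide) (by decide)
    have := a.support.card_le_univ
    rw [Fintype.card_fin] at this
    rw [show (c[0, 1, 2] : Perm (Fin 6)).support.card = 3 by decide] at h
    rw [show (c[0, 1, 2] * c[3, 4, 5] : Perm (Fin 6)).support.card = 6 by decide] at h'
    by_cases h0 : t = 0
    exacts [(h (by omega)).imp fun _ => .inl, (h' (by omega)).imp fun _ => .inr]
  have m : Both 3 (c[0, 1, 2] * c[3, 4, 5] : Perm (Fin 6)) c[0, 1, 2] := .of_odd c[1, 2, 3] (swap 3 4) (by decide) (by decide)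
    (good_three (x := 1) (by decide) (by decide) (by decide) (.inr (by decide)))
  obtain ⟨σ, hσ | hσ⟩ := k a3 a1 <;> obtain ⟨τ, hτ | hτ⟩ := k b3 b1 <;> refine .emb σ.injective τ.injective hσ hτ ?_
  · exact .of_odd (swap 1 3 * swap 2 4) (swap 3 4) (by decide) (by decide)
      (good_three (x := 0) (by decide) (by decide) (by decide) (.inl (by decide)))
  · exact m.symm
  · exact m
  · exact .of_odd (swap 2 3 * swap 4 5) (swap 0 3 * swap 1 4 * swap 2 5) (by decide) (by decide)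
      (good_three (x := 0) (by decide) (by decide) (by decide) (.inl (by decide)))

open Function MulAction in
theorem exists_restrict [Fintype X] [Fintype Ω] (hp : p.Prime) {w : Perm Ω} {j : ℕ} (hw : w ^ p ^ j = 1) (w1 : w ≠ 1)
    (hM : ∀ x, minimalPeriod w x ∣ Fintype.card X) (hX : Fintype.card X ≤ Fintype.card Ω) (h0 : 0 < Fintype.card X) :
    ∃ (ι : X → Ω) (w₀ : Perm X), Injective ι ∧ (∀ x, w (ι x) = ι (w₀ x)) ∧ w₀ ≠ 1 ∧ w₀ ^ p ^ j = 1 := by
  classical
  have d1 : ∀ x, ∃ i, minimalPeriod w x = p ^ i := fun x =>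
    ((Nat.dvd_prime_pow hp).1 (IsPeriodicPt.minimalPeriod_dvd (n := p ^ j) (by
      rw [IsPeriodicPt, Perm.iterate_eq_pow, hw]; rfl))).imp fun _ h => h.2
  have d2 : ∀ x y, minimalPeriod w x ≤ minimalPeriod w y → minimalPeriod w x ∣ minimalPeriod w y := fun x y h => by
    obtain ⟨i, hi⟩ := d1 x
    obtain ⟨k, hk⟩ := d1 y
    rw [hi, hk] at h ⊢
    exact pow_dvd_pow _ ((Nat.pow_le_pow_iff_right hp.one_lt).1 h)
  have d3 : ∀ x, (orbit (zpowers w) x).toFinset.card = minimalPeriod w x := fun x => by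
    rw [Set.toFinset_card]; exact (minimalPeriod_eq_card w x).symm
  have d4 : ∀ x y, w y ∈ orbit (zpowers w) x ↔ y ∈ orbit (zpowers w) x := fun x y => by
    have : w y ∈ orbit (zpowers w) y := mem_orbit y (⟨w, mem_zpowers w⟩ : zpowers w)
    rw [← orbit_eq_iff, ← orbit_eq_iff, orbit_eq_iff.2 this]
  obtain ⟨z, hz⟩ := not_forall.1 fun h => w1 (Equiv.ext h)
  obtain ⟨a, -, ha⟩ := Finset.exists_max_image Finset.univ (minimalPeriod w) ⟨z, Finset.mem_univ z⟩
  obtain ⟨Γ, ⟨g1, g2, g3, g4⟩, hΓ⟩ := (Set.toFinite {Γ : Finset Ω | (∀ y, w y ∈ Γ ↔ y ∈ Γ) ∧ a ∈ Γ ∧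
      Γ.card ≤ Fintype.card X ∧ ∀ y ∉ Γ, minimalPeriod w y ∣ Γ.card}).exists_maximalFor Finset.card _
    ⟨(orbit (zpowers w) a).toFinset, by simpa using d4 a, by simp [mem_orbit_self], d3 a ▸ Nat.le_of_dvd h0 (hM a),
      fun y _ => d3 a ▸ d2 y a (ha y (Finset.mem_univ y))⟩
  have g5 : Γ.card = Fintype.card X := by
    by_contra hne
    obtain ⟨b, hb, hb'⟩ := Finset.exists_max_image Γᶜ (minimalPeriod w) (Finset.card_pos.1 (by
      rw [Finset.card_compl]; omega))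
    rw [Finset.mem_compl] at hb
    have e : (Γ ∪ (orbit (zpowers w) b).toFinset).card = Γ.card + minimalPeriod w b := by
      rw [Finset.card_union_of_disjoint (Finset.disjoint_right.2 fun y hy h => hb ?_), d3]
      obtain ⟨⟨_, k, rfl⟩, rfl⟩ := Set.mem_toFinset.1 hy
      exact ((Perm.subtypePerm w g1 ^ (-k)) ⟨_, h⟩).2 |> fun h => by simpa [Subgroup.smul_def] using h
    obtain ⟨i, hi⟩ := d1 b
    have := hΓ (j := Γ ∪ (orbit (zpowers w) b).toFinset) ⟨fun y => by simp [g1, d4], by simp [g2], by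
      rw [e]; exact Nat.add_le_of_le_sub' g3 (Nat.le_of_dvd (by omega) (Nat.dvd_sub (hM b) (g4 b hb))), fun y hy => by
        have := d2 y b (hb' y (Finset.mem_compl.2 fun h => hy (by simp [h])))
        rw [e]; exact dvd_add (this.trans (g4 b hb)) this⟩ (by omega)
    have := pow_pos hp.pos i
    omega
  let e : X ≃ Γ := Fintype.equivOfCardEq (by simp [g5])
  refine ⟨fun x => e x, e.symm.permCongr (w.subtypePerm g1), Subtype.val_injective.comp e.injective, by simp, fun h => hz ?_, ?_⟩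
  · have h1 : w a = a := by simpa [Subtype.ext_iff] using congr(e ($h (e.symm ⟨a, g2⟩)))
    have h2 := ha z (Finset.mem_univ z)
    obtain ⟨i, hi⟩ := d1 z
    have := pow_pos hp.pos i
    rw [minimalPeriod_eq_one_iff_isFixedPt.2 h1] at h2
    exact minimalPeriod_eq_one_iff_isFixedPt.1 (by omega)
  · rw [← permCongrHom_coe, ← map_pow, Perm.subtypePerm_pow]; ext; simp [hw]

open Function in
theorem exists_cyc {u : Perm Ω} {a : Ω} {m : ℕ} [NeZero m] (h : minimalPeriod u a = m) :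
    ∃ ι : ZMod m → Ω, Injective ι ∧ ∀ i, u (ι i) = ι (Equiv.addRight 1 i) :=
  ⟨fun i => u^[i.val] a, fun i j e => ZMod.val_injective m
    (iterate_injOn_Iio_minimalPeriod (h ▸ i.val_lt) (h ▸ j.val_lt) e), fun i => by
      beta_reduce
      rw [show Equiv.addRight 1 i = (i.val + 1 : ℕ) by simp, ZMod.val_natCast,
        show (i.val + 1) % m = (i.val + 1) % minimalPeriod u a by rw [h], iterate_mod_minimalPeriod_eq,
        iterate_succ_apply']⟩

open Function in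
theorem main [Fintype Ω] [DecidableEq Ω] (h5 : 5 ≤ Fintype.card Ω) (hp : p.Prime) (h3 : 3 ≤ p) {u w : Perm Ω}
    (hu : ∃ j : ℕ, u ^ p ^ j = 1) (u1 : u ≠ 1) (hw : ∃ j : ℕ, w ^ p ^ j = 1) (w1 : w ≠ 1) : Both p u w := by
  have := Fact.mk hp
  have k : ∀ {u : Perm Ω}, (∃ j : ℕ, u ^ p ^ j = 1) → u ≠ 1 →
      ∃ a c, 1 ≤ c ∧ minimalPeriod u a = p ^ c ∧ ∀ x, minimalPeriod u x ∣ p ^ c := fun {u} ⟨j, hu⟩ u1 => by
    have d1 : ∀ x, ∃ i, minimalPeriod u x = p ^ i := fun x =>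
      ((Nat.dvd_prime_pow hp).1 (IsPeriodicPt.minimalPeriod_dvd (n := p ^ j) (by
        rw [IsPeriodicPt, Perm.iterate_eq_pow, hu]; rfl))).imp fun _ h => h.2
    choose i hi using d1
    obtain ⟨z, hz⟩ := not_forall.1 fun h => u1 (Equiv.ext h)
    obtain ⟨a, -, ha⟩ := Finset.exists_max_image Finset.univ i ⟨z, Finset.mem_univ z⟩
    refine ⟨a, i a, by_contra fun h => hz (minimalPeriod_eq_one_iff_isFixedPt.1 ?_), hi a,
      fun x => hi x ▸ pow_dvd_pow _ (ha x (Finset.mem_univ x))⟩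
    rw [hi, show i z = 0 by have := ha z (Finset.mem_univ z); omega, pow_zero]
  obtain ⟨a, c, c1, ha, ha'⟩ := k hu u1
  obtain ⟨b, d, d1, hb, hb'⟩ := k hw w1
  wlog h : d ≤ c generalizing u w a b c d
  · exact (this hw w1 hu u1 b d d1 hb hb' a c c1 ha ha' (by omega)).symm
  obtain ⟨ι, i1, i2⟩ := exists_cyc ha
  rcases c1.eq_or_lt with rfl | c2
  · obtain rfl : d = 1 := by omega
    obtain ⟨κ, k1, k2⟩ := exists_cyc hb
    rcases h3.eq_or_lt with rfl | p4
    · have e : ∀ {u : Perm Ω}, (∀ x, minimalPeriod u x ∣ 3 ^ 1) → u ^ 3 ^ 1 = 1 := fun h => Equiv.ext fun x =>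
        isPeriodicPt_iff_minimalPeriod_dvd.2 (h x)
      rcases h5.eq_or_lt with h5 | h6
      · let e' := (Fintype.equivFinOfCardEq h5.symm).symm
        have e1 : ∀ {u : Perm Ω}, u ≠ 1 → e'.symm.permCongr u ≠ 1 := fun h => by
          rwa [← permCongrHom_coe, Ne, map_eq_one_iff _ (MulEquiv.injective _)]
        have e2 : ∀ {u : Perm Ω}, u ^ 3 = 1 → e'.symm.permCongr u ^ 3 = 1 := fun h => by
          rw [← permCongrHom_coe, ← map_pow, h, map_one]
        exact .emb e'.injective e'.injective (by simp) (by simp) (core5 (e2 (e ha')) (e1 u1) (e2 (e hb')) (e1 w1))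
      · obtain ⟨ι, u₀, i1, i2, i3, i4⟩ := exists_restrict (X := Fin 6) hp (e ha') u1
          (fun x => (ha' x).trans (by decide)) h6 (by simp)
        obtain ⟨κ, w₀, k1, k2, k3, k4⟩ := exists_restrict (X := Fin 6) hp (e hb') w1
          (fun x => (hb' x).trans (by decide)) h6 (by simp)
        exact .emb i1 k1 i2 k2 (core6 i4 i3 k4 k3)
    · exact .emb i1 k1 i2 k2 (coreA (by_contra fun h => absurd hp (by rw [show p = 4 by omega]; decide)))
  obtain ⟨j, hj⟩ := hw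
  obtain ⟨κ, w₀, k1, k2, k3, k4⟩ := exists_restrict (X := ZMod (p ^ c)) hp hj w1
    (fun x => (hb' x).trans (by simpa using pow_dvd_pow p h)) (Fintype.card_le_of_injective ι i1) Fintype.card_pos
  exact .emb i1 k1 i2 k2 (coreB h3 c2 ⟨j, k4⟩ k3)

end Cfsg.Agent.H3.AltP
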