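import Cfsg.Agent.FLAV.U1
import Cfsg.Agent.H49.Quot
import Cfsg.Agent.H44.Layer
import Cfsg.Agent.S0227
import Cfsg.Agent.S0033

/-! Perfect groups normalized by a coprime element of prime order: tools. -/

set_option autoImplicit false
set_option linter.unusedSectionVars false

namespace Cfsg.Agent.H3.Lay

open Subgroup H49 FLAV
open scoped commutatorElement

universe u

variable {X : Type u} [Group X] [Finite X] {p r : ℕ} {G A B K N V T U : Subgroup X} {σ : X}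

/-- The automorphisms of `N` induced by `A`. -/
def au (N A : Subgroup X) : Subgroup (MulAut N) := (A.subgroupOf 𝒩(N)).map N.normalizerMonoidHom

theorem au_apply (x : ↥𝒩(N)) (n : N) : (N.normalizerMonoidHom x n : X) = x * n * (x : X)⁻¹ := rfl

theorem au_comm (hA : A ≤ 𝒩(N)) (hB : B ≤ 𝒩(N)) : au N ⁅A, B⁆ = ⁅au N A, au N B⁆ := by
  rw [au, subgroupOf_commutator hA hB, map_commutator]; rfl

theorem cent_of_au (hA : A ≤ 𝒩(N)) (h : au N A = ⊥) : A ≤ 𝒞(N) := fun a ha => by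
  have : (⟨a, hA ha⟩ : ↥𝒩(N)) ∈ N.normalizerMonoidHom.ker :=
    (Subgroup.map_eq_bot_iff _).1 h (show (⟨a, hA ha⟩ : ↥𝒩(N)) ∈ A.subgroupOf _ from ha)
  rwa [normalizerMonoidHom_ker] at this

theorem cent_of_au_solv (hA : A ≤ 𝒩(N)) (hp : ⁅A, A⁆ = A) (h : Group.IsSolvable (au N A)) :
    A ≤ 𝒞(N) :=
  cent_of_au hA (H44.eq_bot_of_perfect_of_solvable (by rw [← au_comm hA hA, hp]) h)

theorem au_zpowers (x : ↥𝒩(N)) : au N (zpowers (x : X)) = zpowers (N.normalizerMonoidHom x) := by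
  rw [au, ← MonoidHom.map_zpowers]
  congr 1
  ext y
  simp only [mem_subgroupOf, mem_zpowers_iff]
  exact ⟨fun ⟨k, hk⟩ => ⟨k, Subtype.ext hk⟩, fun ⟨k, hk⟩ => ⟨k, congrArg Subtype.val hk⟩⟩

theorem card_au_dvd (N A : Subgroup X) : Nat.card (au N A) ∣ Nat.card A :=
  (card_map_dvd _ _).trans (by rw [card_subgroupOf]; exact card_dvd_of_le inf_le_left)

theorem inv_au (x : ↥𝒩(N)) (h : (x : X) ∈ 𝒩(A)) : N.normalizerMonoidHom x ∈ 𝒩(au N A) := by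
  haveI : Finite (MulAut N) := Finite.of_injective _ MulEquiv.toEquiv_injective
  refine inv_of_forall ?_
  rintro _ ⟨y, hy, rfl⟩
  exact ⟨x * y * x⁻¹, cj_mem h hy, by simp only [map_mul, map_inv]⟩

/-- Thompson: a fixed point free element of prime order. -/
theorem solv_of_fpf (h : Cop r A σ) (hi : σ ∈ 𝒩(A)) (hf : A ⊓ 𝒞[σ] = ⊥) : Group.IsSolvable A := by
  have := S0033.aux h.pr A (A.normalizerMonoidHom ⟨σ, hi⟩) (fun g hg => Subtype.ext (by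
    have h1 : σ * g * σ⁻¹ = g := congrArg Subtype.val hg
    have h2 : (g : X) ∈ A ⊓ 𝒞[σ] := ⟨g.2, mem_cent1.2 (by rw [← mul_inv_eq_iff_eq_mul.1 h1])⟩
    rwa [hf, mem_bot] at h2)) (by
      rw [← map_pow, show (⟨σ, hi⟩ : ↥𝒩(A)) ^ r = 1 from Subtype.ext h.pow, map_one])
  infer_instance

section Quo

variable (hs : σ ∈ 𝒩(N))

theorem cop_quo (h : Cop r A σ) : Cop r (quo A N) (coset N ⟨σ, hs⟩) :=
  ⟨h.pr, by rw [← map_pow, show (⟨σ, hs⟩ : ↥𝒩(N)) ^ r = 1 from Subtype.ext h.pow, map_one],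
    fun e => h.cop (e.trans (card_quo_dvd A N))⟩

theorem zp_quo : quo (zpowers σ) N = zpowers (coset N ⟨σ, hs⟩) := quo_zpowers ⟨σ, hs⟩

theorem inv_quo (h : σ ∈ 𝒩(A)) : coset N ⟨σ, hs⟩ ∈ 𝒩(quo A N) :=
  inv_of_zn (zp_quo hs ▸ quo_norm N (zn h))

theorem kk_quo (hA : A ≤ 𝒩(N)) : kk (coset N ⟨σ, hs⟩) (quo A N) = quo (kk σ A) N := by
  rw [kk, kk, quo_commutator hA (zn hs), zp_quo hs]

theorem cent_quo (h : Cop r N σ) (hi : σ ∈ 𝒩(A)) :
    quo A N ⊓ 𝒞[coset N ⟨σ, hs⟩] = quo (A ⊓ 𝒞[σ]) N := by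
  rw [← cent_zpowers, ← cent_zpowers, ← zp_quo hs,
    coprime_quo_cent (zn hi) (zn hs) (h.copr le_rfl) (.inl (solv_zp σ))]

end Quo

/-- Central fixed points force solvability. -/
theorem solv_of_cen (h : Cop r A σ) (hi : σ ∈ 𝒩(A)) (hf : A ⊓ 𝒞[σ] ≤ 𝒞(A)) :
    Group.IsSolvable A := by
  have h1 : σ ∈ 𝒩(A ⊓ 𝒞(A)) := inv_inf hi (inv_cent hi)
  have h2 : A ≤ 𝒩(A ⊓ 𝒞(A)) := norm_inf le_normalizer (norm_cent le_normalizer)
  refine solvable_of_quo (solvable_of_abelian (H44.isMulCommutative_inf_centralizer A)) h2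
    (solv_of_fpf (cop_quo h1 h) (inv_quo h1 hi) ?_)
  rw [cent_quo h1 (h.mono inf_le_left) hi]
  exact quo_eq_bot_of_le (le_inf inf_le_left hf)

theorem le_of_solv (hp : ⁅A, A⁆ = A) (hA : A ≤ 𝒩(N)) (hB : B ≤ 𝒩(N)) (hs : Group.IsSolvable B)
    (h : A ≤ B ⊔ N) : A ≤ N :=
  (quo_eq_bot_iff hA).1 (H44.eq_bot_of_perfect_of_solvable (by rw [← quo_commutator hA hA, hp])
    (solvable_of_le (solvable_quo hs N) ((quo_le_quo_iff' hA hB).2 h)))

/-- Inner action centralizing the fixed points. -/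
theorem cent_of_inner (h : Cop r N σ) (hi : σ ∈ 𝒩(N)) (hK : K ≤ 𝒩(N)) (iK : σ ∈ 𝒩(K))
    (hp : ⁅K, K⁆ = K) (hin : K ≤ N ⊔ 𝒞(N)) (hf : N ⊓ 𝒞[σ] ≤ 𝒞(K)) : K ≤ 𝒞(N) := by
  have i1 : σ ∈ 𝒩(N ⊓ (K ⊔ 𝒞(N))) := inv_inf hi (inv_sup iK (inv_cent hi))
  refine le_of_solv (B := N ⊓ (K ⊔ 𝒞(N))) hp (norm_cent hK)
    (norm_cent (inf_le_left.trans le_normalizer)) (solv_of_cen (h.mono inf_le_left) i1 ?_) ?_
  · refine le_trans ?_ (cent_anti inf_le_right)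
    rw [cent_sup]
    exact le_inf ((inf_le_inf_right _ inf_le_left).trans hf)
      (cent_symm (cent_anti (inf_le_left.trans inf_le_left)))
  · intro k hk
    obtain ⟨n, hn, c, hc, rfl⟩ := (mem_sup_of_norm_right (norm_cent le_normalizer)).1 (hin hk)
    refine mul_mem (mem_sup_left ⟨hn, ?_⟩) (mem_sup_right hc)
    have := mul_mem (mem_sup_left hk : n * c ∈ K ⊔ 𝒞(N)) (mem_sup_right (inv_mem hc))
    rwa [mul_inv_cancel_right] at this

/-- Glauberman: a perfect group centralizing a Sylow 2-subgroup. -/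
theorem cent_of_sylow (hO : ∀ M ≤ N, N ≤ 𝒩(M) → Odd (Nat.card M) → M = ⊥) (hT : IsSylowOf 2 T N)
    (hA : A ≤ 𝒩(N)) (hp : ⁅A, A⁆ = A) (hc : A ≤ 𝒞(T)) : A ≤ 𝒞(N) := by
  obtain ⟨S, rfl⟩ := exists_sylow_of Nat.prime_two hT
  let C : Subgroup (MulAut N) :=
    { carrier := {φ | ∀ s : N, s ∈ S → φ s = s}
      one_mem' := fun _ _ => rfl
      mul_mem' := fun {a b} ha hb s hs => by rw [MulAut.mul_apply, hb s hs, ha s hs]
      inv_mem' := fun {a} ha s hs => by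
        rw [MulAut.inv_def, MulEquiv.symm_apply_eq, ha s hs] }
  have h1 := (S0227.result (fun M hM ho => (Subgroup.map_eq_bot_iff_of_injective M
    N.subtype_injective).1 (hO _ (map_subtype_le M) (norm_map_subtype M)
      (by rwa [card_map_of_injective N.subtype_injective]))) S C fun _ => Iff.rfl).2
  refine cent_of_au_solv hA hp (solvable_of_le h1 ?_)
  rintro _ ⟨y, hy, rfl⟩ s hs
  refine Subtype.ext ?_
  have h2 : (s : X) * y = y * s := hc hy s ⟨s, hs, rfl⟩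
  rw [au_apply, ← h2, mul_inv_cancel_right]

theorem cent_of_fpf (hV : IsPi {p} V) (iV : σ ∈ 𝒩(V)) (hf : V ⊓ 𝒞[σ] = ⊥) (h : Cop r A σ)
    (hA : A ≤ 𝒩(V)) (iA : σ ∈ 𝒩(A)) (hp : ⁅A, A⁆ = A) (hk : kk σ A = A) : A ≤ 𝒞(V) := by
  by_cases h0 : V = ⊥
  · rw [h0]; exact le_cent_bot A
  haveI := Fact.mk (hV.prime h0)
  haveI : Finite (MulAut V) := Finite.of_injective _ MulEquiv.toEquiv_injective
  set s := V.normalizerMonoidHom ⟨σ, iV⟩ with hs
  have h1 : PT p s (au V A) := pt_aut (hV.isPGroup Fact.out) h.pr (by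
      rw [← map_pow, show (⟨σ, iV⟩ : ↥𝒩(V)) ^ r = 1 from Subtype.ext h.pow, map_one])
    (fun g hg => Subtype.ext (by
      have h1 : σ * g * σ⁻¹ = g := congrArg Subtype.val hg
      have h2 : (g : X) ∈ V ⊓ 𝒞[σ] := ⟨g.2, mem_cent1.2 (by rw [← mul_inv_eq_iff_eq_mul.1 h1])⟩
      rwa [hf, mem_bot] at h2)) (inv_au _ iA) fun e => h.cop (e.trans (card_au_dvd V A))
  have h2 : kk s (au V A) = au V A := by
    rw [kk, hs, ← au_zpowers, ← au_comm hA (zn iV)]; exact congrArg _ hk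
  refine cent_of_au_solv hA hp (solvable_of_quo (solvable_of_nilpotent
    (piCoreOf_pi {p} (au V A)).nilpotent) (le_norm_piCoreOf _ _)
    (solvable_of_nilpotent (IsPi.nilpotent (p := 2) (isPi_of_elt ?_))))
  intro y hy
  obtain ⟨x, hx, rfl⟩ := mem_quo.1 hy
  obtain ⟨n, hn⟩ := h1 x (h2.symm ▸ hx)
  refine (isPiNat_singleton_pow Nat.prime_two n).of_dvd (orderOf_dvd_of_pow_eq_one ?_)
  rw [← map_pow]
  exact coset_eq_one_iff.2 hn

/-- The Hall–Higman–Shult theorem for a perfect group. -/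
theorem cent_of_pgroup (hV : IsPi {p} V) (iV : σ ∈ 𝒩(V)) (cV : Cop r V σ) (h : Cop r A σ)
    (hA : A ≤ 𝒩(V)) (iA : σ ∈ 𝒩(A)) (hp : ⁅A, A⁆ = A) (hk : kk σ A = A)
    (hf : V ⊓ 𝒞[σ] ≤ 𝒞(A)) : A ≤ 𝒞(V) := by
  set U := V ⊓ 𝒞(A) with hU
  have iU : σ ∈ 𝒩(U) := inv_inf iV (inv_cent iA)
  have aU : A ≤ 𝒩(U) := norm_inf hA (norm_cent le_normalizer)
  have iN : σ ∈ 𝒩(V ⊓ 𝒩(U)) := inv_inf iV (inv_norm iU)
  have aN : A ≤ 𝒩(V ⊓ 𝒩(U)) := norm_inf hA (norm_norm aU)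
  have h1 := cent_of_fpf ((hV.inf_left 𝒩(U)).quo U) (inv_quo iU iN) (by
      rw [cent_quo iU (cV.mono inf_le_left) iN]
      exact quo_eq_bot_of_le (le_inf (inf_le_left.trans inf_le_left)
        ((inf_le_inf_right _ inf_le_left).trans hf)))
    (cop_quo iU h) (quo_norm U aN) (inv_quo iU iA) (by rw [← quo_commutator aU aU, hp])
    (by rw [kk_quo iU aU, hk])
  have h2 := (quo_cent_iff aU inf_le_right).1 h1
  rw [commutator_comm] at h2
  have h3 := H44.commutator_eq_bot_of_perfect hp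
    (H49.commutator_eq_bot_iff.2 (h2.trans inf_le_right))
  have h4 := eq_of_inf_norm_le_of_nilpotent hV.nilpotent (inf_le_left : U ≤ V)
    (le_inf inf_le_left (H49.commutator_eq_bot_iff.1 h3))
  exact cent_symm (h4.ge.trans inf_le_right)

end Cfsg.Agent.H3.Lay
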