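import Cfsg.Agent.H3.Lay1
import Cfsg.Agent.S0205

/-! Locally quasisimple subgroups generated by commutators with a coprime element lie in the layer. -/

set_option autoImplicit false
set_option linter.unusedSectionVars false

namespace Cfsg.Agent.H3.Lay

open Subgroup H49 FLAV
open H44 hiding cj
open scoped commutatorElement

universe u

variable {X : Type u} [Group X] [Finite X] {p r : ℕ} {G A B K M N V T U Y : Subgroup X} {σ : X}

theorem le_of_le_sup_cen (hp : ⁅K, K⁆ = K) (h1 : N ≤ 𝒞(M)) (h2 : N ≤ 𝒞(N)) (h : K ≤ M ⊔ N) :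
    K ≤ M := by
  rw [← hp]
  refine (commutator_mono h h).trans ?_
  rw [commutator_sup_of_centralizes (H49.commutator_eq_bot_iff.2 h1) (H49.commutator_eq_bot_iff.2 h2)]
  exact der_le

theorem qs_der (h1 : N ≤ Y) (h2 : N ≤ 𝒞(Y)) (h : QS (quo Y N)) :
    QS ⁅Y, Y⁆ ∧ quo ⁅Y, Y⁆ N = quo Y N := by
  have hY : Y ≤ 𝒩(N) := norm_of_cent (cent_symm h2)
  have hD : ⁅Y, Y⁆ ≤ 𝒩(N) := der_le.trans hY
  have e : quo ⁅Y, Y⁆ N = quo Y N := by rw [quo_commutator hY hY, h.perfect]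
  have h3 : Y = ⁅Y, Y⁆ ⊔ N := le_antisymm ((quo_le_quo_iff' hY hD).1 e.ge) (sup_le der_le h1)
  have hN : N ≤ 𝒞(N) := h2.trans (cent_anti h1)
  have hp : ⁅⁅Y, Y⁆, ⁅Y, Y⁆⁆ = ⁅Y, Y⁆ := by
    conv_rhs => rw [h3]
    exact (commutator_sup_of_centralizes (H49.commutator_eq_bot_iff.2 (h2.trans (cent_anti der_le)))
      (H49.commutator_eq_bot_iff.2 hN)).symm
  refine ⟨⟨hp, fun e0 => h.ne_bot (by rw [← e, e0, quo_bot]), fun M hM hn => ?_⟩, e⟩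
  have hM' := hM.trans hD
  rcases h.normal (quo M N) (quo_mono N (hM.trans der_le)) (e ▸ quo_norm N hn) with h4 | h4
  · exact .inl (le_antisymm hM (le_of_le_sup_cen hp (h2.trans (cent_anti (hM.trans der_le))) hN
      ((quo_le_quo_iff' hD hM').1 (e.trans h4.symm).le)))
  · rw [← e] at h4
    exact .inr (H49.commutator_eq_bot_iff.1 (commutator_eq_bot_of_perfect hp
      (H49.commutator_eq_bot_iff.2 (((quo_cent_iff hM' hD).1 h4).trans
        (h2.trans (cent_anti der_le))))))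

theorem Eof_quo_le (h1 : N ≤ G) (h2 : N ≤ 𝒞(G)) : Eof (quo G N) ≤ quo (Eof G) N := by
  have hG : G ≤ 𝒩(N) := norm_of_cent (cent_symm h2)
  refine Eof_le_iff.2 fun L hL => ?_
  have h3 : SN G (quoPre N L) := by
    have := (hL.sn.comap (coset N)).map (𝒩(N)).subtype
    rwa [← quoPre_def, ← quoPre_def, quoPre_quo_of_le h1 hG] at this
  obtain ⟨h4, h5⟩ := qs_der (le_quoPre L) (h2.trans (cent_anti h3.le)) (by
    rw [quo_quoPre]; exact hL.qs)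
  rw [quo_quoPre] at h5
  rw [← h5]
  exact quo_mono N (Comp.le_Eof ⟨h3.trans (SN.of_le_normalizer der_le norm_der), h4⟩)

/-- The local hypothesis. -/
structure LH (r : ℕ) (G K : Subgroup X) (σ : X) : Prop where
  cop : Cop r G σ
  inv : σ ∈ 𝒩(G)
  le : K ≤ G
  iK : σ ∈ 𝒩(K)
  perf : ⁅K, K⁆ = K
  kk : kk σ K = K
  min : ∀ N ≤ K, K ≤ 𝒩(N) → σ ∈ 𝒩(N) → N = K ∨ N ≤ 𝒞(K)
  loc : ∀ c ∈ G ⊓ 𝒞[σ], cj c K = K ∨ cj c K ≤ 𝒞(K)

namespace LH

variable (h : LH r G K σ)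
include h

theorem sub (h1 : M ≤ G) (h2 : σ ∈ 𝒩(M)) (h3 : K ≤ M) : LH r M K σ :=
  ⟨h.cop.mono h1, h2, h3, h.iK, h.perf, h.kk, h.min, fun c hc => h.loc c ⟨h1 hc.1, hc.2⟩⟩

theorem quot (h1 : N ≤ G) (h2 : G ≤ 𝒩(N)) (hs : σ ∈ 𝒩(N)) :
    LH r (quo G N) (quo K N) (coset N ⟨σ, hs⟩) := by
  have hK := h.le.trans h2
  refine ⟨cop_quo hs h.cop, inv_quo hs h.inv, quo_mono N h.le, inv_quo hs h.iK,
    by rw [← quo_commutator hK hK, h.perf], by rw [kk_quo hs hK, h.kk], fun M hM hn hi => ?_,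
    fun c hc => ?_⟩
  · have e : quo (K ⊓ quoPre N M) N = M := by
      rw [quo_inf_of_le_right (le_quoPre M), quo_quoPre, inf_eq_right.2 hM]
    rcases h.min (K ⊓ quoPre N M) inf_le_left (norm_inf le_normalizer (norm_quoPre hK hn))
      (inv_inf h.iK (inv_of_zn (norm_quoPre (zn hs) (by rw [zp_quo hs]; exact zn hi)))) with h3 | h3
    · exact .inl (by rw [← e, h3])
    · exact .inr (e ▸ quo_cent N h3)
  · rw [cent_quo hs (h.cop.mono h1) h.inv] at hc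
    obtain ⟨x, hx, rfl⟩ := mem_quo.1 hc
    rw [← quo_cj]
    exact (h.loc x hx).imp (fun e => by rw [e]) (quo_cent N)

theorem fix_cent (h1 : N ≤ G) (h2 : K ≤ 𝒩(N)) (hs : σ ∈ 𝒩(N)) (hK : ¬ K ≤ N) :
    N ⊓ 𝒞[σ] ≤ 𝒞(K) := by
  have h3 : N ⊓ 𝒞[σ] ≤ 𝒩(K) := fun c hc => mem_norm_iff_cj.2 ((h.loc c ⟨h1 hc.1, hc.2⟩).resolve_right
    fun e => hK (h.perf.ge.trans (commutator_le.2 fun a ha k hk => by
      have h4 : a * (c * k * c⁻¹) = c * k * c⁻¹ * a := e (conj_mem_cj.2 hk) a ha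
      have h5 : ⁅a, k⁆ = (a * (c * (k * c⁻¹ * k⁻¹))⁻¹ * a⁻¹) * (c * (k * c⁻¹ * k⁻¹)) := by
        calc ⁅a, k⁆ = a * (k * c * k⁻¹ * c⁻¹) * a⁻¹ * (a * (c * k * c⁻¹)) * a⁻¹ * k⁻¹ * 1 := by
              simp only [commutatorElement_def]; group
          _ = _ := by rw [h4]; group
      have h6 : c * (k * c⁻¹ * k⁻¹) ∈ N := mul_mem hc.1 (conj_mem_of_norm h2 hk (inv_mem hc.1))
      rw [h5]
      exact mul_mem (conj_mem_of_norm h2 ha (inv_mem h6)) h6)))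
  have h4 : ⁅N ⊓ 𝒞[σ], K⁆ ≤ K ⊓ N := le_inf (commutator_le_right_of_norm h3)
    ((commutator_mono inf_le_left le_rfl).trans (commutator_le_left_of_norm h2))
  have h5 := (h.min (K ⊓ N) inf_le_left (norm_inf le_normalizer h2) (inv_inf h.iK hs)).resolve_left
    fun e => hK (e.ge.trans inf_le_right)
  exact H49.commutator_eq_bot_iff.1 (commutator_eq_bot_of_perfect h.perf
    (H49.commutator_eq_bot_iff.2 (h4.trans h5)))

/-- Inside the layer `K` centralizes every normal subgroup not containing it. -/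
theorem cent_of_layer (hE : K ≤ Eof G) (h1 : N ≤ G) (h2 : G ≤ 𝒩(N)) (hs : σ ∈ 𝒩(N))
    (hK : ¬ K ≤ N) : K ≤ 𝒞(N) :=
  cent_of_inner (h.cop.mono h1) hs (h.le.trans h2) h.iK h.perf (hE.trans (Eof_le_iff.2 fun _ hL =>
    (hL.le_or_commutator_eq_bot (SN.of_le_normalizer h1 h2)).elim (·.trans le_sup_left)
      fun e => (H49.commutator_eq_bot_iff.1 e).trans le_sup_right))
    (h.fix_cent h1 (h.le.trans h2) hs hK)

end LH

/-- A minimal invariant supplement. -/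
theorem exists_supp (h : LH r G K σ) (h2 : G ≤ 𝒩(N)) (hs : σ ∈ 𝒩(N)) (hY : Y ≤ G)
    (iY : σ ∈ 𝒩(Y)) (hK : K ≤ N ⊔ Y) :
    ∃ A ≤ Y, σ ∈ 𝒩(A) ∧ ⁅A, A⁆ = A ∧ kk σ A = A ∧ K ≤ N ⊔ A := by
  obtain ⟨A, hA⟩ := exists_minimal_of_wellFoundedLT
    (fun A : Subgroup X => A ≤ Y ∧ σ ∈ 𝒩(A) ∧ K ≤ N ⊔ A) ⟨Y, le_rfl, iY, hK⟩
  obtain ⟨a1, a2, a3⟩ := hA.prop
  have hKN := h.le.trans h2
  have hAN := (a1.trans hY).trans h2
  have h3 : quo K N ≤ quo A N := (quo_le_quo_iff' hKN hAN).2 (sup_comm N A ▸ a3)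
  refine ⟨A, a1, a2, hA.eq_of_le ⟨der_le.trans a1, inv_comm a2 a2, ?_⟩ der_le,
    hA.eq_of_le ⟨(kk_le a2).trans a1, inv_kk σ A, ?_⟩ (kk_le a2), a3⟩
  · rw [sup_comm, ← quo_le_quo_iff' hKN (der_le.trans hAN), quo_commutator hAN hAN, ← h.perf,
      quo_commutator hKN hKN]
    exact commutator_mono h3 h3
  · rw [sup_comm, ← quo_le_quo_iff' hKN ((kk_le a2).trans hAN), ← kk_quo hs hAN, ← h.kk,
      ← kk_quo hs hKN]
    exact kk_mono h3

theorem LH.le_Eof_aux (r n : ℕ) : ∀ (X : Type u) [Group X] [Finite X] (G K : Subgroup X) (σ : X),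
    Nat.card G = n → LH r G K σ → K ≤ Eof G := by
  induction n using Nat.strong_induction_on with
  | _ n ih =>
  intro X _ _ G K σ hn h
  by_contra hne
  have sub : ∀ M ≤ G, M ≠ G → σ ∈ 𝒩(M) → K ≤ M → K ≤ Eof M := fun M h1 h2 h3 h4 =>
    ih _ (hn ▸ card_lt_of_lt (lt_of_le_of_ne h1 h2)) X M K σ rfl (h.sub h1 h3 h4)
  have nrm : ∀ M ≤ G, G ≤ 𝒩(M) → σ ∈ 𝒩(M) → K ≤ M → M = G := fun M h1 h2 h3 h4 => by
    by_contra e
    exact hne ((sub M h1 e h3 h4).trans (Eof_le_Eof_of_sn (SN.of_le_normalizer h1 h2)))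
  have cen : ∀ N, G ≤ 𝒩(N) → σ ∈ 𝒩(N) → K ≤ 𝒞(N) → G ≤ 𝒞(N) := fun N h2 h3 h4 =>
    (nrm (G ⊓ 𝒞(N)) inf_le_left (norm_inf le_normalizer (norm_cent h2))
      (inv_inf h.inv (inv_cent h3)) (le_inf h.le h4)).ge.trans inf_le_right
  have k0 : ∀ M : Subgroup X, Group.IsSolvable M → ¬ K ≤ M := fun M hM e =>
    hne ((eq_bot_of_perfect_of_solvable h.perf (solvable_of_le hM e)).le.trans bot_le)
  have hO : ∀ p, piCoreOf {p} G = ⊥ := fun p => by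
    by_contra h0
    have h1 := piCoreOf_le {p} G
    have h2 := le_norm_piCoreOf {p} G
    have h3 := inv_core h.inv {p}
    have h4 := piCoreOf_pi {p} G
    set N := piCoreOf {p} G
    have h5 : N ≤ 𝒞(G) := cent_symm (cen N h2 h3 (cent_of_pgroup h4 h3 (h.cop.mono h1)
      (h.cop.mono h.le) (h.le.trans h2) h.iK h.perf h.kk
      (h.fix_cent h1 (h.le.trans h2) h3 (k0 N (solvable_of_nilpotent h4.nilpotent)))))
    have h6 := ih _ (hn ▸ card_quo_lt h2 (by rwa [inf_eq_left.2 h1])) _ _ _ _ rfl (h.quot h1 h2 h3)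
    exact hne (le_of_le_sup_cen h.perf (h5.trans (cent_anti (Eof_le G))) (h5.trans (cent_anti h1))
      ((quo_le_quo_iff' (h.le.trans h2) ((Eof_le G).trans h2)).1 (h6.trans (Eof_quo_le h1 h5))))
  have hF : fittingOf G = ⊥ := eq_bot_iff.2 (le_of_sylowOf_le fun p _ _ =>
    ⟨_, sylowOf_pcore_fittingOf p G, (hO p).le⟩)
  have hS : ∀ M ≤ G, G ≤ 𝒩(M) → Group.IsSolvable M → M = ⊥ := fun M h1 h2 h3 => by
    by_contra e
    exact fittingOf_ne_bot h3 e (eq_bot_iff.2 ((fittingOf_le_of_normal h1 h2).trans hF.le))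
  obtain ⟨N, hN⟩ := exists_minimal_of_wellFoundedLT
    (fun N : Subgroup X => N ≠ ⊥ ∧ N ≤ G ∧ G ≤ 𝒩(N) ∧ σ ∈ 𝒩(N))
    ⟨G, fun e => k0 G (e ▸ inferInstance) h.le, le_rfl, le_normalizer, h.inv⟩
  obtain ⟨n0, n1, n2, n3⟩ := hN.prop
  have mn : ∀ M ≤ N, G ≤ 𝒩(M) → σ ∈ 𝒩(M) → M = ⊥ ∨ M = N := fun M h1 h2 h3 =>
    or_iff_not_imp_left.2 fun e => hN.eq_of_le ⟨e, h1.trans n1, h2, h3⟩ h1
  have hKN : ¬ K ≤ N := fun e => by
    obtain rfl := nrm N n1 n2 n3 e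
    rcases mn (Eof N) (Eof_le N) (le_normalizer_Eof N) (normalizer_le_normalizer_Eof N n3) with e | e
    · exact n0 (eq_bot_of_FSof_eq_bot (by rw [FSof_eq, e, bot_sup_eq]; exact hF))
    · exact hne (h.le.trans e.ge)
  have hc : ¬ K ≤ 𝒞(N) := fun e => n0 (hS N n1 n2 (solvable_of_abelian (abelian_iff.2
    (n1.trans (cen N n2 n3 e)))))
  have hodd : ∀ M ≤ N, N ≤ 𝒩(M) → Odd (Nat.card M) → M = ⊥ := fun M h1 h2 h3 => by
    have h4 := hS (piCoreOf {2}ᶜ N) ((piCoreOf_le _ N).trans n1) (norm_piCoreOf _ n2)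
      (S0205.result (Nat.odd_iff.2 (Nat.two_dvd_ne_zero.1
        ((isPi_compl_singleton Nat.prime_two).1 (piCoreOf_pi _ N)))))
    exact eq_bot_iff.2 ((le_piCoreOf h1 h2 ((isPi_compl_singleton Nat.prime_two).2
      h3.not_two_dvd_nat)).trans h4.le)
  have fc := h.fix_cent n1 (h.le.trans n2) n3 hKN
  have d1 : N ⊓ 𝒞(K) ≤ G := inf_le_left.trans n1
  obtain ⟨U, hU, iU⟩ := h.cop.syl_ex Nat.prime_two d1 (inv_inf n3 (inv_cent h.iK))
  have u1 : U ≤ N := hU.le.trans inf_le_left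
  have u2 : K ≤ 𝒞(U) := cent_symm (hU.le.trans inf_le_right)
  by_cases u0 : U = ⊥
  · obtain ⟨T, hT, iT⟩ := h.cop.syl_ex Nat.prime_two n1 n3
    obtain ⟨A, a1, a2, a3, a4, a5⟩ := exists_supp h n2 n3 (Y := G ⊓ 𝒩(T)) inf_le_left
      (inv_inf h.inv (inv_norm iT)) (h.le.trans (frattini_arg n1 n2 hT).sup_eq.ge)
    have a6 := a1.trans inf_le_left
    have t0 : T ⊓ 𝒞[σ] = ⊥ := by
      obtain ⟨c, -, hc⟩ := sylowOf_subJ hU (X := T ⊓ 𝒞[σ])
        (le_inf (inf_le_left.trans hT.le) ((inf_le_inf_right _ hT.le).trans fc)) (hT.pi.inf_left _)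
      rw [u0, le_bot_iff] at hc
      exact cj_injective c (hc.trans (Subgroup.map_bot _).symm)
    have a7 := cent_of_sylow hodd hT (a6.trans n2) a3 (cent_of_fpf hT.pi iT t0 (h.cop.mono a6)
      (a1.trans inf_le_right) a2 a3 a4)
    exact hc (cent_of_inner (h.cop.mono n1) n3 (h.le.trans n2) h.iK h.perf
      (a5.trans (sup_le_sup_left a7 N)) fc)
  have m1 : σ ∈ 𝒩(G ⊓ 𝒩(U)) := inv_inf h.inv (inv_norm iU)
  have m2 : K ≤ G ⊓ 𝒩(U) := le_inf h.le (norm_of_cent u2)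
  have m3 : G ⊓ 𝒩(U) ≠ G := fun e => hc (((mn U u1 (e.ge.trans inf_le_right) iU).resolve_left u0) ▸ u2)
  have m4 := (h.sub inf_le_left m1 m2).cent_of_layer (sub _ inf_le_left m3 m1 m2)
    (N := N ⊓ 𝒩(U)) (inf_le_inf_right _ n1) (norm_inf (inf_le_left.trans n2)
      (inf_le_right.trans le_normalizer)) (inv_inf n3 (inv_norm iU)) fun e => hKN (e.trans inf_le_left)
  exact hc (cent_of_sylow hodd (sylowOf_of_norm_le hU u1 (le_inf inf_le_left (cent_symm m4)))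
    (h.le.trans n2) h.perf u2)

theorem LH.le_Eof (h : LH r G K σ) : K ≤ Eof G := LH.le_Eof_aux r _ X G K σ rfl h

end Cfsg.Agent.H3.Lay
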