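import Cfsg.Agent.H3.Lay2

/-! Components of invariant subgroups under a coprime element of prime order. -/

set_option autoImplicit false
set_option linter.unusedSectionVars false

namespace Cfsg.Agent.H3.Lay

open Subgroup H49 FLAV
open H44 hiding cj conj_mem_cj cj_one cj_centralizer cj_mul
open scoped commutatorElement

universe u

variable {X : Type u} [Group X] [Finite X] {r : ℕ} {G A B D H K L M : Subgroup X} {σ : X}

/-- The subgroup generated by the conjugates under `J`. -/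
def orb (J L : Subgroup X) : Subgroup X := ⨆ s ∈ J, cj s L

variable {J : Subgroup X}

theorem cj_le_orb {s : X} (hs : s ∈ J) : cj s L ≤ orb J L := le_iSup₂_of_le s hs le_rfl

theorem le_orb : L ≤ orb J L := by simpa using cj_le_orb (L := L) J.one_mem

theorem orb_le_iff : orb J L ≤ M ↔ ∀ s ∈ J, cj s L ≤ M := iSup₂_le_iff

theorem orb_le (h : J ≤ 𝒩(M)) (hL : L ≤ M) : orb J L ≤ M :=
  orb_le_iff.2 fun _ hs => cj_le_of_mem_norm hL (h hs)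

theorem norm_orb : J ≤ 𝒩(orb J L) := fun t ht => mem_norm_of_le_cj (orb_le_iff.2 fun s hs => by
  rw [le_cj_iff, cj_cj]; exact cj_le_orb (mul_mem (inv_mem ht) hs))

theorem orb_cj {t : X} (ht : t ∈ J) : orb J (cj t L) = orb J L :=
  le_antisymm (orb_le norm_orb (cj_le_orb ht))
    (orb_le norm_orb (by simpa using cj_le_orb (L := cj t L) (inv_mem ht)))

theorem cj_orb {c : X} (hc : c ∈ 𝒞(J)) : cj c (orb J L) = orb J (cj c L) := by
  have e : ∀ s ∈ J, cj c (cj s L) = cj s (cj c L) := fun s hs => by rw [cj_cj, cj_cj, hc s hs]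
  refine le_antisymm (cj_le_iff.2 (orb_le_iff.2 fun s hs => cj_le_iff.1 ?_))
    (orb_le_iff.2 fun s hs => ?_)
  · rw [e s hs]; exact cj_le_orb hs
  · rw [← e s hs]; exact cj_mono c (cj_le_orb hs)

theorem comp_cj (hL : Comp H L) {g : X} (hg : g ∈ 𝒩(H)) : Comp H (cj g L) := hL.conj hg

theorem cj_le_cent1 {s : X} (hs : s ∈ 𝒞[σ]) (h : L ≤ 𝒞[σ]) : cj s L ≤ 𝒞[σ] :=
  cj_le_of_mem h hs

theorem lh_orb (h : Cop r G σ) (hi : σ ∈ 𝒩(G)) (h1 : H ≤ G) (h2 : σ ∈ 𝒩(H))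
    (h3 : G ⊓ 𝒞[σ] ≤ 𝒩(H)) (hL : Comp H L) (hn : ¬ L ≤ 𝒞[σ]) : LH r G (orb (zpowers σ) L) σ := by
  have c1 : ∀ s ∈ zpowers σ, Comp H (cj s L) := fun s hs => comp_cj hL (zn h2 hs)
  have k1 : orb (zpowers σ) L ≤ H := orb_le (zn h2) hL.le
  have iK : σ ∈ 𝒩(orb (zpowers σ) L) := inv_of_zn norm_orb
  have c2 : ∀ s ∈ zpowers σ, Comp (orb (zpowers σ) L) (cj s L) := fun s hs =>
    (c1 s hs).mono (cj_le_orb hs) k1
  refine ⟨h, hi, k1.trans h1, iK, le_antisymm der_le (orb_le_iff.2 fun s hs =>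
    (c1 s hs).perfect.ge.trans (der_mono (cj_le_orb hs))), le_antisymm (kk_le iK)
      (orb_le (zn (inv_kk σ _)) ?_), fun N n1 n2 n3 => ?_, fun c hc => ?_⟩
  · exact ((((hL.mono le_orb k1).le_commutator_or (zn iK)).resolve_right fun e =>
      hn (kk_eq_bot.1 e)).trans (kk_mono (Eof_le _)))
  · by_cases e : L ≤ N
    · exact .inl (le_antisymm n1 (orb_le (zn n3) e))
    · exact .inr (cent_symm (orb_le (zn (inv_cent n3)) (H49.commutator_eq_bot_iff.1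
        (((hL.mono le_orb k1).le_or_commutator_eq_bot (SN.of_le_normalizer n1 n2)).resolve_left e))))
  · rw [cj_orb (cent_zpowers σ ▸ hc.2)]
    by_cases e : ∃ t ∈ zpowers σ, cj c L = cj t L
    · obtain ⟨t, ht, e⟩ := e
      exact .inl (by rw [e, orb_cj ht])
    · exact .inr (orb_le (zn (inv_cent iK)) (cent_symm (orb_le_iff.2 fun s hs =>
        H49.commutator_eq_bot_iff.1 ((c1 s hs).commutator_eq_bot_of_ne (comp_cj hL (h3 hc))
          fun e' => e ⟨s, hs, e'.symm⟩))))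

theorem Eof_le_Eof (h : Cop r G σ) (hi : σ ∈ 𝒩(G)) (h1 : H ≤ G) (h2 : σ ∈ 𝒩(H))
    (h3 : G ⊓ 𝒞[σ] ≤ 𝒩(H)) (hk : kk σ H = H) : Eof H ≤ Eof G := by
  refine Eof_le_iff.2 fun L hL => ?_
  by_cases e : ∀ g ∈ H, cj g L ≤ 𝒞[σ]
  · refine absurd (hL.le.trans (hk.ge.trans (commutator_le.2 fun g hg s hs => ?_)))
      hL.qs.not_le_centralizer
    have k : ∀ g ∈ H, s ∈ 𝒞(cj g L) := fun g hg =>
      cent_symm (cent_zpowers σ ▸ e g hg : cj g L ≤ 𝒞(zpowers σ)) hs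
    have k1 := conj_mem_cj (g := g).2 (k g⁻¹ (inv_mem hg))
    have k2 := k 1 H.one_mem
    simp only [cj_centralizer, cj_cj, mul_inv_cancel, cj_one] at k1 k2
    exact mul_mem k1 (inv_mem k2)
  · push Not at e
    obtain ⟨g, hg, e⟩ := e
    exact (cj_le_iff_of_mem_norm (le_normalizer_Eof G (h1 hg))).1 (le_orb.trans
      (lh_orb h hi h1 h2 h3 (comp_cj hL (le_normalizer hg)) e).le_Eof)

theorem qs_quo (hq : QS L) : QS (quo L 𝒞(L)) := by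
  have h : L ≤ 𝒩(𝒞(L)) := norm_cent le_normalizer
  exact ((qs_subgroupOf_iff h).2 hq).map _ fun e => hq.not_le_centralizer ((quo_eq_bot_iff h).1 e)

theorem cent_of_comm (hp : ⁅L, L⁆ = L) (h : ⁅A, L⁆ ≤ 𝒞(L)) : A ≤ 𝒞(L) :=
  H49.commutator_eq_bot_iff.1 (commutator_eq_bot_of_perfect hp (H49.commutator_eq_bot_iff.2 h))

theorem norm_of_le_sup (h : A ≤ L ⊔ 𝒞(L)) : A ≤ 𝒩(𝒞(L)) :=
  h.trans (sup_le (norm_cent le_normalizer) le_normalizer)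

theorem star (hq : QS L) (hA : A ≤ L ⊔ 𝒞(L)) (hD : L ≤ D ⊔ 𝒞(L)) (h1 : D ≤ L ⊔ 𝒞(L))
    (h2 : D ≤ 𝒩(A)) (h : ¬ A ≤ 𝒞(L)) : L ≤ A ⊔ 𝒞(L) := by
  have l1 : L ≤ 𝒩(𝒞(L)) := norm_cent le_normalizer
  have a1 := norm_of_le_sup hA
  rcases (qs_quo hq).normal (quo A 𝒞(L)) ((quo_le_quo_iff' a1 l1).2 hA)
    (((quo_le_quo_iff' l1 (norm_of_le_sup h1)).2 hD).trans (quo_norm _ h2)) with e | e
  · exact (quo_le_quo_iff' l1 a1).1 e.ge
  · exact absurd (cent_of_comm hq.perfect ((quo_cent_iff a1 l1).1 e)) h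

theorem not_comm_le (hq : QS L) (hA : A ≤ L ⊔ 𝒞(L)) (hB : B ≤ L ⊔ 𝒞(L)) (h1 : L ≤ A ⊔ 𝒞(L))
    (h2 : L ≤ B ⊔ 𝒞(L)) : ¬ ⁅A, B⁆ ≤ 𝒞(L) := fun e => by
  have l1 : L ≤ 𝒩(𝒞(L)) := norm_cent le_normalizer
  have a1 := norm_of_le_sup hA
  have b1 := norm_of_le_sup hB
  exact (qs_quo hq).not_le_centralizer (((quo_le_quo_iff' l1 a1).2 h1).trans
    (((quo_cent_iff a1 b1).2 e).trans (cent_anti ((quo_le_quo_iff' l1 b1).2 h2))))

theorem moved (hr : r.Prime) (ho : orderOf σ = r) (hn : σ ∉ 𝒩(M)) {s : X} (hs : s ∈ zpowers σ)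
    (h1 : s ≠ 1) : s ∉ 𝒩(M) := fun e => by
  rcases inf_eq_bot_or_le_of_prime_card (K := zpowers σ) (by rwa [Nat.card_zpowers, ho]) 𝒩(M)
    with h | h
  · exact h1 (mem_bot.1 (h.le (by first | exact ⟨e, hs⟩ | exact ⟨hs, e⟩)))
  · exact hn (h (mem_zpowers σ))

theorem diag (hr : r.Prime) (ho : orderOf σ = r) (hm : ∀ s ∈ zpowers σ, s ≠ 1 → cj s L ≤ 𝒞(L)) :
    L ≤ (orb (zpowers σ) L ⊓ 𝒞[σ]) ⊔ 𝒞(L) := by
  intro l hl
  have key : ∀ n, n < r → l⁻¹ * ((l * σ) ^ (n + 1) * (σ ^ (n + 1))⁻¹) ∈ 𝒞(L) ⊓ orb (zpowers σ) L := by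
    intro n hn
    induction n with
    | zero => simp
    | succ n ih =>
      have e : l⁻¹ * ((l * σ) ^ (n + 1 + 1) * (σ ^ (n + 1 + 1))⁻¹) =
          l⁻¹ * ((l * σ) ^ (n + 1) * (σ ^ (n + 1))⁻¹) * (σ ^ (n + 1) * l * (σ ^ (n + 1))⁻¹) := by
        rw [pow_succ (l * σ) (n + 1), pow_succ σ (n + 1)]; group
      have h1 := pow_mem (mem_zpowers σ) (n + 1)
      rw [e]
      exact mul_mem (ih (by omega)) ⟨hm _ h1 (pow_ne_one_of_lt_orderOf (by omega) (by omega))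
        (conj_mem_cj.2 hl), cj_le_orb h1 (conj_mem_cj.2 hl)⟩
  have h1 := key (r - 1) (by have := hr.pos; omega)
  rw [Nat.sub_add_cancel hr.pos, show σ ^ r = 1 from ho ▸ pow_orderOf_eq_one σ, inv_one,
    mul_one] at h1
  have h2 : l * (l⁻¹ * (l * σ) ^ r) = l⁻¹ * (l * σ) ^ r * l := h1.1 l hl
  have h3 : (l * σ) ^ r * (l * σ) = (l * σ) * (l * σ) ^ r := by rw [← pow_succ, pow_succ']
  have h4 : (l * σ) ^ r ∈ 𝒞[σ] := mem_cent1.2 (by
    rw [mul_inv_cancel_left] at h2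
    generalize (l * σ) ^ r = d at h2 h3
    calc d * σ = l⁻¹ * (d * (l * σ)) := by
          conv_lhs => rw [h2]
          group
      _ = _ := by rw [h3]; group)
  have e : l = (l * σ) ^ r * (l⁻¹ * (l * σ) ^ r)⁻¹ := by group
  rw [e]
  refine mul_mem (mem_sup_left ⟨?_, h4⟩) (mem_sup_right (inv_mem h1.1))
  have := mul_mem (le_orb hl) h1.2
  rwa [mul_inv_cancel_left] at this

/-- Subgroups of a regular orbit of components normalized by the fixed points. -/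
theorem le_of_moved (hr : r.Prime) (ho : orderOf σ = r) (hi : σ ∈ 𝒩(G)) (hL : Comp G L)
    (hn : σ ∉ 𝒩(L)) (h1 : H ≤ orb (zpowers σ) L) (h2 : σ ∈ 𝒩(H))
    (h3 : orb (zpowers σ) L ⊓ 𝒞[σ] ≤ 𝒩(H)) (hK : K ≤ H) (hp : ⁅K, K⁆ = K) (k1 : ¬ K ≤ 𝒞[σ])
    (k2 : ¬ K ≤ 𝒞(L)) : L ≤ H := by
  set B := orb (zpowers σ) L with hB
  set D := B ⊓ 𝒞[σ] with hD
  have c1 : ∀ s ∈ zpowers σ, Comp G (cj s L) := fun s hs => comp_cj hL (zn hi hs)
  have b1 : B ≤ Eof G := orb_le_iff.2 fun s hs => (c1 s hs).le_Eof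
  have b2 : ∀ s ∈ zpowers σ, B ≤ cj s L ⊔ 𝒞(cj s L) := fun s hs => b1.trans
    ((c1 s hs).sup_Eoth.ge.trans (sup_le_sup_left
      (H49.commutator_eq_bot_iff.1 (c1 s hs).commutator_Eoth) _))
  have b3 : ∀ s ∈ zpowers σ, B ≤ 𝒩(cj s L) := fun s hs => b1.trans (c1 s hs).Eof_le_normalizer
  have mv : ∀ s ∈ zpowers σ, ∀ t ∈ zpowers σ, t ≠ 1 → cj t (cj s L) ≤ 𝒞(cj s L) :=
    fun s hs t ht t1 => H49.commutator_eq_bot_iff.1 ((comp_cj (c1 s hs) (zn hi ht)).commutator_eq_bot_of_ne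
      (c1 s hs) fun e => moved hr ho hn ht t1 (mem_norm_iff_cj.2 (cj_injective s (by
        rw [cj_cj, abelian_iff.1 (abelian_of_cyclic inferInstance) ht s hs, ← cj_cj, e]))))
  have dg : ∀ s ∈ zpowers σ, cj s L ≤ D ⊔ 𝒞(cj s L) := fun s hs => by
    have := diag hr ho (mv s hs)
    rwa [orb_cj hs] at this
  have st : ∀ s ∈ zpowers σ, ∀ A ≤ B, D ≤ 𝒩(A) → ¬ A ≤ 𝒞(cj s L) → cj s L ≤ A ⊔ 𝒞(cj s L) :=
    fun s hs A a1 a2 => star (c1 s hs).qs (a1.trans (b2 s hs)) (dg s hs)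
      (inf_le_left.trans (b2 s hs)) a2
  have b0 := b2 1 (one_mem _)
  have n0 := b3 1 (one_mem _)
  have d0 := dg 1 (one_mem _)
  have s0 := st 1 (one_mem _)
  rw [cj_one] at b0 n0 d0 s0
  have h0 : ¬ H ≤ 𝒞(L) := fun e => k2 (hK.trans e)
  by_cases w : σ ∈ 𝒩(H ⊓ 𝒞(L))
  · have w1 : H ⊓ 𝒞(L) ≤ 𝒞(B) := cent_symm (orb_le (zn (inv_cent w)) (cent_symm inf_le_right))
    have t1 : ⁅B ⊓ 𝒩(H) ⊓ 𝒞(L), H⁆ ≤ 𝒞(B) := (le_inf
      (commutator_le_right_of_norm (inf_le_left.trans inf_le_right))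
      ((commutator_mono inf_le_right le_rfl).trans
        (commutator_le_left_of_norm (norm_cent (h1.trans n0))))).trans w1
    have t2 : B ⊓ 𝒩(H) ⊓ 𝒞(L) ≤ 𝒞(B) := cent_symm (orb_le_iff.2 fun s hs => cent_symm (by
      have a1 := norm_cent ((inf_le_left.trans inf_le_left : B ⊓ 𝒩(H) ⊓ 𝒞(L) ≤ B).trans (b3 s hs))
      have a2 := norm_cent (h1.trans (b3 s hs))
      have a3 : cj s L ≤ 𝒩(𝒞(cj s L)) := norm_cent le_normalizer
      refine cent_of_comm (c1 s hs).perfect ((quo_cent_iff a1 a3).1 (((quo_cent_iff a1 a2).2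
        (t1.trans (cent_anti (cj_le_orb hs)))).trans (cent_anti ((quo_le_quo_iff' a3 a2).2
          (st s hs H h1 h3 fun e => h0 ?_)))))
      rw [← cj_centralizer, le_cj_iff, cj_eq_of_mem_norm (inv_mem (zn h2 hs))] at e
      exact e))
    refine absurd ((le_of_le_sup_cen (M := D) (N := B ⊓ 𝒞(B)) hp
      (inf_le_right.trans (cent_anti inf_le_left)) (inf_le_right.trans (cent_anti inf_le_left))
      fun k hk => ?_).trans inf_le_right) k1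
    have a1 : B ≤ D ⊔ 𝒞(L) := b0.trans (sup_le d0 le_sup_right)
    obtain ⟨d, hd, c, hc, e⟩ := (mem_sup_of_norm_right (norm_cent (inf_le_left.trans n0))).1
      (a1 (h1 (hK hk)))
    have e' : c = d⁻¹ * k := by rw [e]; group
    have a2 : c ∈ B := e' ▸ mul_mem (inv_mem hd.1) (h1 (hK hk))
    have a3 : c ∈ 𝒩(H) := e' ▸ mul_mem (inv_mem (h3 hd)) (le_normalizer (hK hk))
    rw [e]
    exact mul_mem (mem_sup_left hd) (mem_sup_right ⟨a2, t2 ⟨⟨a2, a3⟩, hc⟩⟩)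
  obtain ⟨M, hM⟩ := exists_maximal_of_wellFoundedGT
    (fun M : Subgroup X => B ≤ 𝒩(M) ∧ ¬ H ⊓ 𝒞(M) ≤ 𝒞(L))
    ⟨⊥, le_norm_bot B, fun e => h0 ((le_inf le_rfl (le_cent_bot H)).trans e)⟩
  obtain ⟨m1, m2⟩ := hM.prop
  have nD : ∀ M, B ≤ 𝒩(M) → D ≤ 𝒩(H ⊓ 𝒞(M)) := fun M e =>
    norm_inf h3 (norm_cent (inf_le_left.trans e))
  have nH : ∀ M, B ≤ 𝒩(M) → H ≤ 𝒩(H ⊓ 𝒞(M)) := fun M e =>
    norm_inf le_normalizer (norm_cent (h1.trans e))
  have v0 : ∀ M, H ⊓ 𝒞(M) ≤ B := fun M => inf_le_left.trans h1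
  have v1 := s0 _ (v0 M) (nD M m1) m2
  have m3 : ∀ s ∈ zpowers σ, s ≠ 1 → cj s L ≤ M := fun s hs s1 => by
    have a1 : ¬ H ⊓ 𝒞(cj s L) ≤ 𝒞(L) := fun e => moved hr ho w hs s1 (mem_norm_of_cj_le (by
      rw [cj_inf, cj_centralizer, cj_eq_of_mem_norm (zn h2 hs)]
      exact le_inf inf_le_left e))
    refine le_sup_right.trans (hM.eq_of_le ⟨norm_sup m1 (b3 s hs), fun e => not_comm_le hL.qs
      ((v0 M).trans b0) ((v0 _).trans b0) v1 (s0 _ (v0 _) (nD _ (b3 s hs)) a1) (le_trans ?_ e)⟩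
      le_sup_left).ge
    rw [cent_sup, ← inf_assoc]
    exact le_inf (commutator_le_left_of_norm (inf_le_left.trans (nH M m1)))
      ((commutator_le_right_of_norm (inf_le_left.trans (nH _ (b3 s hs)))).trans inf_le_right)
  set P : Subgroup X := ⨆ s ∈ zpowers σ, ⨆ _ : s ≠ 1, cj s L with hP
  have p1 : P ≤ M := iSup₂_le fun s hs => iSup_le (m3 s hs)
  have p2 : P ≤ 𝒞(L) := iSup₂_le fun s hs => iSup_le fun s1 => by
    simpa using mv 1 (one_mem _) s hs s1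
  have p3 : B ≤ P ⊔ L := orb_le_iff.2 fun s hs => by
    by_cases s1 : s = 1
    · rw [s1, cj_one]; exact le_sup_right
    · exact le_sup_of_le_left (le_iSup₂_of_le s hs (le_iSup_of_le s1 le_rfl))
  have p4 : H ⊓ 𝒞(M) ≤ L ⊔ (P ⊓ 𝒞(P)) := by
    rw [sup_comm, ← sup_inf_centralizer_le (H49.commutator_eq_bot_iff.2 (cent_symm p2))]
    exact le_inf ((v0 M).trans p3) (inf_le_right.trans (cent_anti p1))
  have p5 : ⁅H ⊓ 𝒞(M), H ⊓ 𝒞(M)⁆ ≤ L := (der_mono p4).trans (by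
    rw [commutator_sup_of_centralizes (H49.commutator_eq_bot_iff.2 (inf_le_left.trans p2))
      (H49.commutator_eq_bot_iff.2 (inf_le_right.trans (cent_anti inf_le_left)))]
    exact der_le)
  exact ((hL.qs.normal _ p5 (v1.trans (sup_le norm_der (norm_of_cent (cent_anti p5))))).resolve_right
    (not_comm_le hL.qs ((v0 M).trans b0) ((v0 M).trans b0) v1 v1)).ge.trans (der_le.trans inf_le_left)

theorem trichotomy (h : Cop r G σ) (ho : orderOf σ = r) (hi : σ ∈ 𝒩(G)) (hK : K ≤ G) (hq : QS K)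
    (hc : ∀ g ∈ zpowers σ ⊔ (G ⊓ 𝒞[σ]), cj g K ≠ K → ⁅K, cj g K⁆ = ⊥) :
    Comp (G ⊓ 𝒞[σ]) K ∨ Comp G K ∨ ∃ L, Comp G L ∧ σ ∈ 𝒩(L) ∧ K ≤ L := by
  set J := zpowers σ ⊔ (G ⊓ 𝒞[σ]) with hJ
  have j1 : J ≤ 𝒩(G) := sup_le (zn hi) (norm_of_le inf_le_left)
  have h1 : orb J K ≤ G := orb_le j1 hK
  have h2 : σ ∈ 𝒩(orb J K) := norm_orb (mem_sup_left (mem_zpowers σ))
  have h3 : G ⊓ 𝒞[σ] ≤ 𝒩(orb J K) := le_sup_right.trans norm_orb
  have c0 : Comp (orb J K) K := ⟨SN.of_le_normalizer le_orb (orb_le_iff.2 fun s hs => by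
    by_cases e : cj s K = K
    · exact norm_of_le e.le
    · exact norm_of_cent (cent_symm (H49.commutator_eq_bot_iff.1 (hc s hs e)))), hq⟩
  by_cases k1 : K ≤ 𝒞[σ]
  · exact .inl (Comp.of_sn (SN.of_le_normalizer (orb_le (sup_le (zn (inv_of_le_cent inf_le_right))
      le_normalizer) (le_inf hK k1)) h3) c0)
  have lh := lh_orb h hi h1 h2 h3 c0 k1
  have e1 := lh.le_Eof
  have l2 := lh.sub (Eof_le G) (normalizer_le_normalizer_Eof G hi) e1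
  obtain ⟨L, hL, k2⟩ : ∃ L, Comp G L ∧ ¬ K ≤ 𝒞(L) := by
    by_contra! e
    exact hq.not_le_centralizer ((le_orb.trans e1).trans (Eof_le_iff.2 fun L hL => cent_symm (e L hL)))
  have key : ∀ N ≤ Eof G, Eof G ≤ 𝒩(N) → σ ∈ 𝒩(N) → L ≤ N → K ≤ N := fun N n1 n2 n3 n4 => by
    by_contra e
    exact k2 (le_orb.trans ((l2.cent_of_layer (by rwa [Eof_Eof]) n1 n2 n3
      fun e' => e (le_orb.trans e')).trans (cent_anti n4)))
  by_cases hn : σ ∈ 𝒩(L)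
  · exact .inr (.inr ⟨L, hL, hn, key L hL.le_Eof hL.Eof_le_normalizer hn le_rfl⟩)
  have b1 : orb (zpowers σ) L ≤ Eof G := orb_le (zn (normalizer_le_normalizer_Eof G hi)) hL.le_Eof
  have b2 := key _ b1 (fun g hg => mem_norm_of_le_cj (orb_le_iff.2 fun s hs => by
    rw [le_cj_iff, cj_eq_of_mem_norm (inv_mem ((comp_cj hL (zn hi hs)).Eof_le_normalizer hg))]
    exact cj_le_orb hs)) (inv_of_zn norm_orb) le_orb
  have b3 := (le_of_moved h.pr ho hi hL hn (H := orb J K ⊓ orb (zpowers σ) L) inf_le_right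
    (inv_inf h2 (inv_of_zn norm_orb)) (norm_inf ((inf_le_inf_right _ (b1.trans (Eof_le G))).trans h3)
      (norm_of_le inf_le_left)) (le_inf le_orb b2) hq.perfect k1 k2).trans inf_le_left
  rcases c0.eq_or_commutator_eq_bot (hL.mono b3 h1) with e | e
  · exact .inr (.inl (e ▸ hL))
  · exact absurd (H49.commutator_eq_bot_iff.1 e) k2

end Cfsg.Agent.H3.Lay
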