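import Mathlib

/-! Products of a linear map with regular unipotent maps: observability and pole shifting. -/

set_option autoImplicit false

namespace Cfsg.Agent.H3.Lev

open Module Submodule

variable {K V : Type*} [Field K] [AddCommGroup V] [Module K V]

/-- `N` is nilpotent on `D`. -/
def Nil (D : Submodule K V) (N : End K V) : Prop := (∀ x ∈ D, N x ∈ D) ∧ ∃ k : ℕ, ∀ x ∈ D, (N ^ k) x = 0

/-- `N` is a regular nilpotent map on `D`. -/
def RegN (D : Submodule K V) (N : End K V) : Prop := Nil D N ∧ ∃ f, ∀ x ∈ D, N x = 0 → ∃ c : K, x = c • f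

/-- `E` contains no non-zero `M`-invariant subspace. -/
def Obs (M : End K V) (E : Submodule K V) : Prop := ∀ W ≤ E, (∀ x ∈ W, M x ∈ W) → W = ⊥

variable {D H : Submodule K V} {N N' g M : End K V} {ψ : Dual K V}

theorem pow_congr (h : ∀ x ∈ H, N x ∈ H) (e : ∀ x ∈ H, N' x = N x) (k : ℕ) : ∀ x ∈ H, (N' ^ k) x = (N ^ k) x := by
  induction k with
  | zero => simp
  | succ k ih => intro x hx; rw [pow_succ, pow_succ, End.mul_apply, End.mul_apply, e x hx, ih _ (h x hx)]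

theorem Nil.ext (h : Nil H N) (hH : H ≤ D) (e : ∀ x ∈ H, N' x = N x) (h' : ∀ x ∈ D, N' x ∈ H) : Nil D N' := by
  obtain ⟨h1, k, h2⟩ := h
  exact ⟨fun x hx => hH (h' x hx), k + 1, fun x hx => by
    rw [pow_succ, End.mul_apply, pow_congr h1 e k _ (h' x hx), h2 _ (h' x hx)]⟩

theorem Nil.eq_zero (h : Nil D N) {c : K} (hc : c ≠ 0) {x : V} (hx : x ∈ D) (e : N x = c • x) : x = 0 := by
  obtain ⟨-, k, h2⟩ := h
  have : ∀ k : ℕ, (N ^ k) x = c ^ k • x := fun k => by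
    induction k with
    | zero => simp
    | succ k ih => rw [pow_succ', End.mul_apply, ih, map_smul, e, smul_smul, pow_succ]
  simpa [this, hc] using h2 x hx

theorem Nil.exists_not (h : Nil D N) (hD : D ≠ ⊥) : ∃ a ∈ D, ∀ x ∈ D, a ≠ N x := by
  by_contra! e
  obtain ⟨-, k, h2⟩ := h
  have : ∀ k : ℕ, ∀ a ∈ D, ∃ x ∈ D, a = (N ^ k) x := fun k => by
    induction k with
    | zero => exact fun a ha => ⟨a, ha, rfl⟩
    | succ k ih =>
      intro a ha
      obtain ⟨x, hx, rfl⟩ := ih a ha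
      obtain ⟨y, hy, rfl⟩ := e x hx
      exact ⟨y, hy, by rw [pow_succ, End.mul_apply]⟩
  refine hD ((Submodule.eq_bot_iff _).2 fun a ha => ?_)
  obtain ⟨x, hx, rfl⟩ := this k a ha
  exact h2 x hx

theorem exists_one (h : ∃ x ∈ D, ψ x ≠ 0) : ∃ x ∈ D, ψ x = 1 := by
  obtain ⟨x, hx, h⟩ := h
  exact ⟨(ψ x)⁻¹ • x, D.smul_mem _ hx, by simp [h]⟩

theorem sub_mem {e x : V} (he : e ∈ D) (h1 : ψ e = 1) (hx : x ∈ D) : x - ψ x • e ∈ D ⊓ LinearMap.ker ψ :=
  ⟨D.sub_mem hx (D.smul_mem _ he), by simp [h1]⟩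

variable [FiniteDimensional K V]

theorem finrank_lt' (h : ∃ x ∈ D, ψ x ≠ 0) : finrank K ↥(D ⊓ LinearMap.ker ψ) < finrank K D := by
  obtain ⟨x, hx, h⟩ := h
  exact finrank_lt_finrank_of_lt (lt_of_le_of_ne inf_le_left fun e => h (e.symm ▸ hx : x ∈ D ⊓ _).2)

/-- The statement proved by induction. -/
def RS (D : Submodule K V) : Prop := ∀ (g : End K V) (ψ : Dual K V), (∀ x ∈ D, g x ∈ D) → (∀ x ∈ D, g x = 0 → x = 0) →
  (D = ⊥ ∨ ∃ x ∈ D, ψ x ≠ 0) → ∃ N, RegN D N ∧ Obs (g * (1 + N)) (D ⊓ LinearMap.ker (ψ ∘ₗ (1 + N)))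

theorem obsA (ih : RS (D ⊓ LinearMap.ker ψ)) (h1 : ∀ x ∈ D, g x ∈ D) (h2 : ∀ x ∈ D, g x = 0 → x = 0)
    (h3 : ∃ v ∈ D ⊓ LinearMap.ker ψ, (ψ ∘ₗ g) v ≠ 0) :
    ∃ N, RegN (D ⊓ LinearMap.ker ψ) N ∧ Obs (g * (1 + N)) (D ⊓ LinearMap.ker ψ) := by
  set H := D ⊓ LinearMap.ker ψ
  obtain ⟨v, hv, e⟩ := exists_one h3
  have e' : ψ (g v) = 1 := e
  obtain ⟨w, hw, hw'⟩ : ∃ w ∈ H, w ∉ (H ⊓ LinearMap.ker (ψ ∘ₗ g)).map g := by
    by_contra! hc
    exact absurd ((finrank_mono hc).trans (finrank_map_le _ _)) (finrank_lt' h3).not_ge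
  have g2 : ∀ x ∈ H, (g - (ψ ∘ₗ g).smulRight (g v - w)) x = 0 → x = 0 := fun x hx h => by
    by_cases h0 : ψ (g x) = 0
    · exact h2 x hx.1 (by simpa [h0] using h)
    · refine absurd ⟨-(ψ (g x))⁻¹ • (x - ψ (g x) • v), smul_mem _ _ (sub_mem hv e hx), ?_⟩ hw'
      simp only [LinearMap.sub_apply, LinearMap.smulRight_apply, LinearMap.comp_apply, sub_eq_zero] at h
      rw [map_smul, map_sub, map_smul]
      nth_rewrite 2 [h]
      rw [smul_sub (ψ (g x)), sub_sub_cancel_left, neg_smul_neg, inv_smul_smul₀ h0]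
  obtain ⟨N, hN, ho⟩ := ih (g - (ψ ∘ₗ g).smulRight (g v - w)) (ψ ∘ₗ g)
    (fun x hx => ⟨by simpa using D.sub_mem (h1 x hx.1) (D.smul_mem _ (D.sub_mem (h1 v hv.1) hw.1)),
      by simp [e', show ψ w = 0 from hw.2]⟩) g2 (.inr h3)
  refine ⟨N, hN, fun W hW h => ?_⟩
  have : ∀ x ∈ W, ψ (g ((1 + N) x)) = 0 := fun x hx => (hW (h x hx)).2
  exact ho W (fun x hx => ⟨hW hx, this x hx⟩) fun x hx => by simpa [-LinearMap.add_apply, this x hx] using h x hx

theorem rs_all (D : Submodule K V) : RS D := by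
  induction h : finrank K D using Nat.strong_induction_on generalizing D with | _ n ih => ?_
  subst h
  rintro g ψ h1 h2 (rfl | h3)
  · exact ⟨0, ⟨⟨by simp, 0, by simp⟩, 0, by simp⟩, fun W hW _ => by simpa using hW⟩
  have ih' := ih _ (finrank_lt' h3) _ rfl
  set H := D ⊓ LinearMap.ker ψ with hH
  obtain ⟨e, he, e1⟩ := exists_one h3
  have hs := fun x => sub_mem (x := x) he e1
  by_cases h4 : ∃ v ∈ H, (ψ ∘ₗ g) v ≠ 0
  · obtain ⟨N, ⟨hN, f, hf⟩, ho⟩ := obsA ih' h1 h2 h4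
    obtain ⟨a, ha, ha'⟩ := hN.exists_not (by rintro h; simp [hH, h] at h4)
    have k1 : ∀ x ∈ H, (N + ψ.smulRight (a - N e)) x = N x := fun x hx => by simp [show ψ x = 0 from hx.2]
    have k2 : ∀ x, (N + ψ.smulRight (a - N e)) x = N (x - ψ x • e) + ψ x • a := fun x => by simp [smul_sub]; abel
    have k3 : ∀ x ∈ D, (N + ψ.smulRight (a - N e)) x ∈ H := fun x hx =>
      k2 x ▸ H.add_mem (hN.1 _ (hs x hx)) (H.smul_mem _ ha)
    refine ⟨_, ⟨hN.ext inf_le_left k1 k3, f, fun x hx h => ?_⟩, fun W hW h => ?_⟩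
    · have : ψ x = 0 := by
        by_contra h0
        refine ha' (-(ψ x)⁻¹ • (x - ψ x • e)) (H.smul_mem _ (hs x hx)) ?_
        rw [k2] at h
        rw [map_smul, eq_neg_of_add_eq_zero_left h, neg_smul_neg, inv_smul_smul₀ h0]
      exact hf x ⟨hx, this⟩ (k1 x ⟨hx, this⟩ ▸ h)
    · have : W ≤ H := fun x hx => ⟨(hW hx).1, by
        have a1 : ψ (x + _) = 0 := (hW hx).2
        rwa [map_add, show ψ _ = 0 from (k3 x (hW hx).1).2, add_zero] at a1⟩
      exact ho W this fun x hx => by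
        have a1 := h x hx
        rwa [End.mul_apply, LinearMap.add_apply, k1 x (this hx)] at a1
  · push Not at h4
    obtain ⟨l, hl⟩ : ∃ l : Dual K V, H = ⊥ ∨ ∃ x ∈ H, l x ≠ 0 := by
      by_cases h : H = ⊥
      · exact ⟨0, .inl h⟩
      · obtain ⟨x, hx, h0⟩ := exists_mem_ne_zero_of_ne_bot h
        obtain ⟨l, hl⟩ := not_forall.1 ((forall_dual_apply_eq_zero_iff K x).not.2 h0)
        exact ⟨l, .inr ⟨x, hx, hl⟩⟩
    have g1 : ∀ x ∈ H, g x ∈ H := fun x hx => ⟨h1 x hx.1, h4 x hx⟩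
    obtain ⟨N, ⟨hN, f, hf⟩, ho⟩ := ih' g l g1 (fun x hx => h2 x hx.1) hl
    have m1 : ∀ x ∈ H, (g * (1 + N)) x ∈ H := fun x hx => g1 _ (H.add_mem hx (hN.1 x hx))
    have m2 : ∀ x ∈ H, (g * (1 + N)) x = 0 → x = 0 := fun x hx h => hN.eq_zero (c := -1) (by simp) hx (by
      simpa using eq_neg_of_add_eq_zero_right (h2 _ (H.add_mem hx (hN.1 x hx)).1 h))
    have m3 : ∀ k : ℕ, ∀ x ∈ H, ((g * (1 + N)) ^ k) x = 0 → x = 0 := fun k => by
      induction k with
      | zero => simp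
      | succ k ih => exact fun x hx h => m2 x hx (ih _ (m1 x hx) (by rwa [pow_succ] at h))
    obtain ⟨m, hm, hm'⟩ : ∃ m : Dual K V, (∀ x ∈ H, N x = 0 → m x = 0 → x = 0) ∧
        Obs (g * (1 + N)) (H ⊓ LinearMap.ker m) := by
      have key : ∀ k : ℕ, Obs (g * (1 + N)) (H ⊓ LinearMap.ker ((l ∘ₗ (1 + N)) ∘ₗ ((g * (1 + N)) ^ k))) :=
        fun k W hW h => by
          have := ho (W.map ((g * (1 + N)) ^ k)) (by
            rintro _ ⟨x, hx, rfl⟩
            exact ⟨End.pow_apply_mem_of_forall_mem _ m1 _ (hW hx).1, (hW hx).2⟩) (by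
            rintro _ ⟨x, hx, rfl⟩
            exact ⟨_, h x hx, by rw [← End.mul_apply, ← pow_succ, pow_succ', End.mul_apply]⟩)
          exact (Submodule.eq_bot_iff _).2 fun x hx => m3 k x (hW hx).1 ((Submodule.eq_bot_iff _).1 this _ ⟨x, hx, rfl⟩)
      by_contra hc
      have hc' := fun k : ℕ => (not_and'.1 (not_exists.1 hc _) (key k))
      push Not at hc'
      obtain ⟨x, hx, a1, -, a2⟩ := hc' 0
      obtain ⟨c, hc''⟩ := hf x hx a1
      have := ho (span K (Set.range fun k : ℕ => ((g * (1 + N)) ^ k) x)) (span_le.2 ?_) fun y hy => ?_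
      · exact a2 ((Submodule.eq_bot_iff _).1 this _ (subset_span ⟨0, rfl⟩))
      · rintro _ ⟨k, rfl⟩
        refine ⟨End.pow_apply_mem_of_forall_mem _ m1 _ hx, ?_⟩
        obtain ⟨y, hy, b1, b2, b3⟩ := hc' k
        obtain ⟨d, rfl⟩ := hf y hy b1
        have : d ≠ 0 := by rintro rfl; simp at b3
        rw [map_smul, smul_eq_zero, or_iff_right this] at b2
        change ((l ∘ₗ (1 + N)) ∘ₗ ((g * (1 + N)) ^ k)) x = 0
        rw [hc'', map_smul, b2, smul_zero]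
      · refine (show span K _ ≤ (span K _).comap (g * (1 + N)) from span_le.2 ?_) hy
        rintro _ ⟨k, rfl⟩
        exact subset_span ⟨k + 1, by beta_reduce; rw [pow_succ']; rfl⟩
    let π : End K V := 1 - ψ.smulRight e
    have p1 : ∀ x, π x = x - ψ x • e := fun x => rfl
    replace hs : ∀ x ∈ D, π x ∈ H := hs
    have p2 : ∀ x ∈ H, π x = x := fun x hx => by simp [p1, show ψ x = 0 from hx.2]
    have p3 : π e = 0 := by simp [p1, e1]
    let N' : End K V := N * π + (m ∘ₗ π).smulRight e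
    have n1 : ∀ x, N' x = N (π x) + m (π x) • e := fun x => rfl
    have n2 : ∀ x ∈ D, π (N' x) = N (π x) := fun x hx => by
      rw [n1, map_add, map_smul, p3, p2 _ (hN.1 _ (hs x hx))]; simp
    have n3 : ∀ x ∈ D, N' x ∈ D := fun x hx => D.add_mem (hN.1 _ (hs x hx)).1 (D.smul_mem _ he)
    have n4 : ∀ k : ℕ, ∀ x ∈ D, π ((N' ^ k) x) = (N ^ k) (π x) := fun k => by
      induction k with
      | zero => simp
      | succ k ih => intro x hx; rw [pow_succ, pow_succ, End.mul_apply, End.mul_apply, ih _ (n3 x hx), n2 x hx]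
    obtain ⟨k, hk⟩ := hN.2
    refine ⟨N', ⟨⟨n3, k + 1, fun x hx => ?_⟩, e, fun x hx h => ⟨ψ x, ?_⟩⟩, fun W hW h => ?_⟩
    · rw [pow_succ', End.mul_apply, n1, n4 k x hx, hk _ (hs x hx)]; simp
    · have a1 := n2 x hx
      rw [h, map_zero] at a1
      have a2 := congrArg ψ h
      rw [n1, ← a1] at a2
      exact sub_eq_zero.1 (hm (π x) (hs x hx) a1.symm (by simpa [e1] using a2))
    · have a1 : ∀ x ∈ W, ψ x + m (π x) = 0 := fun x hx => by
        have : ψ (x + N' x) = 0 := (hW hx).2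
        simpa [n1, e1, show ψ (N (π x)) = 0 from (hN.1 _ (hs x (hW hx).1)).2] using this
      have a2 : ∀ x ∈ W, (g * (1 + N')) x = (g * (1 + N)) (π x) := fun x hx => by
        simp only [End.mul_apply, LinearMap.add_apply, End.one_apply, n1]
        rw [eq_neg_of_add_eq_zero_right (a1 x hx), p1 x]; congr 1; simp; abel
      have a3 := hm' (W ⊓ H) (fun x hx => ⟨hx.2, by
        simpa [p2 x hx.2, show ψ x = 0 from hx.2.2] using a1 x hx.1⟩) fun x hx =>
          ⟨by have := h x hx.1; rwa [a2 x hx.1, p2 x hx.2] at this, m1 x hx.2⟩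
      refine (Submodule.eq_bot_iff _).2 fun x hx => ?_
      have a4 := m2 _ (hs x (hW hx).1) ((Submodule.eq_bot_iff _).1 a3 _ ⟨a2 x hx ▸ h x hx, m1 _ (hs x (hW hx).1)⟩)
      have a5 := a1 x hx
      rw [a4, map_zero, add_zero] at a5
      simpa [p1, a5] using a4

/-- Pole shifting. -/
theorem shift (D : Submodule K V) (ψ : Dual K V) (T : End K V) (h1 : ∀ x ∈ D ⊓ LinearMap.ker ψ, T x ∈ D)
    (h2 : Obs T (D ⊓ LinearMap.ker ψ)) : ∃ M : End K V, (∀ x ∈ D ⊓ LinearMap.ker ψ, M x = T x) ∧ Nil D (M - 1) := by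
  induction h : finrank K D using Nat.strong_induction_on generalizing D with | _ n ih => ?_
  subst h
  set H := D ⊓ LinearMap.ker ψ with hH
  have k1 : H.map (T - 1) ≤ D := by rintro _ ⟨x, hx, rfl⟩; exact D.sub_mem (h1 x hx) hx.1
  by_cases h3 : ∃ x ∈ H.map (T - 1), ψ x ≠ 0
  · obtain ⟨e, he, e1⟩ := exists_one h3
    have k2 : H.map (T - 1) ⊓ LinearMap.ker ψ ≤ H := inf_le_inf_right _ k1
    obtain ⟨M, m1, m2⟩ := ih _ ((finrank_map_le _ _).trans_lt (finrank_lt' ⟨e, k1 he, by simp [e1]⟩)) (H.map (T - 1))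
      (fun x hx => by simpa using add_mem (mem_map_of_mem (f := T - 1) (k2 hx)) hx.1)
      (fun W hW => h2 W (hW.trans k2)) rfl
    have k3 : ∀ x, (T + ψ.smulRight (M e - T e) - 1) x = (T - 1) (x - ψ x • e) + ψ x • (M - 1) e := fun x => by
      simp [smul_sub]; abel
    refine ⟨T + ψ.smulRight (M e - T e), fun x hx => by simp [show ψ x = 0 from hx.2],
      m2.ext k1 (fun x hx => ?_) fun x hx => ?_⟩
    · rw [k3, LinearMap.sub_apply T, ← m1 _ (sub_mem he e1 hx)]; simp [smul_sub]; abel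
    · exact k3 x ▸ add_mem (mem_map_of_mem (sub_mem (k1 he) e1 hx)) (smul_mem _ _ (m2.1 e he))
  · push Not at h3
    have := h2 H le_rfl fun x hx => ⟨h1 x hx, by
      simpa [show ψ x = 0 from hx.2] using h3 _ (mem_map_of_mem (f := T - 1) hx)⟩
    exact ⟨1, fun x hx => by rw [this] at hx; simp [(mem_bot K).1 hx], by simp, 1, by simp⟩

end Cfsg.Agent.H3.Lev
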