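import Cfsg.Agent.H3.Lev1

/-! Every non-scalar map of determinant `s²` is a product of two maps similar to `J(1) ⊕ s`. -/

set_option autoImplicit false

namespace Cfsg.Agent.H3.Lev

open Module Submodule LinearMap

variable {K V : Type*} [Field K] [AddCommGroup V] [Module K V] {D : Submodule K V} {N A B g : End K V} {ψ : Dual K V}
  {s : K}

/-- The maps similar to `J(1) ⊕ s`. -/
def Ty (s : K) (A : End K V) : Prop := ∃ ψ : Dual K V, ψ ≠ 0 ∧ (∀ x, ψ (A x) = s * ψ x) ∧ RegN (ker ψ) (A - 1)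

theorem exists_one' (h : ψ ≠ 0) : ∃ x, ψ x = 1 := by
  obtain ⟨x, -, h⟩ := exists_one (D := ⊤) (ψ := ψ) (by by_contra! e; exact h (LinearMap.ext fun x => e x trivial))
  exact ⟨x, h⟩

theorem Nil.inv (h : Nil D (A - 1)) (h1 : B * A = 1) (h2 : A * B = 1) (h3 : ∀ x ∈ D, B x ∈ D) : Nil D (B - 1) := by
  obtain ⟨-, k, hk⟩ := h
  have e : B - 1 = -B * (A - 1) := by rw [mul_sub, neg_mul, h1]; simp; abel
  have c : Commute (-B) (A - 1) := (Commute.sub_right (h1.trans h2.symm) (Commute.one_right B)).neg_left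
  exact ⟨fun x hx => D.sub_mem (h3 x hx) hx, k, fun x hx => by rw [e, c.mul_pow, End.mul_apply, hk x hx, map_zero]⟩

theorem RegN.inv (hN : RegN (ker ψ) (A - 1)) (e : ∀ x, ψ (A x) = s * ψ x) (hs : s ≠ 0) (h1 : B * A = 1)
    (h2 : A * B = 1) : (∀ x, ψ (B x) = s⁻¹ * ψ x) ∧ RegN (ker ψ) (B - 1) := by
  obtain ⟨hN, f, hf⟩ := hN
  have e' : ∀ x, ψ (B x) = s⁻¹ * ψ x := fun x => by
    rw [eq_inv_mul_iff_mul_eq₀ hs, ← e, ← End.mul_apply, h2, End.one_apply]
  refine ⟨e', hN.inv h1 h2 fun x hx => by simp [e', mem_ker.1 hx], f, fun x hx h => hf x hx ?_⟩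
  have : B x = x := sub_eq_zero.1 h
  rw [LinearMap.sub_apply, ← this, ← End.mul_apply, h2, this, sub_self]

theorem Ty.inv (h : Ty s A) (hs : s ≠ 0) (h1 : B * A = 1) (h2 : A * B = 1) : Ty s⁻¹ B :=
  h.imp fun _ h => ⟨h.1, h.2.2.inv h.2.1 hs h1 h2⟩

theorem li_pow (N : End K V) (k : ℕ) : ∀ x, (N ^ (k + 1)) x = 0 → (N ^ k) x ≠ 0 →
    LinearIndependent K fun i : Fin (k + 1) => (N ^ (i : ℕ)) x := by
  induction k with
  | zero => intro x _ h; exact (linearIndependent_unique_iff (ι := Fin 1)).2 h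
  | succ k ih =>
    intro x h1 h2
    have : (fun i : Fin (k + 2) => (N ^ (i : ℕ)) x) = Fin.cons x fun i : Fin (k + 1) => (N ^ (i : ℕ)) (N x) := by
      funext i; refine i.cases rfl fun i => ?_; simp [pow_succ]
    rw [this, linearIndependent_finCons]
    refine ⟨ih _ (by rwa [pow_succ] at h1) (by rwa [pow_succ] at h2), fun h => h2 ?_⟩
    refine (show span K _ ≤ ker (N ^ (k + 1)) from span_le.2 ?_) h
    rintro _ ⟨i, rfl⟩
    change (N ^ (k + 1) * N ^ (i : ℕ) * N) x = 0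
    rw [← pow_add, ← pow_succ, show k + 1 + i + 1 = i + (k + 1 + 1) by ring, pow_add, End.mul_apply, h1, map_zero]

variable [FiniteDimensional K V]

theorem det_of_nil (h : Nil ⊤ (A - 1)) : LinearMap.det A = 1 := by
  obtain ⟨-, k, hk⟩ := h
  have := (1 - A).eval_charpoly 1
  rw [IsNilpotent.charpoly_eq_X_pow_finrank (by
    simpa using IsNilpotent.neg ⟨k, LinearMap.ext fun x => hk x trivial⟩)] at this
  simpa using this.symm

theorem det_of (h0 : ψ ≠ 0) (hs : s ≠ 0) (e : ∀ x, ψ (A x) = s * ψ x) (h : Nil (ker ψ) (A - 1)) :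
    LinearMap.det A = s := by
  obtain ⟨v, hv⟩ := exists_one' h0
  have := det_of_nil (h.ext le_top (N' := transvection ψ ((s⁻¹ - 1) • v) * A - 1)
    (fun x hx => by simp [transvection.apply, e, mem_ker.1 hx]) fun x _ => by
      simp [transvection.apply, e, hv]; field_simp; ring)
  rw [map_mul, transvection.det, map_smul, hv, smul_eq_mul, mul_one, add_sub_cancel] at this
  exact ((inv_mul_eq_one₀ hs).1 this).symm

theorem Ty.det (h : Ty s A) (hs : s ≠ 0) : LinearMap.det A = s := by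
  obtain ⟨ψ, h0, e, hN, -⟩ := h
  exact det_of h0 hs e hN

theorem RegN.exists_pow (h : RegN D N) {k : ℕ} (hk : finrank K D = k + 1) :
    ∃ x ∈ D, (N ^ (k + 1)) x = 0 ∧ (N ^ k) x ≠ 0 := by
  obtain ⟨⟨h1, l, h2⟩, f, hf⟩ := h
  have a1 : ∀ i : ℕ, finrank K D ≤ finrank K (D.map (N ^ i)) + i := fun i => by
    induction i with
    | zero => rw [pow_zero, End.one_eq_id, Submodule.map_id]; rfl
    | succ i ih =>
      have b1 := finrank_range_add_finrank_ker (N.domRestrict (D.map (N ^ i)))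
      rw [range_domRestrict, ker_domRestrict, ← Submodule.map_comp, ← End.mul_eq_comp, ← pow_succ',
        ← finrank_map_subtype_eq, map_comap_subtype] at b1
      have b2 : finrank K ↥(D.map (N ^ i) ⊓ ker N) ≤ 1 := (finrank_mono (t := span K {f}) (by
        rintro _ ⟨⟨x, hx, rfl⟩, h⟩
        obtain ⟨c, hc⟩ := hf _ (End.pow_apply_mem_of_forall_mem i h1 x hx) h
        exact mem_span_singleton.2 ⟨c, hc.symm⟩)).trans ((finrank_span_le_card _).trans (by simp))
      omega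
  obtain ⟨_, ⟨x, hx, rfl⟩, h0⟩ := exists_mem_ne_zero_of_ne_bot (p := D.map (N ^ k)) fun e => by
    have := a1 k; rw [e, finrank_bot] at this; omega
  classical
  have ex : ∃ l : ℕ, (N ^ l) x = 0 := ⟨l, h2 x hx⟩
  have a2 : k < Nat.find ex := by
    by_contra! hc
    obtain ⟨d, rfl⟩ := Nat.exists_eq_add_of_le' hc
    exact h0 (by rw [pow_add, End.mul_apply, Nat.find_spec ex, map_zero])
  obtain ⟨d, hd⟩ : ∃ d, Nat.find ex = d + 1 := ⟨_, (Nat.sub_add_cancel (by omega)).symm⟩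
  have a3 := li_pow N d x (hd ▸ Nat.find_spec ex) (Nat.find_min ex (by omega))
  let v : Fin (d + 1) → D := fun i => ⟨(N ^ (i : ℕ)) x, End.pow_apply_mem_of_forall_mem i h1 x hx⟩
  have a4 := (LinearIndependent.of_comp D.subtype (v := v) a3).fintype_card_le_finrank
  rw [Fintype.card_fin] at a4
  exact ⟨x, hx, by rw [show k = d by omega, ← hd]; exact Nat.find_spec ex, h0⟩

theorem finrank_ker' (h0 : ψ ≠ 0) {k : ℕ} (hk : finrank K V = k + 1) : finrank K (ker ψ) = k := by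
  have := Dual.finrank_ker_add_one_of_ne_zero h0; omega

theorem Ty.exists_basis (h : Ty s A) (hs : s ≠ 1) {k : ℕ} (hk : finrank K V = k + 2) :
    ∃ b : Basis (Option (Fin (k + 1))) K V, A (b none) = s • b none ∧ A (b (some (Fin.last k))) = b (some (Fin.last k)) ∧
      ∀ i : Fin k, A (b (some i.castSucc)) = b (some i.castSucc) + b (some i.succ) := by
  obtain ⟨ψ, h0, e, hN⟩ := h
  obtain ⟨x, hx, h1, h2⟩ := hN.exists_pow (finrank_ker' h0 hk)
  obtain ⟨v, hv, v0⟩ : ∃ v, A v = s • v ∧ v ≠ 0 := by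
    by_contra! hc
    obtain ⟨y, hy⟩ := exists_one' h0
    obtain ⟨z, rfl⟩ := injective_iff_surjective.1 ((injective_iff_map_eq_zero (A - s • 1)).2 fun v hv =>
      hc v (sub_eq_zero.1 hv)) y
    simp [e] at hy
  have v1 : ψ v ≠ 0 := fun h => v0 (hN.1.eq_zero (sub_ne_zero.2 hs) h (by simp [hv, sub_smul]))
  have li := (linearIndependent_option' (x := v)).2 ⟨li_pow _ k x h1 h2, fun h => v1 (span_le (p := ker ψ).2 (by
    rintro _ ⟨i, rfl⟩; exact End.pow_apply_mem_of_forall_mem _ hN.1.1 x hx) h)⟩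
  refine ⟨basisOfLinearIndependentOfCardEqFinrank li (by simp [hk]), by simpa using hv, ?_, fun i => ?_⟩ <;>
    simp only [coe_basisOfLinearIndependentOfCardEqFinrank, Option.casesOn'_some, Fin.val_last, Fin.val_succ,
      Fin.val_castSucc]
  · rw [pow_succ'] at h1; exact sub_eq_zero.1 h1
  · rw [pow_succ']; simp

theorem Ty.conj (h : Ty s A) (h' : Ty s B) (hs : s ≠ 1) {k : ℕ} (hk : finrank K V = k + 2) :
    ∃ y : End K V, LinearMap.det y = 1 ∧ y * A = B * y := by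
  obtain ⟨b, b1, b2, b3⟩ := h.exists_basis hs hk
  obtain ⟨c, c1, c2, c3⟩ := h'.exists_basis hs hk
  have h0 : LinearMap.det (b.equiv c (Equiv.refl _)).toLinearMap ≠ 0 := (LinearEquiv.isUnit_det' _).ne_zero
  refine ⟨b.equiv c (Equiv.refl _) * transvection (b.coord none)
    (((LinearMap.det (b.equiv c (Equiv.refl _)).toLinearMap)⁻¹ - 1) • b none), ?_, b.ext ?_⟩
  · rw [map_mul, transvection.det, map_smul, b.coord_apply, b.repr_self_apply, if_pos rfl]; simp only [smul_eq_mul]; field_simp; ring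
  · rintro (_ | i)
    · simp [b1, c1, transvection.apply, smul_smul, mul_comm]
    · refine i.lastCases ?_ fun i => ?_ <;> simp [b2, c2, b3, c3, transvection.apply]

theorem exists_ns (hg : ∀ c : K, g ≠ c • 1) : ∃ (ψ : Dual K V) (v : V), ψ v = 0 ∧ ψ (g v) ≠ 0 := by
  by_contra! h
  obtain ⟨c, hc⟩ := exists_eq_smul_id_of_forall_notLinearIndependent (f := g) fun v hv => by
    have := (exists_dual_map_eq_bot_of_notMem (p := span K {v}) (x := g v) (fun h => by
      obtain ⟨c, hc⟩ := mem_span_singleton.1 h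
      simpa using (LinearIndependent.pair_iff.1 hv c (-1) (by simp [hc])).2) inferInstance)
    obtain ⟨ψ, h1, h2⟩ := this
    exact h1 (h ψ v ((Submodule.eq_bot_iff _).1 h2 _ (mem_map_of_mem (mem_span_singleton_self v))))
  exact hg c hc

theorem two (hg : ∀ c : K, g ≠ c • 1) (h0 : s ≠ 0) (hd : LinearMap.det g = s ^ 2) :
    ∃ A B : End K V, Ty s A ∧ Ty s B ∧ g = A * B := by
  obtain ⟨ψ, v, h1, h2⟩ := exists_ns hg
  have ψ0 : ψ ≠ 0 := by rintro rfl; exact h2 rfl
  have v0 : v ≠ 0 := by rintro rfl; simp at h2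
  obtain ⟨g, rfl⟩ := (isUnit_iff_isUnit_det g).2 (hd ▸ (pow_ne_zero 2 h0).isUnit)
  obtain ⟨N, hN, ho⟩ := obsA (D := ⊤) (g := g) (ψ := ψ) (rs_all _) (by simp)
    (fun x _ h => by simpa [← End.mul_apply] using congrArg g⁻¹.1 h) ⟨v, ⟨trivial, h1⟩, h2⟩
  rw [top_inf_eq] at hN ho
  set T := g.1 * (1 + N)
  have i1 : ∀ x ∈ ker ψ, (T - s • 1) x = 0 → x = 0 := fun x hx h =>
    span_singleton_eq_bot.1 (ho (span K {x}) ((span_singleton_le_iff_mem _ _).2 hx) fun y hy => by
      obtain ⟨c, rfl⟩ := mem_span_singleton.1 hy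
      rw [map_smul, show T x = s • x from sub_eq_zero.1 h]
      exact smul_mem _ _ (smul_mem _ _ (mem_span_singleton_self x)))
  have i2 : finrank K ((ker ψ).map (T - s • 1)) = finrank K (ker ψ) := by
    have := finrank_range_add_finrank_ker ((T - s • 1).domRestrict (ker ψ))
    rwa [range_domRestrict, ker_eq_bot'.2 (fun x h => Subtype.ext (i1 x.1 x.2 h)), finrank_bot, add_zero] at this
  have i3 := Dual.finrank_ker_add_one_of_ne_zero ψ0
  obtain ⟨χ, χ0, hχ⟩ := exists_dual_map_eq_bot_of_lt_top (p := (ker ψ).map (T - s • 1))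
    (lt_top_iff_ne_top.2 fun e => by rw [e, finrank_top] at i2; omega) inferInstance
  have i4 : (ker ψ).map (T - s • 1) = ker χ := eq_of_le_of_finrank_eq
    (fun x hx => (Submodule.eq_bot_iff _).1 hχ _ (mem_map_of_mem hx))
    (by have := Dual.finrank_ker_add_one_of_ne_zero χ0; omega)
  have i5 : ∀ x ∈ ker ψ, χ (T x) = s * χ x := fun x hx => by
    simpa [sub_eq_zero] using (i4.le (mem_map_of_mem hx) : χ ((T - s • 1) x) = 0)
  obtain ⟨e, he, e1⟩ := exists_one (D := ker χ) (ψ := ψ) (by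
    by_contra! hc
    have := ho _ le_rfl fun x hx => by
      simpa [mem_ker.1 hx] using hc _ (i4.le (mem_map_of_mem (f := T - s • 1) hx))
    exact v0 ((Submodule.eq_bot_iff _).1 this v h1))
  obtain ⟨M, m1, m2⟩ := shift (ker χ) ψ T (fun x hx => by simp [i5 x hx.2, mem_ker.1 hx.1])
    fun W hW => ho W (hW.trans inf_le_right)
  set A := T + ψ.smulRight (M e - T e) with hA
  have k1 : ∀ x ∈ ker ψ, A x = T x := fun x hx => by simp [hA, mem_ker.1 hx]
  have k2 : ∀ x, A x = T (x - ψ x • e) + ψ x • M e := fun x => by simp [hA, smul_sub]; abel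
  have k3 : χ (M e) = 0 := by simpa [mem_ker.1 he] using m2.1 e he
  have tA : Ty s A := by
    refine ⟨χ, χ0, fun x => by simp [-map_sub, k2, k3, i5 _ (sub_mem (D := ⊤) trivial e1 trivial).2]; simp [mem_ker.1 he],
      m2.ext le_rfl (fun x hx => ?_) fun x hx => ?_, ?_⟩
    · rw [LinearMap.sub_apply, k2, ← m1 _ (sub_mem he e1 hx)]; simp
    · have := m2.1 x hx
      rw [LinearMap.sub_apply, k2, ← m1 _ (sub_mem he e1 hx)]; simpa using this
    · by_cases h : ∃ f, A f = f ∧ ψ f = 1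
      · obtain ⟨f, f1, f2⟩ := h
        refine ⟨f, fun x _ hx => ⟨ψ x, sub_eq_zero.1 (span_singleton_eq_bot.1 (ho (span K {x - ψ x • f})
          ((span_singleton_le_iff_mem _ _).2 (by simp [f2])) fun y hy => ?_))⟩⟩
        obtain ⟨c, rfl⟩ := mem_span_singleton.1 hy
        rwa [← k1 _ (by simp [f2]), map_smul, map_sub, map_smul, f1, show A x = x from sub_eq_zero.1 hx]
      · refine ⟨0, fun x _ hx => ⟨0, ?_⟩⟩
        have a1 : A x = x := sub_eq_zero.1 hx
        have a2 : ψ x = 0 := by_contra fun a2 => h ⟨(ψ x)⁻¹ • x, by simp [a1], by simp [a2]⟩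
        refine (span_singleton_eq_bot.1 (ho (span K {x}) ((span_singleton_le_iff_mem _ _).2 a2) fun y hy => ?_)).trans
          (by simp)
        obtain ⟨c, rfl⟩ := mem_span_singleton.1 hy
        rwa [← k1 _ (by simp [a2]), map_smul, a1]
  have dA := tA.det h0
  have j1 : ∀ x ∈ ker ψ, (g⁻¹.1 * A - 1) x = N x := fun x hx => by
    rw [LinearMap.sub_apply, End.mul_apply, k1 x hx, ← End.mul_apply, Units.inv_mul_cancel_left]; simp
  have j2 : ∀ x, ψ ((g⁻¹.1 * A) x) = ψ ((g⁻¹.1 * A) e) * ψ x := fun x => by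
    have := hN.1.1 _ (sub_mem (D := ⊤) trivial e1 trivial : x - ψ x • e ∈ _).2
    rw [← j1 _ (by simp [e1])] at this
    simpa [e1, sub_eq_zero, mul_comm] using this
  have j3 : LinearMap.det (g⁻¹.1 * A) = s⁻¹ := by
    have := congrArg LinearMap.det g.inv_mul
    rw [map_mul, hd, map_one] at this
    rw [map_mul, dA, eq_inv_of_mul_eq_one_left this]; field_simp
  obtain ⟨j, hj⟩ := (isUnit_iff_isUnit_det _).2 (j3 ▸ (inv_ne_zero h0).isUnit)
  have j4 := hN.1.ext le_rfl j1 fun x hx => j1 x hx ▸ hN.1.1 x hx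
  have j5 : ψ ((g⁻¹.1 * A) e) ≠ 0 := fun h => by
    have := j2 (j⁻¹.1 e)
    rw [h, ← hj, ← End.mul_apply, j.mul_inv] at this
    simp [e1] at this
  have j6 := (det_of ψ0 j5 j2 j4).symm.trans j3
  obtain ⟨f, hf⟩ := hN.2
  have tB : Ty s⁻¹ j.1 := hj ▸ ⟨ψ, ψ0, j6 ▸ j2, j4, f, fun x hx h => hf x hx (j1 x hx ▸ h)⟩
  refine ⟨A, j⁻¹.1, tA, by simpa using tB.inv (inv_ne_zero h0) j.inv_mul j.mul_inv, ?_⟩
  rw [Units.eq_mul_inv_iff_mul_eq, hj, Units.mul_inv_cancel_left]

end Cfsg.Agent.H3.Lev
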