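import Cfsg.Agent.H3.Lev2

/-! Products of two regular unipotent maps: the basic steps. -/

set_option autoImplicit false

namespace Cfsg.Agent.H3.Lev

open Module Submodule LinearMap

variable {K V : Type*} [Field K] [AddCommGroup V] [Module K V] {D H : Submodule K V} {N N' A B g j : End K V}
  {ψ χ m : Dual K V} {s : K}

/-- Regular unipotent maps. -/
def RU (A : End K V) : Prop := RegN ⊤ (A - 1)

/-- The field has at least four elements. -/
def Big (K : Type*) : Prop := ∀ x y z : K, ∃ t, t ≠ x ∧ t ≠ y ∧ t ≠ z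

theorem Big.aff (hK : Big K) {a b c d : K} (h : a ≠ 0 ∨ b ≠ 0) (h' : c ≠ 0 ∨ d ≠ 0) :
    ∃ t, t ≠ 0 ∧ a + t * b ≠ 0 ∧ c + t * d ≠ 0 := by
  obtain ⟨t, h0, h1, h2⟩ := hK 0 (-a / b) (-c / d)
  have k : ∀ a b : K, a ≠ 0 ∨ b ≠ 0 → t ≠ -a / b → a + t * b ≠ 0 := fun a b h h1 e => by
    by_cases hb : b = 0
    · simp_all
    · exact h1 (by field_simp; linear_combination e)
  exact ⟨t, h0, k a b h h1, k c d h' h2⟩

theorem Big.avoid (hK : Big K) (h : ∃ x ∈ D, ψ x ≠ 0) (h' : ∃ x ∈ D, χ x ≠ 0) (c : K) :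
    ∃ x ∈ D, ψ x ≠ 0 ∧ χ x ≠ c := by
  obtain ⟨x, hx, h⟩ := h
  obtain ⟨y, hy, h'⟩ := h'
  obtain ⟨t, -, h1, h2⟩ := hK.aff (b := ψ y) (c := χ x - c) (.inl h) (.inr h')
  exact ⟨x + t • y, D.add_mem hx (D.smul_mem _ hy), by simpa using h1, fun e => h2 (by simp at e; linear_combination e)⟩

theorem RU.ext (e : ∀ x, ψ (j x) = ψ x) (h : RegN (ker ψ) (j - 1)) (h' : ∀ x, ψ x = 1 → j x ≠ x) : RU j := by
  obtain ⟨h, f, hf⟩ := h
  refine ⟨h.ext le_top (fun _ _ => rfl) fun x _ => by simp [e], f, fun x _ hx => hf x (by_contra fun h0 => ?_) hx⟩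
  exact h' ((ψ x)⁻¹ • x) (by simp [show ψ x ≠ 0 from h0]) (by rw [map_smul, show j x = x from sub_eq_zero.1 hx])

theorem RU.conj (h : RU A) (y : (End K V)ˣ) : RU (y⁻¹.1 * A * y.1) := by
  obtain ⟨⟨-, k, h⟩, f, hf⟩ := h
  have e : y⁻¹.1 * A * y.1 - 1 = y⁻¹.1 * (A - 1) * y.1 := by simp [mul_sub, sub_mul]
  refine ⟨⟨by simp, k, fun x _ => by rw [e, Units.conj_pow']; simp [h _ trivial]⟩, y⁻¹.1 f, fun x _ hx => ?_⟩
  obtain ⟨c, hc⟩ := hf (y.1 x) trivial (by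
    rw [e] at hx
    have := congrArg y.1 hx
    rwa [End.mul_apply, End.mul_apply, ← End.mul_apply y.1, y.mul_inv, End.one_apply, map_zero] at this)
  exact ⟨c, by rw [← map_smul, ← hc, ← End.mul_apply, y.inv_mul, End.one_apply]⟩

theorem RegN.of_sub {N₀ : End K D} (h : RegN ⊤ N₀) (e : ∀ x : D, N x = N₀ x) : RegN D N := by
  obtain ⟨⟨-, k, h⟩, f, hf⟩ := h
  have : ∀ k : ℕ, ∀ x : D, (N ^ k) x = (N₀ ^ k) x := fun k => by
    induction k with
    | zero => simp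
    | succ k ih => intro x; rw [pow_succ, pow_succ, End.mul_apply, End.mul_apply, e, ih]
  refine ⟨⟨fun x hx => e ⟨x, hx⟩ ▸ (N₀ _).2, k, fun x hx => by simpa [h _ trivial] using this k ⟨x, hx⟩⟩, f, fun x hx h => ?_⟩
  exact (hf ⟨x, hx⟩ trivial (Subtype.ext (e ⟨x, hx⟩ ▸ h))).imp fun c hc => congrArg Subtype.val hc

theorem Nil.exists_dual (h : Nil D N) (hD : D ≠ ⊥) : ∃ l : Dual K V, (∃ x ∈ D, l x ≠ 0) ∧ ∀ x ∈ D, l (N x) = 0 := by
  obtain ⟨a, ha, h⟩ := h.exists_not hD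
  obtain ⟨l, h1, h2⟩ := exists_dual_map_eq_bot_of_notMem (p := D.map N) (x := a)
    (by rintro ⟨x, hx, e⟩; exact h x hx e.symm) inferInstance
  exact ⟨l, ⟨a, ha, h1⟩, fun x hx => (Submodule.eq_bot_iff _).1 h2 _ (mem_map_of_mem (mem_map_of_mem hx))⟩

theorem Nil.line {e : V} (h : Nil (D ⊓ ker χ) N) (he : e ∈ D) (e1 : χ e = 1)
    (h1 : ∀ x ∈ D, N' x = N (x - χ x • e) + m (x - χ x • e) • e) : Nil D N' := by
  obtain ⟨h, k, hk⟩ := h
  have hs := fun x => sub_mem (x := x) he e1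
  have n3 : ∀ x ∈ D, N' x ∈ D := fun x hx => h1 x hx ▸ D.add_mem (h _ (hs x hx)).1 (D.smul_mem _ he)
  have n2 : ∀ x ∈ D, N' x - χ (N' x) • e = N (x - χ x • e) := fun x hx => by
    rw [h1 x hx, map_add, show χ (N _) = 0 from (h _ (hs x hx)).2]; simp [e1]
  have n4 : ∀ k : ℕ, ∀ x ∈ D, (N' ^ k) x - χ ((N' ^ k) x) • e = (N ^ k) (x - χ x • e) := fun k => by
    induction k with
    | zero => simp
    | succ k ih => intro x hx; rw [pow_succ, pow_succ, End.mul_apply, End.mul_apply, ih _ (n3 x hx), n2 x hx]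
  exact ⟨n3, k + 1, fun x hx => by
    rw [pow_succ', End.mul_apply, h1 _ (End.pow_apply_mem_of_forall_mem k n3 x hx), n4 k x hx, hk _ (hs x hx)]; simp⟩

theorem RegN.line {e : V} (h : Nil (D ⊓ ker χ) N) (he : e ∈ D) (e1 : χ e = 1)
    (h1 : ∀ x ∈ D, N' x = N (x - χ x • e) + m (x - χ x • e) • e)
    (h2 : ∀ x ∈ D ⊓ ker χ, N x = 0 → m x = 0 → x = 0) : RegN D N' := by
  refine ⟨h.line he e1 h1, e, fun x hx h0 => ⟨χ x, sub_eq_zero.1 ?_⟩⟩
  have hs := sub_mem he e1 hx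
  rw [h1 x hx] at h0
  have a := congrArg χ h0
  rw [map_add, show χ (N _) = 0 from (h.1 _ hs).2, map_smul, e1, map_zero, zero_add, smul_eq_mul, mul_one] at a
  exact h2 _ hs (by simpa [-map_sub, a] using h0) a

variable [FiniteDimensional K V]

theorem place (h0 : ψ ≠ 0) (hd : LinearMap.det g * s = 1) (hN : Nil (ker ψ) N) (ho : Obs (g * (1 + N)) (ker ψ)) :
    ∃ j : End K V, (∀ x ∈ ker ψ, j x = x + N x) ∧ (∀ x, ψ (j x) = s * ψ x) ∧ RU (g * j) := by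
  obtain ⟨g, rfl⟩ := (isUnit_iff_isUnit_det g).2 (left_ne_zero_of_mul_eq_one hd).isUnit
  obtain ⟨M, m1, m2⟩ := shift ⊤ ψ (g.1 * (1 + N)) (by simp) (by rwa [top_inf_eq])
  rw [top_inf_eq] at m1
  obtain ⟨e, e1⟩ := exists_one' h0
  have j1 : ∀ x ∈ ker ψ, (g⁻¹.1 * M) x = x + N x := fun x hx => by
    rw [End.mul_apply, m1 x hx, ← End.mul_apply, Units.inv_mul_cancel_left]; simp
  have j2 : ∀ x, ψ ((g⁻¹.1 * M) x) = ψ ((g⁻¹.1 * M) e) * ψ x := fun x => by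
    have a := (sub_mem (D := ⊤) trivial e1 trivial : x - ψ x • e ∈ _).2
    have := (ker ψ).add_mem a (hN.1 _ a)
    rw [← j1 _ a] at this
    simpa [e1, sub_eq_zero, mul_comm] using this
  have j3 : LinearMap.det (g⁻¹.1 * M) = s := by
    have := congrArg LinearMap.det g.mul_inv
    rw [map_mul, map_one] at this
    rw [map_mul, det_of_nil m2, mul_one]
    exact mul_left_cancel₀ (left_ne_zero_of_mul_eq_one hd) (this.trans hd.symm)
  have j4 : Nil (ker ψ) (g⁻¹.1 * M - 1) :=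
    hN.ext le_rfl (fun x hx => by rw [LinearMap.sub_apply, j1 x hx]; simp) fun x hx => by
      rw [LinearMap.sub_apply, j1 x hx]; simpa using hN.1 x hx
  have j5 : ψ ((g⁻¹.1 * M) e) ≠ 0 := fun h => by
    obtain ⟨y, hy⟩ := ((isUnit_iff_isUnit_det _).2 (j3 ▸ (right_ne_zero_of_mul_eq_one hd).isUnit)).exists_right_inv
    have := j2 (y e)
    rw [h, ← End.mul_apply, hy] at this
    simp [e1] at this
  refine ⟨_, j1, (j3.symm.trans (det_of h0 j5 j2 j4)) ▸ j2, ?_⟩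
  rw [Units.mul_inv_cancel_left]
  have k : ∀ x ∈ ker ψ, M x = x → x = 0 := fun x hx h =>
    span_singleton_eq_bot.1 (ho (span K {x}) ((span_singleton_le_iff_mem _ _).2 hx) fun y hy => by
      obtain ⟨c, rfl⟩ := mem_span_singleton.1 hy
      rwa [map_smul, ← m1 x hx, h])
  refine ⟨m2, ?_⟩
  by_cases h : ∃ f, M f = f ∧ ψ f = 1
  · obtain ⟨f, f1, f2⟩ := h
    exact ⟨f, fun x _ hx => ⟨ψ x, sub_eq_zero.1 (k _ (by simp [f2]) (by simp [f1, show M x = x from sub_eq_zero.1 hx]))⟩⟩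
  · refine ⟨0, fun x _ hx => ⟨0, ?_⟩⟩
    have a1 : M x = x := sub_eq_zero.1 hx
    rw [k x (by_contra fun a2 => h ⟨(ψ x)⁻¹ • x, by simp [a1], by simp [show ψ x ≠ 0 from a2]⟩) a1, zero_smul]

theorem two' (hg : ∀ c : K, g ≠ c • 1) (hd : LinearMap.det g * s = 1) : ∃ j : End K V, Ty s j ∧ RU (g * j) := by
  obtain ⟨ψ, v, h1, h2⟩ := exists_ns hg
  have ψ0 : ψ ≠ 0 := by rintro rfl; exact h2 rfl
  obtain ⟨N, ⟨hN, f, hf⟩, ho⟩ := obsA (D := ⊤) (g := g) (ψ := ψ) (rs_all _) (by simp) (fun x _ =>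
    (injective_iff_map_eq_zero g).1 (isUnit_iff_ker_eq_bot g |>.1 ((isUnit_iff_isUnit_det g).2
      (left_ne_zero_of_mul_eq_one hd).isUnit) |> ker_eq_bot.1) x) ⟨v, ⟨trivial, h1⟩, h2⟩
  rw [top_inf_eq] at hN ho hf
  obtain ⟨j, j1, j2, j3⟩ := place ψ0 hd hN ho
  have : ∀ x ∈ ker ψ, (j - 1) x = N x := fun x hx => by simp [j1 x hx]
  exact ⟨j, ⟨ψ, ψ0, j2, hN.ext le_rfl this fun x hx => this x hx ▸ hN.1 x hx, f, fun x hx h => hf x hx (this x hx ▸ h)⟩, j3⟩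

/-- The case of a fixed covector. -/
theorem step_fix (hK : Big K) (h0 : ψ ≠ 0) (hD : ker ψ ≠ ⊥) (hg : Function.Injective g) (e : ∀ x, ψ (g x) = ψ x)
    (h1 : RegN (ker ψ) N) (h2 : RegN (ker ψ) (g * (1 + N) - 1)) : ∃ j : End K V, RU j ∧ RU (g * j) := by
  obtain ⟨v, hv⟩ := exists_one' h0
  obtain ⟨l, l1, l2⟩ := h1.1.exists_dual hD
  obtain ⟨l', ⟨y, hy, l3⟩, l4⟩ := h2.1.exists_dual hD
  obtain ⟨z, rfl⟩ := injective_iff_surjective.1 hg y
  obtain ⟨b, hb, b1, b2⟩ := hK.avoid l1 (χ := l' ∘ₗ g) ⟨z, by simpa [e] using hy, l3⟩ (l' (v - g v))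
  have hs := fun x => (sub_mem (D := ⊤) (x := x) trivial hv trivial).2
  have k : ∀ x, (1 + N + ψ.smulRight (b - N v)) x = x + N (x - ψ x • v) + ψ x • b := fun x => by simp [smul_sub]; abel
  have k1 : ∀ x, ψ ((1 + N + ψ.smulRight (b - N v)) x) = ψ x := fun x => by
    simp [-map_sub, k, mem_ker.1 hb, mem_ker.1 (h1.1.1 _ (hs x))]
  have k2 : ∀ {A B : End K V}, RegN (ker ψ) A → (∀ x ∈ ker ψ, B x = A x) → RegN (ker ψ) B := fun ⟨a, f, hf⟩ h =>
    ⟨a.ext le_rfl h fun x hx => h x hx ▸ a.1 x hx, f, fun x hx e => hf x hx (h x hx ▸ e)⟩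
  refine ⟨1 + N + ψ.smulRight (b - N v), .ext k1 (k2 h1 fun x hx => by simp [mem_ker.1 hx]) fun x hx a => b1 ?_,
    .ext (fun x => by rw [End.mul_apply, e, k1]) (k2 h2 fun x hx => by simp [mem_ker.1 hx]) fun x hx a => b2 ?_⟩
  · have := congrArg l a
    rw [k, map_add, map_add, l2 _ (hs x)] at this
    simpa [hx] using this
  · have := l4 _ (hs x)
    rw [End.mul_apply, k, hx] at a
    rw [hx] at this
    have a := congrArg l' a
    simp only [map_add, map_sub, one_smul, LinearMap.sub_apply, End.mul_apply, LinearMap.add_apply, End.one_apply,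
      comp_apply] at *
    linear_combination a - this

theorem exists_mod {v : V} (hg : Function.Injective g) (hv : ψ v = 0) (e' : ψ (g v) = 1) :
    ∃ g' : End K V, (∀ x ∈ ker ψ, g' x ∈ ker ψ) ∧ (∀ x ∈ ker ψ, g' x = 0 → x = 0) ∧ ∀ x, ψ (g x) = 0 → g' x = g x := by
  obtain ⟨w, hw, hw'⟩ : ∃ w ∈ ker ψ, w ∉ (ker ψ ⊓ ker (ψ ∘ₗ g)).map g := by
    by_contra! hc
    exact absurd ((finrank_mono hc).trans (finrank_map_le _ _)) (finrank_lt' ⟨v, hv, by simp [e']⟩).not_ge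
  refine ⟨g - (ψ ∘ₗ g).smulRight (g v - w), fun x _ => by simp [e', mem_ker.1 hw], fun x hx h => ?_, fun x hx => by simp [hx]⟩
  by_cases h0 : ψ (g x) = 0
  · exact (injective_iff_map_eq_zero g).1 hg x (by simpa [h0] using h)
  · refine absurd ⟨-(ψ (g x))⁻¹ • (x - ψ (g x) • v), smul_mem _ _ (sub_mem (ψ := ψ ∘ₗ g) hv e' hx), ?_⟩ hw'
    simp only [LinearMap.sub_apply, LinearMap.smulRight_apply, LinearMap.comp_apply, sub_eq_zero] at h
    rw [map_smul, map_sub, map_smul]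
    nth_rewrite 2 [h]
    rw [smul_sub (ψ (g x)), sub_sub_cancel_left, neg_smul_neg, inv_smul_smul₀ h0]

/-- The case of a minimal polynomial of degree at least three. -/
theorem step_cubic (hK : Big K) (hd : LinearMap.det g = 1) {v u : V} (hv : ψ v = 0) (v1 : ψ (g v) = 1)
    (u0 : ψ u = 0) (u1 : ψ (g u) = 0) (u2 : ψ (g (g u)) ≠ 0) : ∃ j : End K V, RU j ∧ RU (g * j) := by
  have hg : Function.Injective g := ker_eq_bot.1 ((isUnit_iff_ker_eq_bot g).1 ((isUnit_iff_isUnit_det g).2 (by simp [hd])))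
  have ψ0 : ψ ≠ 0 := by rintro rfl; exact u2 rfl
  obtain ⟨g', g1, g2, g3⟩ := exists_mod hg hv v1
  obtain ⟨N, ⟨hN, f, hf⟩, ho⟩ := obsA (D := ker ψ) (ψ := ψ ∘ₗ g) (rs_all _) g1 g2 ⟨u, ⟨u0, u1⟩, by simpa [g3 u u1]⟩
  set H := ker ψ ⊓ ker (ψ ∘ₗ g)
  obtain ⟨l, l1, l2⟩ := hN.exists_dual (fun h => u2 (by simp [(Submodule.eq_bot_iff _).1 h u ⟨u0, u1⟩]))
  let π : End K V := 1 - ψ.smulRight (g v - ψ (g (g v)) • v) - (ψ ∘ₗ g).smulRight v
  have p1 : ∀ x, π x ∈ H := fun x => ⟨by simp [π, hv, v1], by simp [π, v1]⟩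
  have p2 : ∀ x ∈ ker ψ, π x = x - ψ (g x) • v := fun x hx => by simp [π, mem_ker.1 hx]
  obtain ⟨a, ha, a1, a2⟩ := hK.avoid l1 (χ := ψ ∘ₗ g ∘ₗ g) ⟨u, ⟨u0, u1⟩, u2⟩ (trace K V (1 - g - g * N * π))
  let N' : End K V := N * π + (ψ ∘ₗ g).smulRight a
  have n1 : ∀ x, N' x = N (π x) + ψ (g x) • a := fun x => rfl
  have n2 : ∀ x ∈ H, N' x = N x := fun x hx => by simp [n1, p2 x hx.1, show ψ (g x) = 0 from hx.2]
  have n3 : ∀ x, N' x ∈ H := fun x => H.add_mem (hN.1 _ (p1 x)) (H.smul_mem _ ha)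
  have n4 := hN.ext inf_le_left n2 fun x _ => n3 x
  obtain ⟨j, j1, j2, j3⟩ := place (g := g) (s := 1) ψ0 (by simp [hd]) n4 fun W hW h => by
    have : W ≤ H := fun x hx => ⟨hW hx, by simpa [show ψ (g (N' x)) = 0 from (n3 x).2] using hW (h x hx)⟩
    exact ho W this fun x hx => by
      have a1 := h x hx
      rwa [End.mul_apply, LinearMap.add_apply, n2 x (this hx), End.one_apply, ← g3 _ (H.add_mem (this hx) (hN.1 x (this hx))).2] at a1
  have k : ∀ x ∈ ker ψ, (j - 1) x = N' x := fun x hx => by simp [j1 x hx]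
  refine ⟨j, .ext (by simpa using j2) ⟨n4.ext le_rfl k fun x hx => k x hx ▸ (n3 x).1, f, fun x hx h => ?_⟩ fun x hx h => a2 ?_, j3⟩
  · rw [k x hx] at h
    have := congrArg l h
    rw [n1, map_add, l2 _ (p1 x)] at this
    have : x ∈ H := ⟨hx, by simpa [a1] using this⟩
    exact hf x this (n2 x this ▸ h)
  · have e : j = 1 + N' - ψ.smulRight (N' x) := LinearMap.ext fun y => by
      have := j1 (y - ψ y • x) (by simp [hx])
      rw [map_sub, map_smul, h] at this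
      simp [sub_eq_iff_eq_add.1 this]; abel
    obtain ⟨-, k, hk⟩ := j3.1
    have := (isNilpotent_trace_of_isNilpotent ⟨k, LinearMap.ext fun x => hk x trivial⟩).eq_zero
    rw [show g * j - 1 = ((ψ ∘ₗ g).smulRight (g a) - ψ.smulRight (g (N' x))) - (1 - g - g * N * π) from
      LinearMap.ext fun y => by rw [e]; simp [n1]; abel, map_sub, map_sub, trace_smulRight, trace_smulRight,
      show ψ (g (N' x)) = 0 from (n3 x).2, sub_zero] at this
    exact sub_eq_zero.1 this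

end Cfsg.Agent.H3.Lev
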