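import Cfsg.Agent.H3.Lev4

/-! Products of two regular unipotent maps: the quadratic case and the theorem. -/

set_option autoImplicit false

namespace Cfsg.Agent.H3.Lev

open Module Submodule LinearMap

variable {K V : Type*} [Field K] [AddCommGroup V] [Module K V] {D H : Submodule K V} {N N' A B g j : End K V}
  {ψ χ m : Dual K V} {s : K} {v : V}

theorem Big.avoid3 (hK : Big K) (h1 : ∃ x ∈ D, ψ x ≠ 0) (h2 : ∃ x ∈ D, χ x ≠ 0) (h3 : ∃ x ∈ D, m x ≠ 0) (a b c : K) :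
    ∃ x ∈ D, ψ x ≠ a ∧ χ x ≠ b ∧ m x ≠ c := by
  obtain ⟨y, hy, y1, y2⟩ := hK.avoid h1 h2 0
  obtain ⟨z, hz, z1⟩ := h3
  have k : ∀ {a b t : K}, a ≠ 0 ∨ b ≠ 0 → t ≠ -a / b → t ≠ 0 ∨ a ≠ 0 → a + t * b ≠ 0 := fun {a b t} h h1 _ e => by
    by_cases hb : b = 0
    · simp_all
    · exact h1 (by field_simp; linear_combination e)
  obtain ⟨t, t1, t2, t3⟩ := hK (-ψ y / ψ z) (-χ y / χ z) (-m y / m z)
  have w1 : ψ (y + t • z) ≠ 0 := by simpa using k (.inl y1) t1 (.inr y1)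
  have w2 : χ (y + t • z) ≠ 0 := by simpa using k (.inl y2) t2 (.inr y2)
  have w3 : m (y + t • z) ≠ 0 := fun e => t3 (by simp at e; field_simp; linear_combination e)
  obtain ⟨r, r1, r2, r3⟩ := hK (a / ψ (y + t • z)) (b / χ (y + t • z)) (c / m (y + t • z))
  exact ⟨r • (y + t • z), D.smul_mem _ (D.add_mem hy (D.smul_mem _ hz)),
    fun e => r1 (eq_div_of_mul_eq w1 (by rwa [map_smul] at e)),
    fun e => r2 (eq_div_of_mul_eq w2 (by rwa [map_smul] at e)),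
    fun e => r3 (eq_div_of_mul_eq w3 (by rwa [map_smul] at e))⟩

theorem Nil.exists_ker (h : Nil D N) (hD : D ≠ ⊥) : ∃ z ∈ D, z ≠ 0 ∧ N z = 0 := by
  by_contra! hc
  obtain ⟨h, k, hk⟩ := h
  have : ∀ k : ℕ, ∀ x ∈ D, (N ^ k) x = 0 → x = 0 := fun k => by
    induction k with
    | zero => simp
    | succ k ih => exact fun x hx e => by_contra fun h0 => hc x hx h0 (ih _ (h x hx) (by rwa [pow_succ] at e))
  exact hD ((Submodule.eq_bot_iff _).2 fun x hx => this k x hx (hk x hx))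

theorem Obs.fix (h : Obs A D) {x : V} (hx : x ∈ D) (e : A x = x) : x = 0 :=
  span_singleton_eq_bot.1 (h (span K {x}) ((span_singleton_le_iff_mem _ _).2 hx) fun y hy => by
    obtain ⟨c, rfl⟩ := mem_span_singleton.1 hy
    rwa [map_smul, e])

/-- The data on an invariant subspace from which the next step is built. -/
def Dat (H : Submodule K V) (g N : End K V) (m : Dual K V) : Prop :=
  Nil H N ∧ (∀ x ∈ H, N x = 0 → m x = 0 → x = 0) ∧ Obs (g * (1 + N)) (H ⊓ ker m)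

theorem Dat.wrap (h : Dat (D ⊓ ker ψ ⊓ ker (ψ ∘ₗ g)) g N m) (hg : Function.Injective g) (hv : v ∈ D ⊓ ker ψ)
    (v1 : ψ (g v) = 1) (g1 : ∀ x ∈ D ⊓ ker ψ ⊓ ker (ψ ∘ₗ g), g x ∈ D ⊓ ker ψ ⊓ ker (ψ ∘ₗ g))
    (n1 : ∀ x ∈ D ⊓ ker ψ, N' x = N (x - ψ (g x) • v) + m (x - ψ (g x) • v) • v) :
    Nil (D ⊓ ker ψ) N' ∧ (∀ x ∈ D ⊓ ker ψ, N' x = 0 → x = ψ (g x) • v) ∧ Obs (g * (1 + N')) (D ⊓ ker ψ) := by
  obtain ⟨hN, hm, ho⟩ := h
  have hs := fun x => sub_mem (ψ := ψ ∘ₗ g) (x := x) hv v1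
  have k : ∀ x ∈ D ⊓ ker ψ, ψ (g (N' x)) = m (x - ψ (g x) • v) := fun x hx => by
    rw [n1 x hx, map_add, map_add, show ψ (g (N (x - ψ (g x) • v))) = 0 from (hN.1 _ (hs x hx)).2]; simp [v1]
  refine ⟨hN.line (χ := ψ ∘ₗ g) hv v1 n1, fun x hx h0 => sub_eq_zero.1 ?_, fun W hW h => ?_⟩
  · have a := k x hx
    rw [h0, map_zero, map_zero] at a
    exact hm _ (hs x hx) (by simpa [-map_sub, n1 x hx, ← a] using h0) a.symm
  set H := D ⊓ ker ψ ⊓ ker (ψ ∘ₗ g)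
  have m1 : ∀ x ∈ H, (g * (1 + N)) x ∈ H := fun x hx => g1 _ (H.add_mem hx (hN.1 x hx))
  have a1 : ∀ x ∈ W, ψ (g x) + m (x - ψ (g x) • v) = 0 := fun x hx => by
    rw [← k x (hW hx)]; simpa using (hW (h x hx)).2
  have a2 : ∀ x ∈ W, (g * (1 + N')) x = (g * (1 + N)) (x - ψ (g x) • v) := fun x hx => by
    simp only [End.mul_apply, LinearMap.add_apply, End.one_apply, n1 x (hW hx)]
    rw [eq_neg_of_add_eq_zero_right (a1 x hx)]; congr 1; simp; abel
  have p2 : ∀ x ∈ H, x - ψ (g x) • v = x := fun x hx => by simp [show ψ (g x) = 0 from hx.2]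
  have a3 := ho (W ⊓ H) (fun x hx => ⟨hx.2, by
    simpa [show ψ (g x) = 0 from hx.2.2] using a1 x hx.1⟩) fun x hx =>
      ⟨by have := h x hx.1; rwa [a2 x hx.1, p2 x hx.2] at this, m1 x hx.2⟩
  refine (Submodule.eq_bot_iff _).2 fun x hx => ?_
  have a4 : x - ψ (g x) • v = 0 := hN.eq_zero (c := -1) (by simp) (hs x (hW hx)) (by
    simpa using eq_neg_of_add_eq_zero_right ((injective_iff_map_eq_zero g).1 hg _
      ((Submodule.eq_bot_iff _).1 a3 _ ⟨a2 x hx ▸ h x hx, m1 _ (hs x (hW hx))⟩)))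
  have a5 := a1 x hx
  rw [a4, map_zero, add_zero] at a5
  simpa [a5] using a4

variable [FiniteDimensional K V]

theorem exists_dat (hg : Function.Injective g) (g1 : ∀ x ∈ H, g x ∈ H) : ∃ N m, Dat H g N m := by
  obtain ⟨l, hl⟩ : ∃ l : Dual K V, H = ⊥ ∨ ∃ x ∈ H, l x ≠ 0 := by
    by_cases h : H = ⊥
    · exact ⟨0, .inl h⟩
    · obtain ⟨x, hx, h0⟩ := exists_mem_ne_zero_of_ne_bot h
      obtain ⟨l, hl⟩ := not_forall.1 ((forall_dual_apply_eq_zero_iff K x).not.2 h0)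
      exact ⟨l, .inr ⟨x, hx, hl⟩⟩
  have h2 := (injective_iff_map_eq_zero g).1 hg
  obtain ⟨N, ⟨hN, f, hf⟩, ho⟩ := rs_all H g l g1 (fun x _ => h2 x) hl
  have m1 : ∀ x ∈ H, (g * (1 + N)) x ∈ H := fun x hx => g1 _ (H.add_mem hx (hN.1 x hx))
  have m2 : ∀ x ∈ H, (g * (1 + N)) x = 0 → x = 0 := fun x hx h => hN.eq_zero (c := -1) (by simp) hx (by
    simpa using eq_neg_of_add_eq_zero_right (h2 _ h))
  have m3 : ∀ k : ℕ, ∀ x ∈ H, ((g * (1 + N)) ^ k) x = 0 → x = 0 := fun k => by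
    induction k with
    | zero => simp
    | succ k ih => exact fun x hx h => m2 x hx (ih _ (m1 x hx) (by rwa [pow_succ] at h))
  have key : ∀ k : ℕ, Obs (g * (1 + N)) (H ⊓ LinearMap.ker ((l ∘ₗ (1 + N)) ∘ₗ ((g * (1 + N)) ^ k))) :=
    fun k W hW h => by
      have := ho (W.map ((g * (1 + N)) ^ k)) (by
        rintro _ ⟨x, hx, rfl⟩
        exact ⟨End.pow_apply_mem_of_forall_mem _ m1 _ (hW hx).1, (hW hx).2⟩) (by
        rintro _ ⟨x, hx, rfl⟩
        exact ⟨_, h x hx, by rw [← End.mul_apply, ← pow_succ, pow_succ', End.mul_apply]⟩)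
      exact (Submodule.eq_bot_iff _).2 fun x hx => m3 k x (hW hx).1 ((Submodule.eq_bot_iff _).1 this _ ⟨x, hx, rfl⟩)
  by_contra hc
  have hc' := fun k : ℕ => not_and'.1 (not_and.1 (not_exists.1 (not_exists.1 hc N) _) hN) (key k)
  push Not at hc'
  obtain ⟨x, hx, a1, -, a2⟩ := hc' 0
  obtain ⟨c, hc''⟩ := hf x hx a1
  have := ho (span K (Set.range fun k : ℕ => ((g * (1 + N)) ^ k) x)) (span_le.2 ?_) fun y hy => ?_
  · exact a2 ((Submodule.eq_bot_iff _).1 this _ (subset_span ⟨0, rfl⟩))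
  · rintro _ ⟨k, rfl⟩
    refine ⟨End.pow_apply_mem_of_forall_mem _ m1 _ hx, ?_⟩
    obtain ⟨y, hy, b1, b2, b3⟩ := hc' k
    obtain ⟨d, rfl⟩ := hf y hy b1
    have : d ≠ 0 := by rintro rfl; simp at b3
    rw [map_smul, smul_eq_zero, or_iff_right this] at b2
    change ((l ∘ₗ (1 + N)) ∘ₗ ((g * (1 + N)) ^ k)) x = 0
    rw [hc'', map_smul, b2, smul_zero]
  · refine (show span K _ ≤ (span K _).comap (g * (1 + N)) from span_le.2 ?_) hy
    rintro _ ⟨k, rfl⟩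
    exact subset_span ⟨k + 1, by beta_reduce; rw [pow_succ']; rfl⟩

/-- The last step in the quadratic case. -/
theorem Dat.top (h : Dat (ker ψ ⊓ ker (ψ ∘ₗ g)) g N m) (hd : LinearMap.det g = 1) (hv : ψ v = 0) (v1 : ψ (g v) = 1)
    (g1 : ∀ x, ψ x = 0 → ψ (g x) = 0 → ψ (g (g x)) = 0)
    (n1 : ∀ x ∈ ker ψ, N' x = N (x - ψ (g x) • v) + m (x - ψ (g x) • v) • v)
    (bad : ∀ (j : End K V) (x : V), (∀ y ∈ ker ψ, j y = y + N' y) → ψ x = 1 → j x = x → Nil ⊤ (g * j - 1) →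
      Obs (g * (1 + N')) (ker ψ) → False) : ∃ j : End K V, RU j ∧ RU (g * j) := by
  have hg : Function.Injective g := ker_eq_bot.1 ((isUnit_iff_ker_eq_bot g).1 ((isUnit_iff_isUnit_det g).2 (by simp [hd])))
  have ψ0 : ψ ≠ 0 := by rintro rfl; simp at v1
  have := Dat.wrap (D := ⊤) (N' := N') (by rwa [top_inf_eq]) hg ⟨trivial, hv⟩ v1
    (fun x hx => ⟨⟨trivial, hx.2⟩, g1 x hx.1.2 hx.2⟩) fun x hx => n1 x hx.2
  rw [top_inf_eq] at this
  obtain ⟨hN, hf, ho⟩ := this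
  obtain ⟨j, j1, j2, j3⟩ := place (g := g) (s := 1) ψ0 (by simp [hd]) hN ho
  have k : ∀ x ∈ ker ψ, (j - 1) x = N' x := fun x hx => by simp [j1 x hx]
  exact ⟨j, .ext (by simpa using j2) ⟨hN.ext le_rfl k fun x hx => k x hx ▸ hN.1 x hx, v,
    fun x hx h => ⟨_, hf x hx (k x hx ▸ h)⟩⟩ fun x hx h => bad j x j1 hx h j3.1 ho, j3⟩

/-- The case of a minimal polynomial of degree two. -/
theorem step_quad (hK : Big K) (hd : LinearMap.det g = 1) (hv : ψ v = 0) (v1 : ψ (g v) = 1)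
    (hq : ∀ (χ : Dual K V) (u : V), χ u = 0 → χ (g u) = 0 → χ (g (g u)) = 0)
    (hA : ∀ χ : Dual K V, χ ≠ 0 → (∀ x, χ (g x) = χ x) → ∃ c : K, (∀ x ∈ ker χ, g x = c • x) ∧ ∃ x ∈ ker χ, g x ≠ x) :
    ∃ j : End K V, RU j ∧ RU (g * j) := by
  have hu := (isUnit_iff_isUnit_det g).2 (by simp [hd])
  have hg : Function.Injective g := ker_eq_bot.1 ((isUnit_iff_ker_eq_bot g).1 hu)
  have v0 : (⊤ : Submodule K V) ≠ ⊥ := fun h => by simp [(Submodule.eq_bot_iff _).1 h v trivial] at v1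
  set H := ker ψ ⊓ ker (ψ ∘ₗ g)
  have g1 : ∀ x ∈ H, g x ∈ H := fun x hx => ⟨hx.2, hq ψ x hx.1 hx.2⟩
  let π : End K V := 1 - ψ.smulRight (g v - ψ (g (g v)) • v) - (ψ ∘ₗ g).smulRight v
  have p0 : ∀ x, π x = x - ψ x • (g v - ψ (g (g v)) • v) - ψ (g x) • v := fun x => rfl
  have p1 : ∀ x, π x ∈ H := fun x => ⟨by simp [p0, hv, v1], by simp [p0, v1]⟩
  have p2 : ∀ x ∈ ker ψ, π x = x - ψ (g x) • v := fun x hx => by simp [p0, mem_ker.1 hx]
  have p3 : ∀ x ∈ H, π x = x := fun x hx => by simp [p2 x hx.1, show ψ (g x) = 0 from hx.2]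
  have p4 : π v = 0 := by simp [p0, hv, v1]
  have p5 : π (g v) = 0 := by simp [p0, v1]
  have fx : ∀ {j N' : End K V} {x : V} {l : Dual K V}, (∀ y ∈ ker ψ, j y = y + N' y) → ψ x = 1 → j x = x →
      (∀ y, l (N' y) = 0) → ∀ y, l (j y) = l y := fun {j N' x l} j1 hx h hl y => by
    simpa [h, hl] using congrArg l (j1 (y - ψ y • x) (by simp [hx]))
  by_cases hs : ∃ a : K, ∀ x ∈ H, g x = a • x
  · obtain ⟨a, ha⟩ := hs
    obtain ⟨N, m, h⟩ := exists_dat hg g1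
    refine h.top (N' := N * π + (m ∘ₗ π).smulRight v) hd hv v1 (hq ψ) (fun x hx => by rw [← p2 x hx]; rfl)
      fun j x j1 hx e hn ho => ?_
    by_cases h0 : H = ⊥
    · have e1 : j = 1 := LinearMap.ext fun y => by
        simpa [e, (Submodule.eq_bot_iff _).1 h0 _ (p1 _), -map_sub, map_sub j] using j1 (y - ψ y • x) (by simp [hx])
      rw [e1, mul_one] at hn
      obtain ⟨l, ⟨y, -, l1⟩, l2⟩ := hn.exists_dual v0
      obtain ⟨c, c1, z, hz, c2⟩ := hA l (by rintro rfl; exact l1 rfl) fun x => by simpa [sub_eq_zero] using l2 x trivial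
      exact c2 (by simp [hn.eq_zero (c := c - 1) (x := z) (fun h => c2 (by simp [c1 z hz, sub_eq_zero.1 h])) trivial
        (by simp [c1 z hz, sub_smul])])
    obtain ⟨l, ⟨y, hy, l1⟩, l2⟩ := h.1.exists_dual h0
    have a1 : ∀ x, (l ∘ₗ π) (g x) = a * (l ∘ₗ π) x := fun x => by
      have := congrArg (l ∘ₗ π) ((congrArg g (p0 x)).symm.trans (ha _ (p1 x)))
      have e := hq (l ∘ₗ π) v (by simp [p4]) (by simp [p5])
      simp only [comp_apply] at e
      simpa [p5, p3 _ (p1 x), e] using this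
    have a2 := fx (l := l ∘ₗ π) j1 hx e fun y => by simp [p4, p3 _ (h.1.1 _ (p1 y)), l2 _ (p1 y)]
    by_cases a0 : a = 1
    · obtain ⟨c, c1, -⟩ := hA (l ∘ₗ π) (fun h => l1 (by simpa [p3 y hy] using congr($h y))) (by simpa [a0] using a1)
      simp [c1 v (by simp [p4]), hv] at v1
    obtain ⟨-, k, hk⟩ := hn
    have : ∀ k : ℕ, (l ∘ₗ π) (((g * j - 1) ^ k) y) = (a - 1) ^ k * l y := fun k => by
      induction k with
      | zero => simp [p3 y hy]
      | succ k ih => rw [pow_succ', End.mul_apply, LinearMap.sub_apply, map_sub, End.mul_apply, a1, a2, End.one_apply, ih]; ring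
    simpa [hk y trivial, l1, sub_eq_zero, a0] using this k
  obtain ⟨l₀, f, l1, l2⟩ := exists_ns (g := g.restrict g1) fun c hc => hs ⟨c, fun x hx => congr(($hc ⟨x, hx⟩).1)⟩
  obtain ⟨l, l3, l4, l5⟩ : ∃ l : Dual K V, l f = 0 ∧ l (g f) = 1 ∧ ∀ x, l (π x) = l x := by
    refine ⟨(l₀ (g.restrict g1 f))⁻¹ • l₀ ∘ₗ π.codRestrict H p1, ?_, ?_, fun x => ?_⟩
    · simp [show π.codRestrict H p1 f = f from Subtype.ext (p3 _ f.2), l1]
    · simp [show π.codRestrict H p1 (g f) = g.restrict g1 f from Subtype.ext (p3 _ (g1 _ f.2)), l2]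
    · simp [show π.codRestrict H p1 (π x) = π.codRestrict H p1 x from Subtype.ext (p3 _ (p1 x))]
  obtain ⟨f, hf⟩ := f
  clear l1 l2 l₀
  have l6 : l v = 0 := by rw [← l5, p4, map_zero]
  have l7 : l (g v) = 0 := by rw [← l5, p5, map_zero]
  obtain ⟨g', hg'⟩ := hu.exists_left_inv
  have i1 : ∀ x, (l ∘ₗ g') (g x) = l x := fun x => congr(l ($hg' x))
  set r := l ∘ₗ g'
  have i2 : r v = 0 := by
    obtain ⟨w, hw, e⟩ := (eq_of_le_of_finrank_eq (S₁ := (ker r ⊓ ker (r ∘ₗ g)).map g) (S₂ := ker r ⊓ ker (r ∘ₗ g))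
      (by rintro _ ⟨x, hx, rfl⟩; exact ⟨hx.2, hq r x hx.1 hx.2⟩)
      (equivMapOfInjective g hg _).finrank_eq.symm).ge (x := g v) ⟨by simp [i1, l6], by simp [i1, l7]⟩
    exact hg e ▸ hw.1
  have i3 : r f ≠ 0 := fun h => by simpa [i1, l4] using hq r f h (by simp [i1, l3])
  have i4 : ∀ x, (r - l) (π x) = (r - l) x := fun x => by
    rw [LinearMap.sub_apply, l5]; simp [p0, i1, i2, l6]
  set D := H ⊓ ker l
  have g2 : ∀ x ∈ D ⊓ ker (l ∘ₗ g), g x ∈ D ⊓ ker (l ∘ₗ g) := fun x hx => ⟨⟨g1 x hx.1.1, hx.2⟩, hq l x hx.1.2 hx.2⟩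
  obtain ⟨N₂, m₂, h₂⟩ := exists_dat hg g2
  obtain ⟨N, hN, hk, ho⟩ : ∃ N, Nil D N ∧ (∀ x ∈ D, N x = 0 → x = l (g x) • f) ∧ Obs (g * (1 + N)) D := ⟨_, h₂.wrap (N' := N₂ * (1 - (l ∘ₗ g).smulRight f) +
    (m₂ ∘ₗ (1 - (l ∘ₗ g).smulRight f)).smulRight f) hg ⟨hf, l3⟩ l4 g2 fun _ _ => rfl⟩
  clear h₂ g2
  obtain ⟨l₁, b1, b2⟩ := hN.exists_dual fun h => i3 (by simp [(Submodule.eq_bot_iff _).1 h f ⟨hf, l3⟩])
  obtain ⟨w, hw, hw'⟩ : ∃ w ∈ H, w ∉ D.map (1 - g * (1 + N)) := by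
    by_contra! hc
    exact absurd ((finrank_mono hc).trans (finrank_map_le _ _)) (finrank_lt' ⟨g f, g1 f hf, by simp [l4]⟩).not_ge
  obtain ⟨χ, c1, c2⟩ := exists_dual_map_eq_bot_of_notMem hw' inferInstance
  have c3 : ∀ x ∈ D, χ (g (x + N x)) = χ x := fun x hx => by
    have := (Submodule.eq_bot_iff _).1 c2 _ (mem_map_of_mem (mem_map_of_mem hx))
    rw [LinearMap.sub_apply, map_sub, sub_eq_zero] at this
    exact this.symm
  have hs := fun x => sub_mem (ψ := l) (x := x) (g1 f hf) l4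
  obtain ⟨b, hb, b3, b4, b5⟩ := hK.avoid3 b1 (χ := χ ∘ₗ g) (m := l ∘ₗ g) (by
      by_contra! hc
      have := c3 _ (hs w hw)
      rw [show χ (g _) = 0 from hc _ (D.add_mem (hs w hw) (hN.1 _ (hs w hw)))] at this
      exact c1 (by simpa [show χ (g f) = 0 from hc f ⟨hf, l3⟩] using this.symm))
    ⟨f, ⟨hf, l3⟩, by simp [l4]⟩ 0 (χ (g f - g (g f)))
    (trace K V (1 - g - g * N * (1 - l.smulRight (g f)) * π) + ψ (g (g v)) - ψ (g (g v)) ^ 2 + ψ (g (g (g v))) - 1)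
  let N₀ : End K V := N * (1 - l.smulRight (g f)) + l.smulRight b
  have n1 : ∀ x, N₀ x = N (x - l x • g f) + l x • b := fun x => rfl
  have n2 : ∀ x ∈ D, N₀ x = N x := fun x hx => by simp [n1, show l x = 0 from hx.2]
  have n3 : ∀ x ∈ H, N₀ x ∈ D := fun x hx => D.add_mem (hN.1 _ (hs x hx)) (D.smul_mem _ hb)
  have n4 : ∀ x ∈ H, g (x + N₀ x) = x → x = 0 := fun x hx e => by
    have a1 := c3 _ (hs x hx)
    have a2 := congrArg χ e
    have a3 : l x = 0 := by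
      rw [n1] at a2
      simp only [map_add, map_sub, map_smul, smul_eq_mul, comp_apply] at a1 a2 b4
      exact (mul_eq_zero.1 (show l x * (χ (g b) - (χ (g f) - χ (g (g f)))) = 0 by linear_combination a2 - a1)).resolve_right
        (sub_ne_zero.2 b4)
    exact ho.fix ⟨hx, a3⟩ (by rwa [n2 x ⟨hx, a3⟩] at e)
  have h : Dat H g N₀ (r - l) := by
    refine ⟨hN.ext inf_le_left n2 n3, fun x hx e1 e2 => ?_, fun W hW h => ?_⟩
    · have a1 := congrArg l₁ e1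
      rw [n1, map_add, b2 _ (hs x hx)] at a1
      have a2 : x ∈ D := ⟨hx, by simpa [b3] using a1⟩
      have a3 := hk x a2 (n2 x a2 ▸ e1)
      rw [a3] at e2 ⊢
      simp [show l (g x) = 0 by simpa [l3, i3] using e2]
    · have a1 : ∀ x ∈ W, l ((g * (1 + N₀)) x) = l x := fun x hx => by
        have : (r - l) (g (x + N₀ x)) = 0 := (hW (h x hx)).2
        rw [LinearMap.sub_apply, i1, map_add, show l (N₀ x) = 0 from (n3 x (hW hx).1).2, add_zero, sub_eq_zero] at this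
        exact this.symm
      have a2 := ho (W ⊓ ker l) (fun x hx => ⟨(hW hx.1).1, hx.2⟩) fun x hx => by
        have : (g * (1 + N)) x = (g * (1 + N₀)) x := by simp [n2 x ⟨(hW hx.1).1, hx.2⟩]
        exact this ▸ ⟨h x hx.1, (a1 x hx.1).trans hx.2⟩
      exact (Submodule.eq_bot_iff _).2 fun x hx => n4 x (hW hx).1 (sub_eq_zero.1
        ((Submodule.eq_bot_iff _).1 a2 _ ⟨W.sub_mem (h x hx) hx, (map_sub l _ _).trans (sub_eq_zero.2 (a1 x hx))⟩))
  refine h.top (N' := N₀ * π + (r - l).smulRight v) hd hv v1 (hq ψ) (fun x hx => by rw [← p2 x hx, i4]; rfl)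
    fun j x j1 hx e hn ho' => b5 ?_
  set N' := N₀ * π + (r - l).smulRight v
  have n5 : ∀ y, N' y = N₀ (π y) + (r - l) y • v := fun y => rfl
  have n6 : ∀ y, ψ (g (N' y)) = (r - l) y := fun y => by
    rw [n5, map_add, map_add, show ψ (g (N₀ (π y))) = 0 from (n3 _ (p1 y)).1.2]; simp [v1]
  have a2 := fx (l := l) j1 hx e fun y => by simp [n5, l6, show l (N₀ (π y)) = 0 from (n3 _ (p1 y)).2]
  obtain ⟨z, -, z0, hz⟩ := hn.exists_ker v0
  replace hz : g (j z) = z := sub_eq_zero.1 hz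
  have z1 : ψ z ≠ 0 := fun h => z0 (ho'.fix h (by rwa [j1 z h] at hz))
  have z2 : (r - l) z = 0 := by rw [LinearMap.sub_apply, ← a2, ← i1, hz, sub_self]
  have e1 : j = 1 + N' - ψ.smulRight (N' x) := LinearMap.ext fun y => by
    have := j1 (y - ψ y • x) (by simp [hx])
    rw [map_sub, map_smul, e] at this
    simp [sub_eq_iff_eq_add.1 this]; abel
  have z3 : j z = z + N₀ (π (z - ψ z • x)) - (ψ z * (r - l) x) • v := by
    rw [e1]; simp [-LinearMap.sub_apply, LinearMap.sub_apply (1 + N'), n5, z2, smul_smul]; abel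
  have z4 := congrArg ψ hz
  have z5 := congrArg (fun y => ψ (g y)) hz
  have z6 := hq ψ _ (p1 z).1 (p1 z).2
  have z7 : ∀ y, ψ (g (N₀ (π y))) = 0 := fun y => (n3 _ (p1 y)).1.2
  have z9 := fun y => hq ψ _ (n3 _ (p1 y)).1.1 (z7 y)
  rw [p0] at z6
  simp only [z3, map_add, map_sub, map_smul, smul_eq_mul, v1, z7, z9] at z4 z5 z6
  have z8 : (r - l) x = ψ (g (g v)) - ψ (g (g v)) ^ 2 + ψ (g (g (g v))) - 1 :=
    mul_left_cancel₀ z1 (by linear_combination -z4 - z5 + z6 + ψ (g (g v)) * z4)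
  obtain ⟨-, k, hk⟩ := hn
  have := (isNilpotent_trace_of_isNilpotent ⟨k, LinearMap.ext fun x => hk x trivial⟩).eq_zero
  rw [show g * j - 1 = (l.smulRight (g b) + (r - l).smulRight (g v) - ψ.smulRight (g (N' x))) -
      (1 - g - g * N * (1 - l.smulRight (g f)) * π) from
    LinearMap.ext fun y => by rw [e1]; simp [n5, n1, l5]; abel, map_sub, map_sub, map_add, trace_smulRight,
    trace_smulRight, trace_smulRight, n6, z8, LinearMap.sub_apply, i1, l6, l7] at this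
  rw [comp_apply]
  linear_combination this

theorem lev.{u} (hK : Big K) (n : ℕ) : ∀ (V : Type u) [AddCommGroup V] [Module K V] [FiniteDimensional K V],
    finrank K V = n → ∀ g : End K V, LinearMap.det g = 1 → ((∀ c : K, g ≠ c • 1) ∨ g = 1) →
      ∃ j : End K V, RU j ∧ RU (g * j) := by
  induction n using Nat.strong_induction_on with | _ n ih => ?_
  intro V _ _ _ hn g hd hg
  by_cases hA : ∀ χ : Dual K V, χ ≠ 0 → (∀ x, χ (g x) = χ x) →
      ∃ c : K, (∀ x ∈ ker χ, g x = c • x) ∧ ∃ x ∈ ker χ, g x ≠ x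
  · rcases hg with hg | rfl
    · obtain ⟨ψ, v, h1, h2⟩ := exists_ns hg
      replace h1 : ψ ((ψ (g v))⁻¹ • v) = 0 := by simp [h1]
      replace h2 : ψ (g ((ψ (g v))⁻¹ • v)) = 1 := by simp [h2]
      by_cases hq : ∀ (χ : Dual K V) (u : V), χ u = 0 → χ (g u) = 0 → χ (g (g u)) = 0
      · exact step_quad hK hd h1 h2 hq hA
      push Not at hq
      obtain ⟨χ, u, u0, u1, u2⟩ := hq
      exact step_cubic hK hd (ψ := χ) (v := (χ (g (g u)))⁻¹ • g u) (by simp [u1]) (by simp [u2]) u0 u1 u2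
    · have : ∀ x : V, x = 0 := fun x => (forall_dual_apply_eq_zero_iff K x).1 fun χ => by
        by_contra h
        simpa using hA χ (by rintro rfl; exact h rfl) fun _ => rfl
      have : RU (1 : End K V) := ⟨⟨by simp, 1, by simp⟩, 0, fun x _ _ => ⟨0, by simpa using this x⟩⟩
      exact ⟨1, this, by simpa using this⟩
  push Not at hA
  obtain ⟨ψ, h0, e, hA⟩ := hA
  obtain ⟨v, hv⟩ := exists_one' h0
  by_cases hD : ker ψ = ⊥
  · have : RU (1 : End K V) := ⟨⟨by simp, 1, by simp⟩, v, fun x _ _ => ⟨ψ x, sub_eq_zero.1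
      ((Submodule.eq_bot_iff _).1 hD _ (by simp [hv]))⟩⟩
    exact ⟨1, this, by
      rwa [show g = 1 from LinearMap.ext fun x => sub_eq_zero.1 ((Submodule.eq_bot_iff _).1 hD _ (by simp [e])), mul_one]⟩
  have g1 : ∀ x ∈ ker ψ, g x ∈ ker ψ := fun x hx => (e x).trans hx
  have d := det_eq_det_mul_det (ker ψ) g g1
  rw [show (ker ψ).mapQ (ker ψ) g g1 = 1 from (ker ψ).linearMap_qext (LinearMap.ext fun x =>
    (Submodule.Quotient.eq _).2 (by simp [e])), map_one, mul_one, hd] at d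
  obtain ⟨j, j1, j2⟩ := ih _ (hn ▸ finrank_lt (fun h => h0 (ker_eq_top.1 h))) (ker ψ) rfl (g.restrict g1) d.symm (by
    refine or_iff_not_imp_left.2 fun h => ?_
    push Not at h
    obtain ⟨c, hc⟩ := h
    exact LinearMap.ext fun x => Subtype.ext (hA c (fun x hx => congr(($hc ⟨x, hx⟩).1)) x x.2))
  obtain ⟨N, hN⟩ := exists_extend ((ker ψ).subtype ∘ₗ (j - 1))
  have k : ∀ x : ker ψ, N x = (j - 1) x := fun x => congr($hN x)
  exact step_fix hK h0 hD (ker_eq_bot.1 ((isUnit_iff_ker_eq_bot g).1 ((isUnit_iff_isUnit_det g).2 (by simp [hd])))) e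
    (RegN.of_sub j1 k) (RegN.of_sub j2 fun x => by simp [k])

theorem RU.inv (h : RU A) (h1 : B * A = 1) (h2 : A * B = 1) : RU B := by
  have := (RegN.inv (ψ := 0) (s := 1) (by rwa [ker_zero]) (by simp) one_ne_zero h1 h2).2
  rwa [ker_zero] at this

theorem RU.exists_basis (h : RU A) {k : ℕ} (hk : finrank K V = k + 1) :
    ∃ b : Basis (Fin (k + 1)) K V, A (b (Fin.last k)) = b (Fin.last k) ∧
      ∀ i : Fin k, A (b i.castSucc) = b i.castSucc + b i.succ := by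
  obtain ⟨x, -, h1, h2⟩ := RegN.exists_pow h (k := k) (by rwa [finrank_top])
  refine ⟨basisOfLinearIndependentOfCardEqFinrank (li_pow _ k x h1 h2) (by simp [hk]), ?_, fun i => ?_⟩ <;>
    simp only [coe_basisOfLinearIndependentOfCardEqFinrank, Fin.val_last, Fin.val_succ, Fin.val_castSucc]
  · rw [pow_succ'] at h1; exact sub_eq_zero.1 h1
  · rw [pow_succ']; simp

theorem RU.exists_conj (h : RU A) (h' : RU B) {k : ℕ} (hk : finrank K V = k + 1) :
    ∃ y : (End K V)ˣ, y.1 * A = B * y.1 := by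
  obtain ⟨b, b1, b2⟩ := h.exists_basis hk
  obtain ⟨c, c1, c2⟩ := h'.exists_basis hk
  refine ⟨GeneralLinearGroup.ofLinearEquiv (b.equiv c (Equiv.refl _)), b.ext fun i => ?_⟩
  refine i.lastCases ?_ fun i => ?_ <;> simp [b1, b2, c1, c2]

end Cfsg.Agent.H3.Lev
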