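/-
Groups with a partition, II: the Fitting subgroup is a component.
-/
import Cfsg.Agent.H3.Part1
import Cfsg.Agent.H54.FT

set_option autoImplicit false

open Cfsg Cfsg.Agent.H49 Subgroup

namespace Cfsg.Agent.H3

variable {G : Type*} [Group G]

theorem hughes_ne_top {H : Subgroup G} {p : ℕ} (hH : H ≠ ⊤) (h : ∀ g, g ∉ H → g ^ p = 1) :
    closure {g : G | g ^ p ≠ 1} ≠ ⊤ :=
  ne_top_anti ((closure_le H).2 fun g hg => by_contra fun hg' => hg (h g hg')) hH

theorem mem_of_pow_mem_of_coprime {H : Subgroup G} {g : G} {m n : ℕ} (hm : g ^ m ∈ H)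
    (hn : g ^ n ∈ H) (hc : m.Coprime n) : g ∈ H := by
  have h := Int.gcd_eq_gcd_ab m n
  rw [Int.gcd_natCast_natCast, hc] at h
  have : g = (g ^ m) ^ Int.gcdA m n * (g ^ n) ^ Int.gcdB m n := by
    rw [← zpow_natCast, ← zpow_natCast, ← zpow_mul, ← zpow_mul, ← zpow_add, ← h]
    simp
  exact this ▸ mul_mem (zpow_mem hm _) (zpow_mem hn _)

theorem exists_pow_prime_mem_of_dvd_index [Finite G] {N : Subgroup G} [N.Normal] {p : ℕ}
    (hp : p.Prime) (hd : p ∣ N.index) : ∃ a : G, a ∉ N ∧ a ^ p ∈ N := by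
  have := Fact.mk hp
  obtain ⟨a, ha⟩ := exists_prime_orderOf_dvd_card' (G := G ⧸ N) p hd
  obtain ⟨a, rfl⟩ := QuotientGroup.mk_surjective a
  refine ⟨a, fun e => ?_, ?_⟩
  · rw [(QuotientGroup.eq_one_iff a).2 e, orderOf_one] at ha
    exact hp.one_lt.ne ha
  · rw [← QuotientGroup.eq_one_iff, QuotientGroup.mk_pow, ← ha, pow_orderOf_eq_one]

namespace NP

variable {c : G → Subgroup G} (h : NP c) [Finite G] {x : G}
include h

theorem orderOf_eq_of_normal (hn : (c x).Normal) {g : G} (hg : g ∉ c x) {p : ℕ} (hp : p.Prime)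
    (hd : p ∣ Nat.card (c x)) (hd' : p ∣ orderOf g) : orderOf g = p := by
  have hN := normal_iff_top_le_norm.1 hn
  have hu : orderOf (g ^ (orderOf g / p)) = p := orderOf_pow_orderOf_div (orderOf_pos g).ne' hd'
  have hu1 : g ^ (orderOf g / p) ≠ 1 := fun e => hp.one_lt.ne (by rw [← hu, e, orderOf_one])
  obtain ⟨y, hy, hy1, hc⟩ := exists_fixed hp hu (hN trivial) hd
  have h1 := h.norm_of_comm hc
  rw [h.eq (pow_mem (h.mem g) _) hu1] at h1
  have h2 := h.comm_of_norm hg hy (h.mem g) h1 (hN trivial)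
  have h3 := h.order_prime (x := g) (fun e => hg (e ▸ one_mem _))
    (fun e => hy1 (h.eq_one hg hy e)) h2
  exact ((Nat.prime_dvd_prime_iff_eq hp h3).1 hd').symm

theorem not_normalized (hn : (c x).Normal) {p : ℕ} (hp : p.Prime) (hd : p ∣ Nat.card (c x))
    {K : Subgroup G} {a : G} (hK : c x < K) (hi : ¬ p ∣ (c x).relIndex K) (ha : a ∉ c x)
    (hap : a ^ p ∈ c x) (haK : a ∈ 𝒩(K)) : False := by
  have ha' : a ∉ K := fun e => ha (mem_of_pow_mem_of_coprime hap (pow_relIndex_mem _ e)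
    ((Nat.Prime.coprime_iff_not_dvd hp).2 hi))
  have hnil : Group.IsNilpotent K := kegel_amb hp (M := K ⊔ zpowers a) le_sup_left
    (sup_le le_normalizer (zpowers_le.2 haK)) (fun e => ha' (e (mem_sup_right (mem_zpowers a))))
    (fun g hg hg' => by
      rw [← h.orderOf_eq_of_normal hn (fun e => hg' (hK.le e)) hp hd (dvd_orderOf_of_pow_mem hp hg'
        (pow_mem_of_mem_sup haK (hK.le hap) hg)), pow_orderOf_eq_one])
  obtain ⟨b, hb, hb'⟩ := SetLike.exists_of_lt hK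
  obtain ⟨y, hy, hyp⟩ := exists_orderOf_eq_of_dvd_card hp hd
  have hy1 : y ≠ 1 := fun e => hp.one_lt.ne (by rw [← hyp, e, orderOf_one])
  have h1 : ¬ p ∣ orderOf b := fun e => hi (e.trans (orderOf_dvd_of_pow_eq_one
    (h.pow_eq_one hb' (pow_relIndex_mem _ hb))))
  have h2 := comm_of_nilpotent hnil hb (hK.le hy)
    (hyp ▸ ((Nat.Prime.coprime_iff_not_dvd hp).2 h1).symm)
  exact h1 ((h.order_eq hy1 (by rwa [h.eq hy hy1]) h2).trans hyp).symm.dvd

theorem pow_eq_one_of_normal (hn : (c x).Normal) {p : ℕ} (hp : p.Prime) (hd : p ∣ Nat.card (c x))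
    {K : Subgroup G} (hKn : K.Normal) (hK : c x ≤ K) (hnil : ¬ Group.IsNilpotent K)
    (hi : ∀ g ∈ K, ∃ k, g ^ p ^ k ∈ c x) {g : G} (hg : g ∉ c x) : g ^ p = 1 := by
  by_contra hgp
  have h1 : ¬ p ∣ orderOf g := fun e =>
    hgp (by rw [← h.orderOf_eq_of_normal hn hg hp hd e, pow_orderOf_eq_one])
  have h2 : g ∉ K := fun e => by
    obtain ⟨k, hk⟩ := hi g e
    exact hg (mem_of_pow_mem_of_coprime hk (by rw [pow_orderOf_eq_one]; exact one_mem _)
      (((Nat.Prime.coprime_iff_not_dvd hp).2 h1).pow_left k))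
  obtain ⟨r, b, hr, hb, hb1, hb2⟩ := exists_pow_prime_mem h2
  have hrp : r ≠ p := fun e => h1 (e ▸ (dvd_orderOf_of_pow_mem hr hb1 hb2).trans
    (orderOf_dvd_of_mem_zpowers hb))
  have hbn : b ∈ 𝒩(K) := normal_iff_top_le_norm.1 hKn trivial
  refine hnil (kegel_amb hr (M := K ⊔ zpowers b) le_sup_left
    (sup_le le_normalizer (zpowers_le.2 hbn)) (fun e => hb1 (e (mem_sup_right (mem_zpowers b))))
    fun w hw hw' => ?_)
  have h3 := pow_mem_of_mem_sup hbn hb2 hw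
  by_contra h4
  have h5 : w ∉ c x := fun e => hw' (hK e)
  obtain ⟨k, hk⟩ := hi _ h3
  have h6 := orderOf_dvd_of_pow_eq_one (h.pow_eq_one (fun e => h4 (h.pow_eq_one h5 e)) hk)
  have h7 : p ∣ orderOf (w ^ r) := by
    obtain ⟨j, -, hj⟩ := (Nat.dvd_prime_pow hp).1 h6
    rcases j with _ | j
    · exact absurd (orderOf_eq_one_iff.1 hj) h4
    · exact hj ▸ dvd_pow_self p j.succ_ne_zero
  have h8 := h.orderOf_eq_of_normal hn h5 hp hd (h7.trans (orderOf_pow_dvd r))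
  exact hrp ((Nat.prime_dvd_prime_iff_eq hr hp).1 (h8 ▸ dvd_orderOf_of_pow_mem hr hw' h3))

theorem cent_le (hx : x ≠ 1) (hn : (c x).Normal)
    (hmax : ∀ K : Subgroup G, K.Normal → Group.IsNilpotent K → K ≤ c x) : 𝒞(c x) ≤ c x := by
  by_contra hcon
  obtain ⟨a, ha, ha'⟩ := SetLike.not_le_iff_exists.1 hcon
  have hc : ∀ {w y : G}, w ∈ 𝒞(c x) → y ∈ c x → w * y = y * w := fun hw hy =>
    (mem_centralizer_iff.1 hw _ hy).symm
  have hp := h.order_prime hx ha' (hc ha (h.mem x))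
  refine hcon (hmax _ (normal_iff_top_le_norm.2 (norm_cent (normal_iff_top_le_norm.1 hn)))
    (isPi_of_isPGroup hp (H2.isPGroup_of_forall_pow_eq_one fun w hw => ?_)).nilpotent)
  by_cases hw' : w ∈ c x
  · by_cases h1 : w = 1
    · simp [h1]
    · rw [← h.order_eq hx ha' (hc ha (h.mem x)), h.order_eq h1 (by rwa [h.eq hw' h1]) (hc ha hw'),
        pow_orderOf_eq_one]
  · rw [← h.order_eq hx hw' (hc hw (h.mem x)), pow_orderOf_eq_one]

theorem case_normal (hx : x ≠ 1) (hn : (c x).Normal)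
    (hmax : ∀ K : Subgroup G, K.Normal → Group.IsNilpotent K → K ≤ c x) :
    (∃ p : ℕ, p.Prime ∧ closure {g : G | g ^ p ≠ 1} ≠ ⊤) ∨
      ∃ H : Subgroup G, IsFrobeniusComplement H := by
  by_cases hc : (Nat.card (c x)).Coprime (c x).index
  · refine Or.inr (frob_of_fpf hn (ne_bot_iff_exists.2 ⟨x, h.mem x, hx⟩) (h.ne_top x hx) hc
      fun a ha hac y hy hya => ?_)
    by_contra hy1
    have h1 : a ∉ c x := fun e =>
      ha (orderOf_eq_one_iff.1 (hac.eq_one_of_dvd (Subgroup.orderOf_dvd_natCard _ e)))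
    have h2 := h.order_eq hy1 (by rwa [h.eq hy hy1]) hya.symm
    exact ha (orderOf_eq_one_iff.1 (hac.eq_one_of_dvd (h2 ▸ Subgroup.orderOf_dvd_natCard _ hy)))
  have key : ∃ p : ℕ, p.Prime ∧ p ∣ Nat.card (c x) ∧ p ∣ (c x).index ∧
      (p = 2 ∨ Group.IsSolvable (G ⧸ c x) ∨
        ∃ t : G, t ∉ c x ∧ t * t = 1 ∧ ∀ g, g * t * g⁻¹ * t⁻¹ ∈ c x) := by
    obtain ⟨p, hp, h1, h2⟩ := Nat.Prime.not_coprime_iff_dvd.1 hc
    rcases Nat.even_or_odd (c x).index with hi | hi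
    · by_cases h3 : 2 ∣ Nat.card (c x)
      · exact ⟨2, Nat.prime_two, h3, hi.two_dvd, Or.inl rfl⟩
      · obtain ⟨t, ht, ht2⟩ := exists_pow_prime_mem_of_dvd_index Nat.prime_two hi.two_dvd
        have htt : t * t = 1 := by rw [← pow_two]; exact h.pow_eq_one ht ht2
        have hN := normal_iff_top_le_norm.1 hn
        refine ⟨p, hp, h1, h2, Or.inr (Or.inr ⟨t, ht, htt, fun g => h.cent_le hx hn hmax ?_⟩)⟩
        refine mem_centralizer_iff.2 fun y hy => ?_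
        have e1 := h.inverts htt (hN trivial) ht (inv_mem hy)
        have e2 := h.inverts (s := g * t * g⁻¹) (by rw [conj_mul, htt]; simp) (hN trivial)
          (fun e => ht (by simpa [mul_assoc] using hn.conj_mem _ e g⁻¹)) (inv_mem hy)
        rw [inv_inv] at e1 e2
        calc y * (g * t * g⁻¹ * t⁻¹) = (g * t * g⁻¹ * y⁻¹ * (g * t * g⁻¹)⁻¹) * (g * t * g⁻¹ * t⁻¹) := by
              rw [e2]
          _ = g * t * g⁻¹ * t⁻¹ * (t * y⁻¹ * t⁻¹) := by group
          _ = _ := by rw [e1]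
    · exact ⟨p, hp, h1, h2, Or.inr (Or.inl (H54.odd_order_solvable hi))⟩
  obtain ⟨p, hp, h1, h2, h3⟩ := key
  rcases normal_or_normalized' hp h2 h3 with ⟨K, hK, hlt, hi⟩ | ⟨K, a, hlt, hi, ha, hap, haK⟩
  · exact Or.inl ⟨p, hp, hughes_ne_top (h.ne_top x hx) fun g hg => h.pow_eq_one_of_normal hn hp h1
      hK hlt.le (fun e => hlt.not_ge (hmax K hK e)) hi hg⟩
  · exact (h.not_normalized hn hp h1 hlt hi ha hap haK).elim

end NP

end Cfsg.Agent.H3
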