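/-
Groups with a partition, III: the Fitting subgroup is nontrivial and lies in no component.
-/
import Cfsg.Agent.H3.Part2
import Cfsg.Agent.H69.Cores
import Cfsg.Agent.H71.Invert
import Cfsg.Agent.S0992
import Cfsg.Agent.S1012

set_option autoImplicit false

open Cfsg Cfsg.Agent.H49 Subgroup
open scoped IsMulCommutative

namespace Cfsg.Agent.H3

variable {G : Type*} [Group G]

theorem pow_eq_one_of_norm_map {V : Subgroup G} [V.Normal] (hV : IsMulCommutative V) {v g : G}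
    {n : ℕ} (hv : v ∈ V) (h1 : (v * g) ^ n = 1) (h2 : (v * v * g) ^ n = 1) : g ^ n = 1 := by
  have e1 := H84.mul_pow_eq_prod_conj V ⟨v, hv⟩ g n
  have e2 := H84.mul_pow_eq_prod_conj V (⟨v, hv⟩ * ⟨v, hv⟩) g n
  simp only [map_mul, Finset.prod_mul_distrib, coe_mul] at e1 e2
  rw [h1] at e1
  rw [h2, mul_assoc, ← e1, mul_one] at e2
  rw [← e2, one_mul] at e1
  exact e1.symm

theorem index_dvd_six [Finite G] {F : Subgroup G} [F.Normal] [IsKleinFour F] (h : 𝒞(F) ≤ F) :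
    F.index ∣ 6 := by
  have h1 : (MulAut.conjNormal (H := F)).ker ≤ F := fun g hg => h (mem_centralizer_iff.2
    fun y hy => by
      have := congrArg (fun e : MulAut F => (e ⟨y, hy⟩ : G)) (MonoidHom.mem_ker.1 hg)
      simp only [MulAut.conjNormal_apply, MulAut.one_apply] at this
      exact (mul_inv_eq_iff_eq_mul.1 this).symm)
  refine (index_dvd_of_le h1).trans ?_
  rw [index_ker]
  exact (card_subgroup_dvd_card _).trans S0992.card_mulAut_dvd

namespace NP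

variable {c : G → Subgroup G} (h : NP c) [Finite G] (hnil : ∀ x, Group.IsNilpotent (c x))
  {F : Subgroup G} (hn : F.Normal) (hF : Group.IsNilpotent F) (hnc : ∀ x, ¬ F ≤ c x)
include h

include hF hnc in
theorem exists_isPi : ∃ p : ℕ, p.Prime ∧ IsPi {p} F := by
  have h1 : F ≠ ⊥ := fun e => hnc 1 (e ▸ bot_le)
  obtain ⟨z, hz, hz1⟩ := ne_bot_iff_exists.1 (center_ne_bot_of_nilpotent hF h1)
  obtain ⟨y, hy, hy'⟩ := SetLike.not_le_iff_exists.1 (hnc z)
  have hc : ∀ {w : G}, w ∈ F → w * z = z * w := fun hw => mem_centralizer_iff.1 hz.2 _ hw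
  have hp := h.order_prime hz1 hy' (hc hy)
  refine ⟨_, hp, fun r hr hd => ?_⟩
  by_contra hne
  obtain ⟨u, hu, hur⟩ := exists_orderOf_eq_of_dvd_card hr hd
  have hu1 : u ≠ 1 := fun e => hr.one_lt.ne (by rw [← hur, e, orderOf_one])
  have h2 : u ∈ c z := h.mem_of_comm hz1 (hc hu) (hur ▸ hne)
  have h3 := h.order_eq hz1 hy' (hc hy)
  have h4 := comm_of_nilpotent hF hy hu (by
    rw [h3, hur]
    exact (Nat.coprime_primes hp hr).2 (Ne.symm hne))
  exact hne (hur.symm.trans ((h.order_eq hu1 (by rwa [h.eq h2 hu1]) h4).symm.trans h3))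

variable {p : ℕ} (hp : p.Prime) (hFp : IsPi {p} F)
include hnil hn hnc hp hFp

theorem fpf {b v : G} (hb1 : b ≠ 1) (hb : IsPiElt {p}ᶜ b) (hv : v ∈ F) (hc : v * b = b * v) :
    v = 1 := by
  by_contra hv1
  have hin : ∀ d ∈ F, d * b = b * d → d ∈ c b := fun d hd hdb => by
    by_contra hd'
    have e := h.order_eq hb1 hd' hdb
    exact hb1 (IsPiElt.eq_one (π := {p}) (show IsPiNat {p} (orderOf b) from e ▸ hFp.elt hd) hb)
  have hlt : F ⊓ c b < F := lt_of_le_of_ne inf_le_left fun e => hnc b (e ▸ inf_le_right)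
  obtain ⟨d, hd, hd'⟩ := SetLike.exists_of_lt (lt_inf_norm_of_nilpotent hFp.nilpotent hlt)
  have h1 : d ∈ 𝒩(c b) := h.TI (hin v hv hc) hv1
    (conj_mem_of_norm le_rfl hd.2 (show v ∈ F ⊓ c b from ⟨hv, hin v hv hc⟩)).2
  have h2 : d * b * d⁻¹ * b⁻¹ ∈ F := by
    simpa [mul_assoc] using F.mul_mem hd.1 (hn.conj_mem _ (F.inv_mem hd.1) b)
  have h3 : d * b * d⁻¹ * b⁻¹ ∈ c b :=
    mul_mem (conj_mem_of_norm le_rfl h1 (h.mem b)) (inv_mem (h.mem b))
  have h4 : Commute (d * b * d⁻¹ * b⁻¹) b :=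
    comm_of_nilpotent (hnil b) h3 (h.mem b) ((hFp.elt h2).coprime hb)
  have h5 : (d * b * d⁻¹ * b⁻¹) ^ orderOf b = 1 := by
    have := h4.mul_pow (orderOf b)
    rwa [inv_mul_cancel_right, conj_pow, pow_orderOf_eq_one, mul_one, mul_inv_cancel, mul_one,
      eq_comm] at this
  have h6 : d * b * d⁻¹ * b⁻¹ = 1 :=
    IsPiElt.eq_one (hFp.elt h2) (IsPiNat.of_dvd hb (orderOf_dvd_of_pow_eq_one h5))
  exact hd' ⟨hd.1, hin d hd.1 (mul_inv_eq_iff_eq_mul.1 (mul_inv_eq_one.1 h6))⟩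

theorem pure (g : G) : IsPiElt {p} g ∨ IsPiElt {p}ᶜ g := by
  have := Fact.mk hp
  obtain ⟨y, hy, b, hb, e, hy', hb'⟩ := exists_pi_decomp {p} g
  by_cases hy1 : y = 1
  · exact Or.inr (by rwa [e, hy1, one_mul])
  by_cases hb1 : b = 1
  · exact Or.inl (by rwa [e, hb1, mul_one])
  exfalso
  have h1 : F ≠ ⊥ := fun e => hnc 1 (e ▸ bot_le)
  obtain ⟨v, hv, hv1⟩ := ne_bot_iff_exists.1 (H69.inf_centralizer_ne_bot (T := zpowers y)
    ((isPi_zpowers.2 hy').isPGroup hp) (hFp.isPGroup hp)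
    (le_top.trans (normal_iff_top_le_norm.1 hn)) h1)
  have hyg : y ∈ c g := zpowers_le.2 (h.mem g) hy
  have hbg : b ∈ c g := zpowers_le.2 (h.mem g) hb
  have h2 : v ∈ 𝒩(c g) := h.eq hyg hy1 ▸
    h.norm_of_comm (mem_centralizer_iff.1 hv.2 y (mem_zpowers y)).symm
  have h3 : v * b * v⁻¹ * b⁻¹ ∈ F := by
    simpa [mul_assoc] using F.mul_mem hv.1 (hn.conj_mem _ (F.inv_mem hv.1) b)
  have h4 : v * b * v⁻¹ * b⁻¹ ∈ c g := mul_mem (conj_mem_of_norm le_rfl h2 hbg) (inv_mem hbg)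
  have h5 := h.fpf hnil hn hnc hp hFp hb1 hb' h3
    (comm_of_nilpotent (hnil g) h4 hbg ((hFp.elt h3).coprime hb'))
  exact hv1 (h.fpf hnil hn hnc hp hFp hb1 hb' hv.1
    (mul_inv_eq_iff_eq_mul.1 (mul_inv_eq_one.1 h5)))

variable (hmax : ∀ K : Subgroup G, K.Normal → Group.IsNilpotent K → K ≤ F)
include hmax

theorem cent_le' : 𝒞(F) ≤ F := by
  refine hmax _ (normal_iff_top_le_norm.2 (norm_cent (normal_iff_top_le_norm.1 hn)))
    (isPi_of_elt (π := {p}) fun w hw => (h.pure hnil hn hnc hp hFp w).elim id fun hw' => ?_).nilpotent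
  by_cases hw1 : w = 1
  · rw [hw1, IsPiElt, orderOf_one]
    exact IsPiNat.one _
  · obtain ⟨v, hv, hv1⟩ := ne_bot_iff_exists.1 (show F ≠ ⊥ from fun e => hnc 1 (e ▸ bot_le))
    exact absurd (h.fpf hnil hn hnc hp hFp hw1 hw' hv (mem_centralizer_iff.1 hw v hv)) hv1

/-- the final configuration: a `p`-element outside `F` of composite order -/
theorem s4_of_elt {g b : G} (hg : IsPiElt {p} g) (hgF : g ∉ F) (hgp : g ^ p ≠ 1) (hb1 : b ≠ 1)
    (hb : IsPiElt {p}ᶜ b) : Nonempty (G ≃* Equiv.Perm (Fin 4)) := by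
  have := Fact.mk hp
  have h1 : F ≠ ⊥ := fun e => hnc 1 (e ▸ bot_le)
  have hN := normal_iff_top_le_norm.1 hn
  have hg1 : g ≠ 1 := fun e => hgF (e ▸ one_mem _)
  have hgo : ¬ (orderOf g).Prime := fun e => hgp (by
    rw [← show orderOf g = p from hg _ e dvd_rfl, pow_orderOf_eq_one])
  have hL : ¬ (c g).Normal := fun e => hgF (hmax _ e (hnil g) (h.mem g))
  have hVn : (F ⊓ 𝒞(F)).Normal := normal_iff_top_le_norm.2 (norm_inf hN (norm_cent hN))
  have hV1 := center_ne_bot_of_nilpotent hFp.nilpotent h1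
  obtain ⟨z, hz, hz1⟩ := ne_bot_iff_exists.1 (H69.inf_centralizer_ne_bot (T := zpowers g)
    ((isPi_zpowers.2 hg).isPGroup hp) ((hFp.inf_left _).isPGroup hp)
    (le_top.trans (normal_iff_top_le_norm.1 hVn)) hV1)
  have hzg : g * z = z * g := mem_centralizer_iff.1 hz.2 g (mem_zpowers g)
  have hzF : ∀ {w : G}, w ∈ F → w * z = z * w := fun hw => mem_centralizer_iff.1 hz.1.2 _ hw
  have hzL : c z = c g := h.eq (h.mem_of_comm' hzg.symm hg1 hgo) hz1
  have hout : ∀ {w : G}, w * z = z * w → w ∉ c g → w ^ p = 1 := fun {w} hw hw' => by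
    have e1 := h.order_prime hz1 (hzL ▸ hw') hw
    rw [← show orderOf z = p from hFp.elt hz.1.1 _ e1 dvd_rfl, ← h.order_eq hz1 (hzL ▸ hw') hw,
      pow_orderOf_eq_one]
  have hout' : ∀ {v : G}, v ∈ F → v ∉ c g → (v * g) ^ p = 1 := fun {v} hv hv' =>
    hout (by rw [mul_assoc, hzg, ← mul_assoc, hzF hv, mul_assoc])
      fun e => hv' ((mul_mem_cancel_right (h.mem g)).1 e)
  by_cases hp2 : p ≠ 2
  · refine (hL (h.normal_of_le hVn hV1 fun v hv => ?_)).elim
    by_contra hv'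
    refine hgp (pow_eq_one_of_norm_map (abelian_iff.2 (inf_le_right.trans (cent_anti inf_le_left)))
      hv (hout' hv.1 hv') (hout' (mul_mem hv.1 hv.1) fun e => hv' ?_))
    exact mem_of_pow_mem_of_coprime (m := 2) (n := p) (by rwa [pow_two])
      (by rw [hout (hzF hv.1) hv']; exact one_mem _)
      ((Nat.coprime_primes Nat.prime_two hp).2 hp2.symm)
  obtain rfl : p = 2 := not_not.1 hp2
  have hinv : ∀ {v : G}, v ∈ F → v ∉ c g → v * g * v⁻¹ = g⁻¹ := fun {v} hv hv' =>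
    h.inverts (by rw [← pow_two]; exact hout (hzF hv) hv') (hzL ▸ h.norm_of_comm (hzF hv)) hv'
      (h.mem g)
  obtain ⟨y, hy, hy'⟩ := SetLike.not_le_iff_exists.1 (hnc g)
  have hi : (c g).relIndex F = 2 := by
    refine ((Nat.dvd_prime Nat.prime_two).1 (relIndex_dvd_two_iff.2 ⟨y, hy, fun v hv => ?_⟩)).resolve_left
      fun e => hnc g (relIndex_eq_one.1 e)
    refine or_iff_not_imp_right.2 fun hv' => h.mem_of_comm' ?_ hg1 hgo
    calc v * y * g = v * (y * g * y⁻¹) * v⁻¹ * (v * y) := by group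
      _ = (v * g * v⁻¹)⁻¹ * (v * y) := by rw [hinv hy hy']; group
      _ = g * (v * y) := by rw [hinv hv hv', inv_inv]
  have hcard := card_inf_mul_relIndex (c g) F
  rw [hi] at hcard
  obtain ⟨k, -, hk⟩ := SetLike.not_le_iff_exists.1 (fun e => hL (normal_iff_top_le_norm.2 e))
  have hdis : (c g ⊓ F) ⊓ cj k (c g ⊓ F) = ⊥ := by
    refine eq_bot_iff.2 fun w hw => by_contra fun hw1 => hk (inv_mem_iff.1 (h.TI hw.1.1 hw1 ?_))
    simpa using (mem_cj.1 hw.2).1
  have hle := card_mul_le (H := c g ⊓ F) (K := cj k (c g ⊓ F)) (M := F) inf_le_right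
    (cj_le_of_mem_norm inf_le_right (hN trivial))
  rw [hdis, card_cj, card_bot, mul_one, ← hcard] at hle
  have hA := Nat.le_of_mul_le_mul_left hle (card_pos' _)
  have hA0 := card_pos' (c g ⊓ F)
  have hdv : ∀ {w : G}, IsPiElt {2}ᶜ w → orderOf w ∣ Nat.card F - 1 := fun {w} hw => by
    have := relIndex_dvd_card_sub_one (K := ⊥) (L := zpowers w) (N := F) (le_top.trans hN)
      fun v hv hv1 u hu => by_contra fun hu1 => hv1 (h.fpf hnil hn hnc hp hFp hu1
        (hw.of_dvd (orderOf_dvd_of_mem_zpowers hu.1)) hv (mem_cent1.1 hu.2).symm)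
    rwa [relIndex_bot_left, Nat.card_zpowers] at this
  have hA2 : Nat.card ↥(c g ⊓ F) = 2 := by
    by_contra hcon
    have e : Nat.card F - 1 = 1 := by omega
    exact hb1 (orderOf_eq_one_iff.1 (Nat.dvd_one.1 (e ▸ hdv hb)))
  have hF4 : Nat.card F = 4 := by omega
  have hb3 : orderOf b = 3 := ((Nat.dvd_prime Nat.prime_three).1 (by simpa [hF4] using hdv hb)).resolve_left
    (orderOf_eq_one_iff.not.2 hb1)
  have : Nontrivial F := (nontrivial_iff_ne_bot F).2 h1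
  have : IsKleinFour F := ⟨hF4, (Monoid.exponent_eq_prime_iff hp).2 fun v hv =>
    orderOf_eq_prime (Subtype.ext (by
      by_cases hv' : (v : G) ∈ c g
      · exact orderOf_dvd_iff_pow_eq_one.1
          (hA2 ▸ Subgroup.orderOf_dvd_natCard (c g ⊓ F) ⟨hv', v.2⟩)
      · exact hout (hzF v.2) hv')) hv⟩
  have h6 := index_dvd_six (h.cent_le' hnil hn hnc hp hFp hmax)
  have hG := F.card_mul_index
  have h3 : 3 ∣ F.index := by
    have : 3 ∣ 4 * F.index := by rw [← hF4, hG, ← hb3]; exact orderOf_dvd_natCard b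
    omega
  have h2 : 2 ∣ F.index := by
    by_contra hcon
    exact hgF ((hall_mk (M := ⊤) le_top hFp (by
      rwa [relIndex_top_right, isPiNat_compl_singleton hp])).mem_of_normal hN trivial hg)
  have h6' : F.index = 6 := Nat.dvd_antisymm h6 (by omega)
  refine S1012.result (by rw [← hG, hF4, h6']) fun w hw => ?_
  rcases h.pure hnil hn hnc hp hFp w with e | e
  · exact absurd (e 3 Nat.prime_three (by rw [hw]; norm_num)) (by simp)
  · exact e 2 Nat.prime_two (by rw [hw]; norm_num) rfl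

end NP

theorem NP.case_pgroup {c : G → Subgroup G} (h : NP c) [Finite G]
    (hnil : ∀ x, Group.IsNilpotent (c x)) {F : Subgroup G} (hn : F.Normal)
    (hF : Group.IsNilpotent F) (hnc : ∀ x, ¬ F ≤ c x)
    (hmax : ∀ K : Subgroup G, K.Normal → Group.IsNilpotent K → K ≤ F) :
    Nonempty (G ≃* Equiv.Perm (Fin 4)) ∨ (∃ p : ℕ, p.Prime ∧ closure {g : G | g ^ p ≠ 1} ≠ ⊤) ∨
      ∃ H : Subgroup G, IsFrobeniusComplement H := by
  obtain ⟨p, hp, hFp⟩ := h.exists_isPi hF hnc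
  have h1 : F ≠ ⊥ := fun e => hnc 1 (e ▸ bot_le)
  have hN := normal_iff_top_le_norm.1 hn
  obtain ⟨z, hz, hz1⟩ := ne_bot_iff_exists.1 (center_ne_bot_of_nilpotent hF h1)
  by_cases htop : F = ⊤
  · refine Or.inr (Or.inl ⟨p, hp, hughes_ne_top (h.ne_top z hz1) fun g hg => ?_⟩)
    have hc : g * z = z * g := mem_centralizer_iff.1 hz.2 g (htop ▸ mem_top g)
    rw [← show orderOf z = p from hFp.elt hz.1 _ (h.order_prime hz1 hg hc) dvd_rfl,
      ← h.order_eq hz1 hg hc, pow_orderOf_eq_one]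
  have hcop : ∀ {a : G}, (orderOf a).Coprime (Nat.card F) → IsPiElt {p}ᶜ a := fun hc =>
    (isPiNat_compl_singleton_iff_coprime hp).2 (hc.coprime_dvd_right (hFp.dvd_card h1))
  by_cases hi : ¬ p ∣ F.index
  · exact Or.inr (Or.inr (frob_of_fpf hn h1 htop
      (IsPiNat.coprime hFp ((isPiNat_compl_singleton hp).2 hi))
      fun a ha hc y hy e => h.fpf hnil hn hnc hp hFp ha (hcop hc) hy e))
  rw [not_not] at hi
  have key : p = 2 ∨ Group.IsSolvable (G ⧸ F) ∨
      ∃ t : G, t ∉ F ∧ t * t = 1 ∧ ∀ g, g * t * g⁻¹ * t⁻¹ ∈ F := by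
    refine or_iff_not_imp_left.2 fun hp2 => ?_
    rcases Nat.even_or_odd F.index with he | he
    · obtain ⟨t, -, ht⟩ := H8.exists_involution_of_even (⊤ : Subgroup G)
        (by rw [card_top, ← F.card_mul_index]; exact he.mul_left _)
      have hinv : ∀ {u : G}, orderOf u = 2 → ∀ y ∈ F, u * y * u⁻¹ = y⁻¹ := fun {u} hu =>
        H71.inverts_of_fpf (H8.mul_self_of_orderOf_two hu) (hN trivial) (eq_bot_iff.2 fun y hy =>
          h.fpf hnil hn hnc hp hFp (H8.ne_one_of_orderOf_two hu)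
            (show IsPiNat _ (orderOf u) from hu ▸ (isPiNat_prime Nat.prime_two).2 (Ne.symm hp2))
            hy.2 (mem_cent1.1 hy.1))
      refine Or.inr ⟨t, fun e => hp2 (hFp.elt e 2 Nat.prime_two ht.symm.dvd).symm,
        H8.mul_self_of_orderOf_two ht, fun g => h.cent_le' hnil hn hnc hp hFp hmax
          (H71.commutator_mem_centralizer_of_inverts (hinv ht) (hN trivial))⟩
    · exact Or.inl (H54.odd_order_solvable he)
  rcases normal_or_normalized' hp hi key with ⟨K, hK, hlt, hi⟩ | ⟨K, a, hlt, hi, ha, hap, haK⟩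
  · refine (hlt.not_ge (hmax K hK (isPi_of_isPGroup hp (H69.isPGroup_iff_mem.2 fun g hg => ?_)).nilpotent)).elim
    obtain ⟨k, hk⟩ := hi g hg
    obtain ⟨j, hj⟩ := H69.isPGroup_iff_mem.1 (hFp.isPGroup hp) _ hk
    exact ⟨k + j, by rw [pow_add, pow_mul, hj]⟩
  have hS : IsSylowOf p F K := hall_mk hlt.le hFp ((isPiNat_compl_singleton hp).2 hi)
  have hSm : ∀ {w : G}, w ∈ K → IsPiElt {p} w → w ∈ F := hS.mem_of_normal (le_top.trans hN)
  obtain ⟨b, hb, hb'⟩ := SetLike.exists_of_lt hlt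
  have hb1 : b ≠ 1 := fun e => hb' (e ▸ one_mem _)
  have hbp := (h.pure hnil hn hnc hp hFp b).resolve_left fun e => hb' (hSm hb e)
  have ha' : a ∉ K := fun e => ha (mem_of_pow_mem_of_coprime hap (pow_relIndex_mem _ e)
    ((Nat.Prime.coprime_iff_not_dvd hp).2 hi))
  by_contra hcon
  refine hz1 (h.fpf hnil hn hnc hp hFp hb1 hbp hz.1 (comm_of_nilpotent (kegel_amb hp
    (M := K ⊔ zpowers a) le_sup_left (sup_le le_normalizer (zpowers_le.2 haK))
    (fun e => ha' (e (mem_sup_right (mem_zpowers a)))) fun g hg hg' => ?_) (hlt.le hz.1) hb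
    ((hFp.elt hz.1).coprime hbp)))
  by_contra hgp
  have h2 := dvd_orderOf_of_pow_mem hp hg' (pow_mem_of_mem_sup haK (hlt.le hap) hg)
  exact hcon (Or.inl (h.s4_of_elt hnil hn hnc hp hFp hmax
    ((h.pure hnil hn hnc hp hFp g).resolve_right fun e => e p hp h2 rfl)
    (fun e => hg' (hlt.le e)) hgp hb1 hbp))

end Cfsg.Agent.H3
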