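/-
Groups with a partition, IV: trivial Fitting subgroup, centralisers of involutions.
-/
import Cfsg.Agent.H3.Part2
import Cfsg.Agent.H69.Cores
import Cfsg.Agent.H71.Invert
import Cfsg.Agent.H43.SE

set_option autoImplicit false

open Cfsg Cfsg.Agent.H49 Subgroup

namespace Cfsg.Agent.H3

variable {G : Type*} [Group G]

theorem comm_of_sq {a b : G} (ha : a * a = 1) (hb : b * b = 1) (hab : a * b * (a * b) = 1) :
    a * b = b * a := by
  rw [← inv_eq_of_mul_eq_one_right hab, mul_inv_rev, inv_eq_of_mul_eq_one_right ha,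
    inv_eq_of_mul_eq_one_right hb]

theorem isPiElt_two {u : G} (hu : u * u = 1) : IsPiElt {2} u :=
  IsPiNat.of_dvd ((isPiNat_prime Nat.prime_two).2 rfl)
    (orderOf_dvd_of_pow_eq_one (by rwa [pow_two]))

theorem exists_invol_center [Finite G] {S H : Subgroup G} (hS : IsPi {2} S) (h1 : S ≠ ⊥)
    (hH : Group.IsNilpotent H) (hSH : S ≤ H) (hn : H ≤ 𝒩(S)) :
    ∃ z ∈ S, orderOf z = 2 ∧ ∀ y ∈ H, z * y = y * z := by
  obtain ⟨z, hz, hz1, hz2⟩ := H69.exists_mem_orderOf_eq ((hS.inf_left _).isPGroup Nat.prime_two)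
    (inf_center_ne_bot_of_nilpotent hH hSH hn h1)
  exact ⟨z, hz.1, orderOf_eq_prime hz2 hz1, fun y hy => (mem_centralizer_iff.1 hz.2 y hy).symm⟩

namespace NP

variable {c : G → Subgroup G} (h : NP c) [Finite G]
include h

theorem invol_of_comm {z w : G} (hz : orderOf z = 2) (hw : w ∉ c z) (hc : w * z = z * w) :
    orderOf w = 2 := (h.order_eq (H8.ne_one_of_orderOf_two hz) hw hc).trans hz

theorem cent_le_of_sylow (hnil : ∀ x, Group.IsNilpotent (c x)) {S : Subgroup G} {x : G}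
    (hS : IsSylowOf 2 S ⊤) (hSx : S ≤ c x) {u : G} (hu : orderOf u = 2) : 𝒞[u] ≤ c u := by
  obtain ⟨g, -, hg⟩ := sylowOf_Jsub hS (X := zpowers u) le_top
    (isPi_zpowers.2 (isPiElt_two (H8.mul_self_of_orderOf_two hu)))
  have hS' := hS.cj_of_mem (mem_top g)
  have h1 : cj g S ≤ c u := by
    have := h.conj g x ▸ cj_mono g hSx
    rwa [← h.eq (this (hg (mem_zpowers u))) (H8.ne_one_of_orderOf_two hu)] at this
  intro w hw
  by_contra hw'
  have h2 := nilpotent_hall_norm (hnil u) (hS'.sub h1 le_top)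
  exact hw' (h1 ((hS'.sub (h1.trans le_normalizer) le_top).mem_of_normal h2
    (h.norm_of_comm (mem_cent1.1 hw)) (isPiElt_two (H8.mul_self_of_orderOf_two
      (h.invol_of_comm hu hw' (mem_cent1.1 hw))))))

theorem cc_of_cent_le (hnil : ∀ x, Group.IsNilpotent (c x))
    (ha : ∀ u, orderOf u = 2 → 𝒞[u] ≤ c u) {z : G} (hz : orderOf z = 2) (hn : ¬ (c z).Normal) :
    ∀ x ∈ c z, x ≠ 1 → 𝒞[x] ≤ c z := by
  intro x hx hx1 k hk
  by_contra hk'
  have hz1 := H8.ne_one_of_orderOf_two hz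
  have hcx := h.eq hx hx1
  have hkx := mem_cent1.1 hk
  have hq := h.order_prime hx1 (hcx ▸ hk') hkx
  have hkq := h.order_eq hx1 (hcx ▸ hk') hkx
  have hq2 : orderOf x ≠ 2 := fun e => hk' (hcx ▸ ha x e hk)
  have hcop : (orderOf x).Coprime 2 := (Nat.coprime_primes hq Nat.prime_two).2 hq2
  have hkN : k ∈ 𝒩(c z) := hcx ▸ h.norm_of_comm hkx
  obtain ⟨g, -, hg⟩ := SetLike.not_le_iff_exists.1 (fun e => hn (normal_iff_top_le_norm.2 e))
  have hu : orderOf (g * z * g⁻¹) = 2 := by rw [H8.orderOf_conj', hz]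
  have hu' : g * z * g⁻¹ ∉ c z := fun e => hg (h.TI (h.mem z) hz1 e)
  generalize g * z * g⁻¹ = u at hu hu'
  have hsw : ∀ v ∈ c z, orderOf v = 2 → ∃ t : G, t * t = 1 ∧ t * v * t = u := fun v hv hv2 => by
    have hvv := H8.mul_self_of_orderOf_two hv2
    have huu := H8.mul_self_of_orderOf_two hu
    rcases Nat.even_or_odd (orderOf (v * u)) with he | he
    · obtain ⟨j, h1, h2, h3⟩ := H43.exists_central_inv hvv huu he
      exact absurd (h.eq_one hu' (h.eq hv (H8.ne_one_of_orderOf_two hv2) ▸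
        ha v hv2 (mem_cent1.2 h2.symm)) (ha u hu (mem_cent1.2 h3.symm)))
        (H8.ne_one_of_orderOf_two h1)
    · obtain ⟨j, h1, h2⟩ := H43.exists_pow_conj hvv huu he
      exact ⟨_, h1, h2⟩
  obtain ⟨t, htt, ht⟩ := hsw z (h.mem z) hz
  obtain ⟨r, hrr, hr⟩ := hsw (k * z * k⁻¹) (conj_mem_of_norm le_rfl hkN (h.mem z))
    (by rw [H8.orderOf_conj', hz])
  have hti : t⁻¹ = t := inv_eq_of_mul_eq_one_right htt
  have hri : r⁻¹ = r := inv_eq_of_mul_eq_one_right hrr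
  have htN : t ∉ 𝒩(c z) := fun e => hu' (by
    have := conj_mem_of_norm le_rfl e (h.mem z)
    rwa [hti, ht] at this)
  have ht2 : orderOf t = 2 := H8.orderOf_two_of htt fun e => htN (e ▸ one_mem _)
  have h1 : k⁻¹ * (r * t) ∈ c z := ha z hz (mem_cent1.2 (by
    calc k⁻¹ * (r * t) * z = k⁻¹ * r * (t * z * t) * t⁻¹ := by group
      _ = k⁻¹ * (r * r) * (k * z * k⁻¹) * r * t⁻¹ := by rw [ht, ← hr]; group
      _ = _ := by rw [hrr, hti]; group))
  have hd : r * t = k * (k⁻¹ * (r * t)) := by group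
  have hinv : t * (r * t) * t⁻¹ = (r * t)⁻¹ := by
    rw [mul_inv_rev, hri, ← mul_assoc, mul_inv_cancel_right, hti]
  generalize r * t = d at h1 hd hinv
  have hdN : d ∈ 𝒩(c z) := hd ▸ mul_mem hkN (le_normalizer h1)
  have hdH : d ∉ c z := fun e => hk' (by simpa using mul_mem e (inv_mem h1))
  have hdq : orderOf d = orderOf x := by
    have := Fact.mk hq
    refine orderOf_eq_prime (h.pow_eq_one hdH (pow_mem_of_mem_sup hkN
      (by rw [← hkq, pow_orderOf_eq_one]; exact one_mem _) ?_)) fun e => hdH (e ▸ one_mem _)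
    exact hd ▸ mul_mem (mem_sup_right (mem_zpowers k)) (mem_sup_left h1)
  obtain ⟨y, hy, hy1, hyd⟩ := exists_fixed hq hdq hdN (Subgroup.orderOf_dvd_natCard _ hx)
  have hdt : d ∉ c t := fun e => by
    have e1 := comm_of_nilpotent (hnil t) e (h.mem t) (by rwa [hdq, ht2])
    rw [← e1, mul_inv_cancel_right] at hinv
    exact hq2 ((Nat.prime_dvd_prime_iff_eq hq Nat.prime_two).1 (hdq ▸ orderOf_dvd_of_pow_eq_one
      (by rw [pow_two]; exact mul_eq_one_iff_eq_inv.2 hinv)))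
  have hfix : 𝒞[t] ⊓ 𝒞[d] = ⊥ := eq_bot_iff.2 fun w hw => by_contra fun hw1 => by
    have e1 : d ∈ 𝒩(c t) := h.eq (ha t ht2 hw.1) hw1 ▸ h.norm_of_comm (mem_cent1.1 hw.2).symm
    have e2 : d ^ 2 = d * t⁻¹ * d⁻¹ * t := by
      rw [mul_assoc, mul_assoc, ← hinv, pow_two]
      group
    exact hdt (mem_of_pow_mem_of_coprime (by rw [pow_orderOf_eq_one]; exact one_mem _)
      (e2 ▸ mul_mem (conj_mem_of_norm le_rfl e1 (inv_mem (h.mem t))) (h.mem t)) (hdq ▸ hcop))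
  have htd : t ∈ 𝒩(𝒞[d]) := by
    rw [mem_norm_iff_cj, cj_cent1, hinv, ← cent_zpowers, zpowers_inv, cent_zpowers]
  exact htN (h.eq hy hy1 ▸ h.norm_of_inv (H71.inverts_of_fpf htt htd hfix y (mem_cent1.2 hyd)))

theorem inverts' {z s : G} (hz : orderOf z = 2) (hs : s * z = z * s) (hs' : s ∉ c z) {y : G}
    (hy : y ∈ c z) : s * y * s⁻¹ = y⁻¹ :=
  h.inverts (H8.mul_self_of_orderOf_two (h.invol_of_comm hz hs' hs)) (h.norm_of_comm hs) hs' hy

theorem comm_of_not_le {z : G} (hz : orderOf z = 2) (hb : ¬ 𝒞[z] ≤ c z) {x y : G} (hx : x ∈ c z)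
    (hy : y ∈ c z) : x * y = y * x := by
  obtain ⟨s, hs, hs'⟩ := SetLike.not_le_iff_exists.1 hb
  exact H71.mul_comm_of_inverts (fun _ hw => h.inverts' hz (mem_cent1.1 hs) hs' hw) hx hy

theorem sq_of_cent {v : G} (hv : orderOf v = 2) (he : ∀ l ∈ c v, l * l = 1) {w : G}
    (hw : w * v = v * w) : w * w = 1 := by
  by_cases hw' : w ∈ c v
  · exact he w hw'
  · exact H8.mul_self_of_orderOf_two (h.invol_of_comm hv hw' hw)

theorem mul_mem_of_cent {z y s s' : G} (hz : orderOf z = 2) (hy : y ∈ c z) (hy2 : y * y ≠ 1)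
    (hs : s * z = z * s) (h1 : s ∉ c z) (hs' : s' * z = z * s') (h2 : s' ∉ c z) : s * s' ∈ c z := by
  by_contra hcon
  have hy1 : y ≠ 1 := fun e => hy2 (by simp [e])
  have e1 : s * s' * y = y * (s * s') := by
    calc s * s' * y = s * (s' * y * s'⁻¹) * s⁻¹ * (s * s') := by group
      _ = (s * y * s⁻¹)⁻¹ * (s * s') := by rw [h.inverts' hz hs' h2 hy]; group
      _ = _ := by rw [h.inverts' hz hs h1 hy, inv_inv]
  have e2 := h.order_eq hy1 (by rwa [h.eq hy hy1]) e1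
  rw [h.invol_of_comm hz hcon (by rw [mul_assoc, hs', ← mul_assoc, hs, mul_assoc])] at e2
  exact hy2 (H8.mul_self_of_orderOf_two e2.symm)

theorem not_cent_le {S : Subgroup G} (hS : IsSylowOf 2 S ⊤) (hSx : ∀ x, ¬ S ≤ c x) {e : G}
    (he : orderOf e = 2) : ¬ 𝒞[e] ≤ c e := by
  intro hle
  obtain ⟨g, -, hg⟩ := sylowOf_Jsub hS (X := zpowers e) le_top
    (isPi_zpowers.2 (isPiElt_two (H8.mul_self_of_orderOf_two he)))
  have hS' := hS.cj_of_mem (mem_top g)
  have heS := hg (mem_zpowers e)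
  obtain ⟨z, hzS, hz, hzc⟩ := exists_invol_center hS'.pi (ne_bot_iff_exists.2
    ⟨e, heS, H8.ne_one_of_orderOf_two he⟩) hS'.pi.nilpotent le_rfl le_normalizer
  have h1 : c z = c e := h.eq (hle (mem_cent1.2 (hzc e heS))) (H8.ne_one_of_orderOf_two hz)
  refine hSx (g⁻¹ * z * g⁻¹⁻¹) ?_
  rw [h.conj, le_cj_iff, inv_inv]
  intro s hs
  by_contra hs'
  have h2 := h.inverts' hz (hzc s hs).symm hs' (h1 ▸ h.mem e)
  rw [H8.inv_eq_of_orderOf_two he, mul_inv_eq_iff_eq_mul] at h2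
  exact hs' (h1 ▸ hle (mem_cent1.2 h2))

theorem cc_of_exp {S : Subgroup G} (hS : IsSylowOf 2 S ⊤) {z : G} (hz : orderOf z = 2)
    (hzc : S ≤ 𝒞[z]) (he : ∀ u, orderOf u = 2 → S ≤ 𝒞[u] → ∀ l ∈ c u, l * l = 1) :
    ∀ x ∈ S, x ≠ 1 → 𝒞[x] ≤ S := by
  have key : ∀ u, orderOf u = 2 → S ≤ 𝒞[u] → S = 𝒞[u] := fun u hu hle =>
    hS.eq_of_le hle le_top (isPi_of_elt fun w hw =>
      isPiElt_two (h.sq_of_cent hu (he u hu hle) (mem_cent1.1 hw)))
  have h1 : ∀ w ∈ S, w * w = 1 := fun w hw => h.sq_of_cent hz (he z hz hzc) (mem_cent1.1 (hzc hw))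
  exact fun x hx hx1 => (key x (H8.orderOf_two_of (h1 x hx) hx1) fun w hw =>
    mem_cent1.2 (comm_of_sq (h1 w hw) (h1 x hx) (h1 _ (mul_mem hw hx)))).ge

omit [Finite G] in
theorem exp_two {x e₁ e₂ v : G} (h1 : e₁ ∈ c x) (h2 : e₂ ∈ c x) (o1 : orderOf e₁ = 2)
    (o2 : orderOf e₂ = 2) (hne : e₁ ≠ e₂) (hc : e₁ * e₂ = e₂ * e₁) (c1 : e₁ * v = v * e₁)
    (c2 : e₂ * v = v * e₂) (hv : v ∉ c x) : ∀ l ∈ c v, l * l = 1 := by
  intro l hl
  have s1 := H8.mul_self_of_orderOf_two o1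
  have s2 := H8.mul_self_of_orderOf_two o2
  have i1 := h.inverts s1 (h.norm_of_comm c1)
    (fun e => H8.ne_one_of_orderOf_two o1 (h.eq_one hv h1 e)) hl
  have i2 := h.inverts s2 (h.norm_of_comm c2)
    (fun e => H8.ne_one_of_orderOf_two o2 (h.eq_one hv h2 e)) hl
  have i3 := h.inverts (s := e₁ * e₂) (by
      rw [mul_assoc, ← mul_assoc e₂, ← hc, mul_assoc e₁, s2, mul_one, s1])
    (mul_mem (h.norm_of_comm c1) (h.norm_of_comm c2)) (fun e => hne (by
      rw [← H8.inv_eq_of_orderOf_two o2]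
      exact eq_inv_of_mul_eq_one_left (h.eq_one hv (mul_mem h1 h2) e))) hl
  have : e₁ * e₂ * l * (e₁ * e₂)⁻¹ = l := by
    calc e₁ * e₂ * l * (e₁ * e₂)⁻¹ = e₁ * (e₂ * l * e₂⁻¹) * e₁⁻¹ := by group
      _ = (e₁ * l * e₁⁻¹)⁻¹ := by rw [i2]; group
      _ = l := by rw [i1, inv_inv]
  exact mul_eq_one_iff_eq_inv.2 (this.symm.trans i3)

variable {S : Subgroup G} (hS : IsSylowOf 2 S ⊤) {z y : G} (hz : orderOf z = 2) (hzc : S ≤ 𝒞[z])
  (hb : ¬ 𝒞[z] ≤ c z) (hy : y ∈ c z) (hy2 : y * y ≠ 1)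
include hS hz hzc hb hy hy2

theorem norm_le_cent : 𝒩(c z) ≤ 𝒞[z] := by
  obtain ⟨s, hs, hs'⟩ := SetLike.not_le_iff_exists.1 hb
  have hCN : 𝒞[z] ≤ 𝒩(c z) := fun w hw => h.norm_of_comm (mem_cent1.1 hw)
  have hHC : c z ≤ 𝒞[z] := fun w hw => mem_cent1.2 (h.comm_of_not_le hz hb hw (h.mem z))
  have hn : 𝒩(c z) ≤ 𝒩(𝒞[z]) := le_norm_iff.2 fun n hn w hw => by
    by_cases hw' : w ∈ c z
    · exact hHC (conj_mem_of_norm le_rfl hn hw')
    · have e := h.inverts (s := n * w * n⁻¹) (by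
        rw [conj_mul, H8.mul_self_of_orderOf_two (h.invol_of_comm hz hw' (mem_cent1.1 hw))]; simp)
        (mul_mem (mul_mem hn (hCN hw)) (inv_mem hn))
        (fun e => hw' (by simpa [mul_assoc] using conj_mem_of_norm' le_rfl hn e)) (h.mem z)
      rw [H8.inv_eq_of_orderOf_two hz, mul_inv_eq_iff_eq_mul] at e
      exact mem_cent1.2 e
  have hodd : Odd (𝒞[z].relIndex 𝒩(c z)) := Nat.not_even_iff_odd.1 fun e =>
    (isPiNat_compl_singleton Nat.prime_two).1
      ((hS.sub (hzc.trans hCN) le_top).index_of_le hzc) e.two_dvd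
  have := normal_subgroupOf hn
  have hpow : ∀ g ∈ 𝒩(c z), g ^ 𝒞[z].relIndex 𝒩(c z) ∈ 𝒞[z] := fun g hg =>
    (𝒞[z].subgroupOf 𝒩(c z)).pow_index_mem ⟨g, hg⟩
  generalize 𝒞[z].relIndex 𝒩(c z) = m at hodd hpow
  have h2 : ∀ g ∈ 𝒩(c z), g ^ m ∉ c z → g ∈ 𝒞[z] := fun g hg hg' => by
    have e := h.norm_of_comm (mem_cent1.1 (hpow g hg)).symm
    rw [h.eq (pow_mem (h.mem g) m) fun e => hg' (e ▸ one_mem _)] at e
    exact mem_cent1.2 (h.comm_of_norm (fun e => hg' (pow_mem e m)) (h.mem z) (h.mem g) e hg).symm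
  intro n hn'
  by_cases h3 : n ^ m ∈ c z
  swap
  · exact h2 n hn' h3
  have h4 : ∀ k : ℕ, (n * s) ^ k * y * ((n * s) ^ k)⁻¹ = n ^ k * y ^ ((-1 : ℤ) ^ k) * (n ^ k)⁻¹ := by
    intro k
    induction k with
    | zero => simp
    | succ k ih =>
      have e := h.inverts' hz (mem_cent1.1 hs) hs'
        (conj_mem_of_norm le_rfl (pow_mem hn' k) (zpow_mem hy ((-1 : ℤ) ^ k)))
      calc (n * s) ^ (k + 1) * y * ((n * s) ^ (k + 1))⁻¹
          = n * (s * ((n * s) ^ k * y * ((n * s) ^ k)⁻¹) * s⁻¹) * n⁻¹ := by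
            rw [pow_succ']
            generalize (n * s) ^ k = w
            group
        _ = _ := by rw [ih, e, pow_succ' n, pow_succ (-1 : ℤ), mul_neg_one, zpow_neg]; group
  refine (mul_mem_cancel_right hs).1 (h2 _ (mul_mem hn' (hCN hs)) fun e => hy2 ?_)
  have e1 := h4 m
  rw [hodd.neg_one_pow, zpow_neg_one, h.comm_of_not_le hz hb e hy,
    h.comm_of_not_le hz hb h3 (inv_mem hy), mul_inv_cancel_right, mul_inv_cancel_right] at e1
  exact mul_eq_one_iff_eq_inv.2 e1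

theorem uniq_invol (hF : ∀ K : Subgroup G, K.Normal → Group.IsNilpotent K → K = ⊥) {u : G}
    (hu : u ∈ c z) (huu : u * u = 1) : u = 1 ∨ u = z := by
  by_contra hcon
  push Not at hcon
  obtain ⟨hu1, huz⟩ := hcon
  have hN := h.norm_le_cent hS hz hzc hb hy hy2
  have hz1 := H8.ne_one_of_orderOf_two hz
  have hzz := H8.mul_self_of_orderOf_two hz
  have hu2 := H8.orderOf_two_of huu hu1
  have hCu : ∀ w, w * z = z * w → w * u = u * w := fun w hw => by
    by_cases hw' : w ∈ c z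
    · exact h.comm_of_not_le hz hb hw' hu
    · have e := h.inverts' hz hw hw' hu
      rwa [H8.inv_eq_of_orderOf_two hu2, mul_inv_eq_iff_eq_mul] at e
  have key : ∀ g : G, z * (g * z * g⁻¹) = g * z * g⁻¹ * z := fun g => by
    have hw : orderOf (g * z * g⁻¹) = 2 := by rw [H8.orderOf_conj', hz]
    have hww := H8.mul_self_of_orderOf_two hw
    rcases Nat.even_or_odd (orderOf (u * (g * z * g⁻¹))) with he | he
    · obtain ⟨j, hv, h2, h3⟩ := H43.exists_central_inv huu hww he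
      generalize (u * (g * z * g⁻¹)) ^ j = v at hv h2 h3
      have hvz : v * z = z * v := mem_cent1.1 (hN (h.eq hu hu1 ▸ h.norm_of_comm h2.symm))
      by_cases hv' : v ∈ c z
      · by_cases hv'' : v ∈ c (g * z * g⁻¹)
        · exact h.comm_of_not_le hz hb (h.mem z)
            (h.eq' hv'' hv' (H8.ne_one_of_orderOf_two hv) ▸ h.mem _)
        · refine absurd (h.exp_two (e₂ := g * u * g⁻¹) (h.mem _) (h.conj g z ▸ conj_mem_cj.2 hu) hw
            (by rw [H8.orderOf_conj', hu2]) (fun e => huz (by simpa using e.symm))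
            (by rw [conj_mul, conj_mul, hCu z rfl]) h3 ?_ hv'' y
            (by rwa [h.eq hv' (H8.ne_one_of_orderOf_two hv)])) hy2
          have e := hCu (g⁻¹ * v * g) (by
            calc g⁻¹ * v * g * z = g⁻¹ * (v * (g * z * g⁻¹)) * g := by group
              _ = _ := by rw [← h3]; group)
          calc g * u * g⁻¹ * v = g * (u * (g⁻¹ * v * g)) * g⁻¹ := by group
            _ = _ := by rw [← e]; group
      · have e := h.exp_two hu (h.mem z) hu2 hz huz (hCu z rfl).symm h2 hvz.symm hv'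
        exact comm_of_sq hzz hww (h.sq_of_cent hv e (by
          rw [mul_assoc z, h3, ← mul_assoc, ← hvz, mul_assoc v]))
    · obtain ⟨d, -, hd⟩ := H8.exists_conj_of_odd huu hww he
      have e : g⁻¹ * d * u * (g⁻¹ * d)⁻¹ = z := by
        calc g⁻¹ * d * u * (g⁻¹ * d)⁻¹ = g⁻¹ * (d * u * d⁻¹) * g := by group
          _ = z := by rw [hd]; group
      rw [hCu _ (mem_cent1.1 (hN (h.TI hu hu1 (e.symm ▸ h.mem z)))), mul_inv_cancel_right] at e
      exact absurd e huz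
  have h1 := hF _ inferInstance (isPi_of_isPGroup Nat.prime_two (H8.baer_suzuki_elem z fun g =>
    H8.isPGroup_closure_pair_of_commute hzz (by rw [conj_mul, hzz]; simp) (key g))).nilpotent
  have h2 : z ∈ normalClosure ({z} : Set G) := subset_normalClosure rfl
  exact hz1 (mem_bot.1 (h1 ▸ h2))

end NP

end Cfsg.Agent.H3
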