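/-
Groups with a partition, V: recognition of `PGL(2, q)`.
-/
import Cfsg.Agent.H3.Part4
import Cfsg.Agent.H26.ZassPSL

set_option autoImplicit false

open Cfsg Cfsg.Agent.H49 Subgroup MulAction
open scoped MatrixGroups

namespace Cfsg.Agent.H3

variable {G : Type*} [Group G]

theorem conj_ne_one {g x : G} (h : x ≠ 1) : g⁻¹ * x * g ≠ 1 := fun e =>
  h (by simpa using conj_eq_one_iff.1 (show g⁻¹ * x * g⁻¹⁻¹ = 1 by rwa [inv_inv]))

theorem regular_of_card {Ω : Type*} [MulAction G Ω] [Finite Ω] {Q : Subgroup G} {a : Ω}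
    (fix : ∀ x ∈ Q, x • a = a) (semi : ∀ x ∈ Q, x ≠ 1 → ∀ b, x • b = b → b = a)
    (hc : Nat.card Ω = Nat.card Q + 1) {b d : Ω} (hb : b ≠ a) (hd : d ≠ a) : ∃ x ∈ Q, x • b = d := by
  have : Finite Q := by
    refine Finite.of_injective (fun x : Q => (x : G) • b) fun x y e => Subtype.ext ?_
    by_contra hne
    exact hb (semi _ (mul_mem (inv_mem y.2) x.2) (fun e' => hne (inv_mul_eq_one.1 e').symm) b
      (by rw [mul_smul, show (x : G) • b = (y : G) • b from e, inv_smul_smul]))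
  have hinj : Function.Injective (fun o : Option Q => o.elim a fun x => (x : G) • b) := by
    rintro (_ | x) (_ | y) e
    · rfl
    · exact absurd (MulAction.injective (y : G) ((fix y y.2).trans e)).symm hb
    · exact absurd (MulAction.injective (x : G) (e.trans (fix x x.2).symm)) hb
    · by_contra hne
      exact hb (semi _ (mul_mem (inv_mem y.2) x.2)
        (fun e' => hne (congrArg some (Subtype.ext (inv_mul_eq_one.1 e').symm))) b
        (by rw [mul_smul, show (x : G) • b = (y : G) • b from e, inv_smul_smul]))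
  obtain ⟨_ | x, e⟩ := (hinj.bijective_of_nat_card_le (by rw [Finite.card_option, hc])).2 d
  · exact absurd e.symm hd
  · exact ⟨x, x.2, e⟩

/-- A transitive action in which every point stabiliser has a normal subgroup `Q a` of odd order
acting regularly on the other points. -/
structure QAct (Ω : Type*) [MulAction G Ω] (M : Subgroup G) (Q : Ω → Subgroup G) : Prop where
  trans : ∀ a b : Ω, ∃ g : G, g • a = b
  conj : ∀ (g : G) a, Q (g • a) = cj g (Q a)
  fix : ∀ a, ∀ x ∈ Q a, x • a = a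
  semi : ∀ a, ∀ x ∈ Q a, x ≠ 1 → ∀ b, x • b = b → b = a
  card : ∀ a, Nat.card Ω = Nat.card (Q a) + 1
  odd : ∀ a, Odd (Nat.card (Q a))
  le : ∀ a, Q a ≤ M
  cent : ∀ a, ∀ x ∈ Q a, x ≠ 1 → M ⊓ 𝒞[x] ≤ Q a

namespace QAct

variable {Ω : Type*} [MulAction G Ω] [Finite Ω] {M : Subgroup G} {Q : Ω → Subgroup G}
  (q : QAct Ω M Q)
include q

theorem reg {a b d : Ω} (hb : b ≠ a) (hd : d ≠ a) : ∃ x ∈ Q a, x • b = d :=
  regular_of_card (q.fix a) (q.semi a) (q.card a) hb hd

omit [Finite Ω] in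
theorem norm {g : G} {a : Ω} (h : g • a = a) : g ∈ 𝒩(Q a) := by
  rw [mem_norm_iff_cj, ← q.conj, h]

theorem exists_comm {g : G} {a b d : Ω} (hab : a ≠ b) (hbd : b ≠ d) (had : a ≠ d) (ha : g • a = a)
    (hb : g • b = b) (hd : g • d = d) : ∃ x ∈ Q a, x ≠ 1 ∧ x * g = g * x := by
  obtain ⟨x, hx, e⟩ := q.reg hab.symm had.symm
  refine ⟨x, hx, fun e' => hbd (by rw [← e, e', one_smul]), ?_⟩
  by_contra hne
  refine hab (q.semi a _ (mul_mem (inv_mem hx) (conj_mem_of_norm le_rfl (q.norm ha) hx))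
    (fun e' => hne (by rw [inv_mul_eq_one, eq_mul_inv_iff_mul_eq] at e'; exact e')) b ?_).symm
  rw [mul_smul, mul_smul, mul_smul, inv_smul_eq_iff.2 hb.symm, e, hd, ← e, inv_smul_smul]

variable [Finite G] {c : G → Subgroup G} (h : NP c) (hnil : ∀ x, Group.IsNilpotent (c x))
  (hM : M.index = 2)
include h hnil hM

theorem three (g : G) {a b d : Ω} (hab : a ≠ b) (hbd : b ≠ d) (had : a ≠ d) (ha : g • a = a)
    (hb : g • b = b) (hd : g • d = d) : g = 1 := by
  by_contra hg1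
  obtain ⟨x, hx, hx1, hxg⟩ := q.exists_comm hab hbd had ha hb hd
  obtain ⟨x', hx', hx1', hxg'⟩ := q.exists_comm hab.symm had hbd hb ha hd
  by_cases hg : g ∈ M
  · exact hab (q.semi a g (q.cent a x hx hx1 ⟨hg, mem_cent1.2 hxg.symm⟩) hg1 b hb).symm
  have h2 := dvd_orderOf_of_pow_mem Nat.prime_two hg (sq_mem_of_index_two hM g)
  have key : ∀ {e : Ω} {w : G}, w ∈ Q e → w * g = g * w → w ∈ c g ⊓ M := fun {e w} hw hc =>
    ⟨h.mem_of_comm hg1 hc fun e' => (Nat.not_even_iff_odd.2 (q.odd e)) (even_iff_two_dvd.2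
      ((e' ▸ h2).trans (Subgroup.orderOf_dvd_natCard _ hw))), q.le e hw⟩
  obtain ⟨y, hy, hy1⟩ := ne_bot_iff_exists.1 (center_ne_bot_of_nilpotent
    (nilpotent_of_le (hnil g) (inf_le_left : c g ⊓ M ≤ c g))
    (ne_bot_iff_exists.2 ⟨x, key hx hxg, hx1⟩))
  exact hab (q.semi a y (q.cent a x hx hx1 ⟨hy.1.2, cent_le_cent1 (key hx hxg) hy.2⟩) hy1 b
    (q.fix b y (q.cent b x' hx' hx1' ⟨hy.1.2, cent_le_cent1 (key hx' hxg') hy.2⟩))).symm

theorem pgl (hb : ∀ e, orderOf e = 2 → ¬ 𝒞[e] ≤ c e) (h3 : 3 ≤ Nat.card Ω)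
    (hG : Nat.card G = Nat.card Ω * ((Nat.card Ω - 1) * (Nat.card Ω - 2))) :
    ∃ (K : Type) (_ : Field K) (_ : Fintype K), Nat.card Ω = Nat.card K + 1 ∧
      Nonempty (G ≃* PGL(2, K)) := by
  obtain ⟨a, b, d, hab, hda, hdb⟩ := H26.exists_three h3
  have hT : H12.ZT G Ω :=
    { faithful := fun g hg => q.three h hnil hM g hab hdb.symm hda.symm (hg a) (hg b) (hg d)
      two := fun {a b e f} h1 h2 => by
        obtain ⟨k, rfl⟩ := q.trans a e
        obtain ⟨x, hx, e⟩ := q.reg (fun e => h1 (MulAction.injective k e).symm) h2.symm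
        exact ⟨x * k, by rw [mul_smul, q.fix _ x hx], by rw [mul_smul, e]⟩
      three := fun g _ _ _ => q.three h hnil hM g }
  have hF := H26.zt_fix3 hT
  have hprod : IsProd (Q a) (stabilizer G a ⊓ stabilizer G b) (stabilizer G a) := by
    refine ⟨q.fix a, inf_le_left, fun g hg => ?_⟩
    obtain ⟨x, hx, e⟩ := q.reg hab.symm (d := g • b)
      fun e => hab (MulAction.injective g (hg.trans e.symm))
    exact ⟨x, hx, x⁻¹ * g, mem_inf.2 ⟨mul_mem (inv_mem (show x ∈ stabilizer G a from q.fix a x hx)) hg,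
      show (x⁻¹ * g) • b = b by rw [mul_smul, ← e, inv_smul_smul]⟩, by group⟩
  have hdis : Q a ⊓ (stabilizer G a ⊓ stabilizer G b) = ⊥ :=
    eq_bot_iff.2 fun x hx => by_contra fun hx1 => hab (q.semi a x hx.1 hx1 b hx.2.2).symm
  have hc := hprod.card_mul
  have : IsPretransitive G Ω := ⟨q.trans⟩
  have hs := (stabilizer G a).card_mul_index
  have hq := q.card a
  rw [index_stabilizer_of_transitive, hG, mul_comm (Nat.card Ω)] at hs
  rw [hdis, card_bot, mul_one, Nat.eq_of_mul_eq_mul_right (by omega) hs, hq,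
    Nat.add_sub_cancel] at hc
  have hE := Nat.eq_of_mul_eq_mul_left (card_pos' _) hc
  obtain ⟨e, he, he2⟩ := H8.exists_involution_of_even (stabilizer G a ⊓ stabilizer G b) (by
    obtain ⟨k, hk⟩ := q.odd a
    exact ⟨k, by omega⟩)
  obtain ⟨x, hx, hxb⟩ := q.reg hab.symm hda
  have hx1 : x ≠ 1 := fun e => hdb (by rw [← hxb, e, one_smul])
  have hinv : ∀ u ∈ stabilizer G a ⊓ stabilizer G b, orderOf u = 2 → u * x * u⁻¹ = x⁻¹ :=
    fun u hu hu2 => H71.inverts_of_fpf (H8.mul_self_of_orderOf_two hu2) (q.norm hu.1)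
      (eq_bot_iff.2 fun w hw => by_contra fun hw1 => H8.ne_one_of_orderOf_two hu2
        (hF u a b (w • b) hab (fun e => hab (q.semi a w hw.2 hw1 b e.symm).symm)
          (fun e => hab (MulAction.injective w ((q.fix a w hw.2).trans e))) hu.1 hu.2
          (by rw [← mul_smul, ← mem_cent1.1 hw.1, mul_smul, show u • b = b from hu.2]))) x hx
  have huniq : ∀ u ∈ stabilizer G a ⊓ stabilizer G b, orderOf u = 2 → u = e := fun u hu hu2 => by
    have h1 := mul_mem (inv_mem he) hu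
    refine (inv_mul_eq_one.1 (hF _ a b d hab hdb.symm hda.symm h1.1 h1.2 ?_)).symm
    have e1 : e⁻¹ * u * x = x * (e⁻¹ * u) := by
      calc e⁻¹ * u * x = e⁻¹ * (u * x * u⁻¹) * u := by group
        _ = e⁻¹ * (e * x * e⁻¹) * u := by rw [hinv u hu hu2, hinv e he he2]
        _ = _ := by group
    rw [← hxb, ← mul_smul, e1, mul_smul, show (e⁻¹ * u) • b = b from h1.2]
  have hle : stabilizer G a ⊓ stabilizer G b ≤ c e := fun w hw => by
    by_contra hw'
    have e1 := huniq _ (mul_mem (mul_mem hw he) (inv_mem hw)) (by rw [H8.orderOf_conj', he2])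
    exact hw' (huniq w hw (h.invol_of_comm he2 hw' (mul_inv_eq_iff_eq_mul.1 e1)) ▸ h.mem e)
  obtain ⟨s, hs, hs'⟩ := SetLike.not_le_iff_exists.1 (hb e he2)
  have hse := mem_cent1.1 hs
  have hss := H8.mul_self_of_orderOf_two (h.invol_of_comm he2 hs' hse)
  have hfix : ∀ w : Ω, e • w = w → s • w = a ∨ s • w = b := fun w hw =>
    hF.eq_or_eq (H8.ne_one_of_orderOf_two he2) hab he.1 he.2
      (by rw [← mul_smul, ← hse, mul_smul, hw])
  have hsa : s • a = b := (hfix a he.1).resolve_left fun e1 => hs' (hle ⟨e1,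
    (hfix b he.2).resolve_left fun e2 => hab (MulAction.injective s (e1.trans e2.symm))⟩)
  exact H26.pgl_of_inverted hT hab hda hdb (by omega) hsa
    (by rw [← hsa, ← mul_smul, hss, one_smul]) fun w hw => h.inverts' he2 hse hs' (hle hw)

end QAct

theorem NP.pgl_of_index_two [Finite G] {c : G → Subgroup G} (h : NP c)
    (hnil : ∀ x, Group.IsNilpotent (c x)) (hb : ∀ e, orderOf e = 2 → ¬ 𝒞[e] ≤ c e)
    {M Q : Subgroup G} (hMn : M.Normal) (hM : M.index = 2) (hQM : Q ≤ M)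
    (hQ : ∀ x ∈ Q, x ≠ 1 → M ⊓ 𝒞[x] = Q) {k : ℕ} (hk : 0 < k) (hq : Nat.card Q = 2 * k + 1)
    (hc : Nat.card M = (2 * k + 1) * (2 * k + 2) * k)
    (hN : Nat.card ↥(M ⊓ 𝒩(Q)) = (2 * k + 1) * k) :
    ∃ (K : Type) (_ : Field K) (_ : Fintype K), Nat.card K = 2 * k + 1 ∧
      Nonempty (G ≃* PGL(2, K)) := by
  have hMN := normal_iff_top_le_norm.1 hMn
  have hTI : ∀ {g x : G}, x ∈ Q → x ≠ 1 → g * x * g⁻¹ ∈ Q → g ∈ 𝒩(Q) := fun {g x} hx hx1 hg => by
    rw [mem_norm_iff_cj]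
    conv_lhs => rw [← hQ x hx hx1]
    rw [cj_inf, cj_cent1, cj_eq_of_mem_norm (hMN trivial), hQ _ hg (by simpa using hx1)]
  have hi : Q.relIndex M = (2 * k + 2) * k := by
    have := card_mul_relIndex hQM
    rw [hq, hc, mul_assoc] at this
    exact Nat.eq_of_mul_eq_mul_left (by omega) this
  have hi' : Q.relIndex (M ⊓ 𝒩(Q)) = k := by
    have := card_mul_relIndex (le_inf hQM le_normalizer)
    rw [hq, hN] at this
    exact Nat.eq_of_mul_eq_mul_left (by omega) this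
  have hcop : (2 * k + 1).Coprime k := by simp
  have hidx : 𝒩(Q).index = 2 * k + 2 := by
    obtain ⟨p, hp, hd⟩ := exists_prime_dvd_card (show Q ≠ ⊥ by
      rintro rfl
      rw [card_bot] at hq
      omega)
    obtain ⟨P, hP⟩ := exists_sylowOf p Q
    have hH : IsHallOf Q M := ⟨hQM, by
      rw [hq, hi]
      exact Nat.Coprime.mul_right (Nat.coprime_self_add_right.2 (Nat.coprime_one_right _) :
        (2 * k + 1).Coprime (2 * k + 1 + 1)) hcop⟩
    obtain ⟨x, hx, hx1⟩ := ne_bot_iff_exists.1 (hP.ne_bot hp rfl hd)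
    have hpr := frattini_arg le_top hMN (hP.trans_sylow hH.hall ⟨hp, hd⟩)
    have hpr' : IsProd M 𝒩(Q) ⊤ := ⟨le_top, le_top, fun g hg => by
      obtain ⟨m, hm, n, hn, e⟩ := hpr.2.2 g hg
      exact ⟨m, hm, n, hTI (hP.le hx) hx1 (hP.le (conj_mem_of_norm le_rfl hn.2 hx)), e⟩⟩
    have e1 := card_inf_mul_relIndex 𝒩(Q) M
    rw [inf_comm, hN, hc, hpr'.relIndex_eq, relIndex_top_right, mul_right_comm _ _ k] at e1
    exact Nat.eq_of_mul_eq_mul_left (by positivity) e1
  have hout : ∀ g : G, cj (g : G ⧸ 𝒩(Q)).out Q = cj g Q := fun g => by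
    obtain ⟨n, hn⟩ := QuotientGroup.mk_out_eq_mul 𝒩(Q) g
    rw [hn, cj_mul, cj_eq_of_mem_norm n.2]
  have hcard : Nat.card (G ⧸ 𝒩(Q)) = 2 * k + 2 := hidx
  have q : QAct (G ⧸ 𝒩(Q)) M fun w => cj w.out Q :=
    { trans := exists_smul_eq G
      conj := fun g a => by
        obtain ⟨a, rfl⟩ := QuotientGroup.mk_surjective a
        rw [hout, ← cj_mul]
        exact hout (g * a)
      fix := fun a x hx => by
        obtain ⟨a, rfl⟩ := QuotientGroup.mk_surjective a
        rw [hout] at hx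
        exact H43.smul_mk_eq_iff.2 (le_normalizer (mem_cj.1 hx))
      semi := fun a x hx hx1 b hb => by
        obtain ⟨a, rfl⟩ := QuotientGroup.mk_surjective a
        obtain ⟨b, rfl⟩ := QuotientGroup.mk_surjective b
        rw [hout, mem_cj] at hx
        have h1 : b⁻¹ * x * b ∈ M ⊓ 𝒩(Q) := ⟨by
          simpa [mul_assoc] using hMn.conj_mem _ (hQM hx) (b⁻¹ * a), H43.smul_mk_eq_iff.1 hb⟩
        have := normal_subgroupOf (inf_le_right : M ⊓ 𝒩(Q) ≤ 𝒩(Q))
        have h2 : (b⁻¹ * x * b) ^ Q.relIndex (M ⊓ 𝒩(Q)) ∈ Q :=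
          (Q.subgroupOf (M ⊓ 𝒩(Q))).pow_index_mem ⟨_, h1⟩
        have h3 : (b⁻¹ * x * b) ^ (2 * k + 1) = 1 := by
          have e : b⁻¹ * x * b = b⁻¹ * a * (a⁻¹ * x * a) * (b⁻¹ * a)⁻¹ := by group
          rw [e, conj_pow, ← hq, orderOf_dvd_iff_pow_eq_one.1 (Q.orderOf_dvd_natCard hx)]
          simp
        have h4 := mem_of_pow_mem_of_coprime (h3 ▸ one_mem Q) (hi' ▸ h2) hcop
        refine QuotientGroup.eq.2 (hTI hx (conj_ne_one hx1) ?_)
        simpa [mul_assoc] using h4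
      card := fun a => by rw [card_cj, hq, hcard]
      odd := fun a => by rw [card_cj, hq]; exact ⟨k, rfl⟩
      le := fun a => cj_le_of_mem_norm hQM (hMN trivial)
      cent := fun a x hx hx1 => by
        rw [le_cj_iff, cj_inf, cj_cent1, cj_eq_of_mem_norm (hMN trivial), inv_inv,
          hQ _ (mem_cj.1 hx) (conj_ne_one hx1)] }
  obtain ⟨K, _, _, h1, h2⟩ := q.pgl h hnil hM hb (by omega) (by
    rw [← M.card_mul_index, hM, hc, hcard, show 2 * k + 2 - 1 = 2 * k + 1 by omega,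
      Nat.add_sub_cancel]
    ring)
  exact ⟨K, inferInstance, inferInstance, by omega, h2⟩

end Cfsg.Agent.H3
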