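/-
Groups with a partition, VI: the dihedral case and the assembly.
-/
import Cfsg.Agent.H3.Part3
import Cfsg.Agent.H3.Part5
import Cfsg.Agent.H18.BSWPSL
import Cfsg.Agent.H76.SelfCent
import Cfsg.Agent.S0111

set_option autoImplicit false

open Cfsg Cfsg.Agent.H49 Subgroup
open scoped MatrixGroups IsMulCommutative

namespace Cfsg.Agent.H3

variable {G : Type*} [Group G] [Finite G]

theorem eq_bot_of_solvable (hF : ∀ K : Subgroup G, K.Normal → Group.IsNilpotent K → K = ⊥)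
    {M R : Subgroup G} (hM : M.Normal) (hR : R ≤ M) (hn : M ≤ 𝒩(R)) (hs : Group.IsSolvable R) :
    R = ⊥ := by
  by_contra h1
  refine fittingOf_ne_bot hs h1 (eq_bot_iff.2 ((fittingOf_le_of_normal hR hn).trans (hF _ ?_
    (fittingOf_nil M)).le))
  exact normal_iff_top_le_norm.2 (norm_fittingOf (normal_iff_top_le_norm.1 hM))

theorem not_index_two {X : Type*} [Group X] [Group.IsPerfect X] {N : Subgroup X} (hN : N.Normal) :
    N.index ≠ 2 := fun h => by
  have := Fact.mk Nat.prime_two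
  have : IsCyclic (X ⧸ N) := isCyclic_of_prime_card h
  have : Nontrivial (X ⧸ N) := Finite.one_lt_card_iff_nontrivial.1 (by
    change 1 < N.index
    omega)
  exact Group.IsPerfect.not_isMulCommutative (X ⧸ N) inferInstance

/-- Thompson transfer inside a perfect subgroup -/
theorem exists_conj_mem {M T H : Subgroup G} [Group.IsPerfect M] (hT : IsSylowOf 2 T M)
    (hi : H.relIndex T = 2) {u : G} (hu : orderOf u = 2) (huM : u ∈ M) :
    ∃ g ∈ M, g * u * g⁻¹ ∈ H := by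
  obtain ⟨g, hg, h1⟩ := sylowOf_subJ hT (zpowers_le.2 huM)
    (isPi_zpowers.2 (isPiElt_two (H8.mul_self_of_orderOf_two hu)))
  have h2 : g * u * g⁻¹ ∈ T := h1 (conj_mem_cj.2 (mem_zpowers u))
  by_cases h3 : g * u * g⁻¹ ∈ H
  · exact ⟨g, hg, h3⟩
  obtain ⟨P, rfl⟩ := exists_sylow_of Nat.prime_two hT
  obtain ⟨v, hv, e⟩ := h2
  rcases S0111.result P (H.subgroupOf M ⊓ P) inf_le_right (by
      rw [inf_relIndex_right, subgroupOf, relIndex_comap, hi]) v
    (by rw [← orderOf_injective M.subtype M.subtype_injective, e, H8.orderOf_conj', hu]) hv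
    (fun h => h3 (e ▸ h.1)) with ⟨N, hN, h4, -⟩ | ⟨k, hk⟩
  · exact absurd h4 (not_index_two hN)
  · refine ⟨k * g, mul_mem k.2 hg, ?_⟩
    have : (k : G) * M.subtype v * (k : G)⁻¹ ∈ H := hk.1
    rw [e] at this
    simpa [mul_assoc] using this

theorem relIndex_dvd_two_of_sq {H M : Subgroup G} (hH : IsMulCommutative H) {z : G}
    (hu : ∀ u ∈ H, u * u = 1 → u = 1 ∨ u = z) (hz : z * z = 1) (hs : ∀ x ∈ H, x * x ∈ M) :
    M.relIndex H ∣ 2 := by
  have h1 : (powMonoidHom 2 : H →* H).range ≤ M.subgroupOf H := by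
    rintro _ ⟨x, rfl⟩
    simpa [mem_subgroupOf, pow_two] using hs x x.2
  refine (index_dvd_of_le h1).trans ?_
  rw [index_range, ← card_subtype]
  have h2 : (powMonoidHom 2 : H →* H).ker.map H.subtype ≤ zpowers z := by
    rintro _ ⟨x, hx, rfl⟩
    rcases hu x x.2 (by simpa [pow_two, Subtype.ext_iff] using hx) with e | e
    · exact (show (x : G) ∈ zpowers z from e ▸ one_mem _)
    · exact (show (x : G) ∈ zpowers z from e ▸ mem_zpowers _)
  exact (card_dvd_of_le h2).trans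
    (Nat.card_zpowers z ▸ orderOf_dvd_of_pow_eq_one (by rwa [pow_two]))

theorem NP.dihedral {c : G → Subgroup G} (h : NP c) (hnil : ∀ x, Group.IsNilpotent (c x))
    (hF : ∀ K : Subgroup G, K.Normal → Group.IsNilpotent K → K = ⊥)
    (hb : ∀ e, orderOf e = 2 → ¬ 𝒞[e] ≤ c e) {S : Subgroup G} (hS : IsSylowOf 2 S ⊤) {z y : G}
    (hz : orderOf z = 2) (hzc : S ≤ 𝒞[z]) (hy : y ∈ c z) (hy2 : y * y ≠ 1) :
    (∃ (F : Type) (_ : Field F) (_ : Fintype F), 4 ≤ Fintype.card F ∧ Nonempty (G ≃* PSL(2, F))) ∨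
    ∃ (F : Type) (_ : Field F) (_ : Fintype F), 5 ≤ Fintype.card F ∧ Odd (Fintype.card F) ∧
      Nonempty (G ≃* PGL(2, F)) := by
  have hz1 := H8.ne_one_of_orderOf_two hz
  have hN := h.norm_le_cent hS hz hzc (hb z hz) hy hy2
  have hu : ∀ u ∈ c z, u * u = 1 → u = 1 ∨ u = z := fun u =>
    h.uniq_invol hS hz hzc (hb z hz) hy hy2 hF
  have hu' : ∀ u ∈ c z, orderOf u = 2 → u = z := fun u h1 h2 =>
    (hu u h1 (H8.mul_self_of_orderOf_two h2)).resolve_left (H8.ne_one_of_orderOf_two h2)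
  have hcomm : ∀ {a b : G}, a ∈ c z → b ∈ c z → a * b = b * a := h.comm_of_not_le hz (hb z hz)
  have hmul : ∀ {a b : G}, a * z = z * a → a ∉ c z → b * z = z * b → b ∉ c z → a * b ∈ c z :=
    h.mul_mem_of_cent hz hy hy2
  have : Nontrivial G := ⟨z, 1, hz1⟩
  obtain ⟨M, hMn, hM1, hmin⟩ := H2.exists_minimal_normal (G := G)
  have hMN := normal_iff_top_le_norm.1 hMn
  have hns : ¬ Group.IsSolvable M := fun e =>
    hM1 (eq_bot_of_solvable hF hMn le_rfl le_normalizer e)
  have : Group.IsPerfect M := isPerfect_iff.2 ((hmin _ inferInstance der_le).resolve_left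
    fun e => hns (solvable_of_abelian (abelian_iff.2 (commutator_eq_bot_iff.1 e))))
  have hT := hS.inf_normal le_top hMN
  have hT1 := hT.ne_bot Nat.prime_two rfl
    (Nat.not_odd_iff_even.1 fun e => hns (H54.odd_order_solvable e)).two_dvd
  have hTH : ¬ S ⊓ M ≤ c z := fun hle => by
    obtain ⟨x, hx, hx1⟩ := ne_bot_iff_exists.1 hT1
    obtain ⟨K, hK, hKn, hc, hodd⟩ := H76.exists_compl_of_burnside Nat.prime_two hT fun n hn => by
      have h1 := mem_cent1.1 (hN (h.TI (hle hx) hx1 (hle (conj_mem_of_norm le_rfl hn.2 hx))))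
      have h2 : n ∈ c z := by_contra fun h2 => h2 (hle (hT.le_of_norm (zpowers_le.2 hn.1)
        (isPi_zpowers.2 (isPiElt_two (H8.mul_self_of_orderOf_two (h.invol_of_comm hz h2 h1))))
        (Or.inl (zpowers_le.2 hn.2)) (mem_zpowers n)))
      exact mem_centralizer_iff.2 fun w hw => hcomm (hle hw) h2
    rw [eq_bot_of_solvable hF hMn hK hKn (H54.odd_order_solvable
      (Nat.not_even_iff_odd.1 fun e => hodd e.two_dvd)), card_bot, one_mul] at hc
    exact hns (solvable_of_nilpotent (eq_of_le_of_card_eq hT.le hc ▸ hT.pi).nilpotent)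
  obtain ⟨s, hs, hs'⟩ := SetLike.not_le_iff_exists.1 hTH
  have hsz := mem_cent1.1 (hzc hs.1)
  have hs2 := h.invol_of_comm hz hs' hsz
  have hi : (c z).relIndex (S ⊓ M) = 2 := ((Nat.dvd_prime Nat.prime_two).1
    (relIndex_dvd_two_iff.2 ⟨s, hs, fun v hv => or_iff_not_imp_right.2 fun hv' =>
      hmul (mem_cent1.1 (hzc hv.1)) hv' hsz hs'⟩)).resolve_left fun e => hTH (relIndex_eq_one.1 e)
  have hconj : ∀ u ∈ M, orderOf u = 2 → ∃ g ∈ M, g * u * g⁻¹ = z := fun u h1 h2 => by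
    obtain ⟨g, hg, h3⟩ := exists_conj_mem hT hi h2 h1
    exact ⟨g, hg, hu' _ h3 (by rw [H8.orderOf_conj', h2])⟩
  have hzM : z ∈ M := by
    obtain ⟨g, -, e⟩ := hconj s hs.2 hs2
    exact e ▸ hMn.conj_mem s hs.2 g
  have ho : ∀ x : M, orderOf x = orderOf (x : G) := fun x => (Subgroup.orderOf_coe x).symm
  have hcent : ∀ g : G, g * z = z * g ↔ g ∈ c z ∨ g * s ∈ c z := fun g =>
    ⟨fun e => or_iff_not_imp_left.2 fun e' => hmul e e' hsz hs', fun e => e.elim
      (fun e => hcomm e (h.mem z)) fun e => by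
        have := hcomm e (h.mem z)
        rwa [mul_assoc, hsz, ← mul_assoc, ← mul_assoc, mul_left_inj] at this⟩
  have B : H18.BSW (G := M) ⟨z, hzM⟩ ⟨s, hs.2⟩ ((c z).subgroupOf M) :=
    { ht := (ho _).trans hz
      comm := fun a ha b hb => Subtype.ext (hcomm ha hb)
      tK := h.mem z
      hs := (ho _).trans hs2
      sK := hs'
      cent := fun g => Subtype.ext_iff.trans (hcent g)
      inv := fun x hx => Subtype.ext (h.inverts' hz hsz hs' hx)
      uniq := fun x hx e => (hu x hx (congrArg Subtype.val e)).imp Subtype.ext Subtype.ext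
      TI := fun g x hx hx1 hg => Subtype.ext (mem_cent1.1 (hN (h.TI hx
        (fun e => hx1 (Subtype.ext e)) hg)))
      conj := fun x hx => by
        obtain ⟨g, hg, e⟩ := hconj x x.2 ((ho x).symm.trans hx)
        exact ⟨⟨g⁻¹, inv_mem hg⟩, Subtype.ext (by simp [← e, mul_assoc])⟩ }
  have := Fintype.ofFinite M
  obtain ⟨Q, D, h1, h2, h3, h4, h5, h6, -⟩ := B.concl
  have hDN : D ≤ 𝒩(Q) := h6 ▸ le_sup_right
  have hQab : IsMulCommutative Q := H2.isMulCommutative_of_forall fun a ha b hb => by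
    by_cases e : b = 1
    · simp [e]
    · exact mem_cent1.1 ((h2 b hb e).ge ha)
  have hcore : 𝒩(Q).normalCore = ⊥ := by
    rw [← map_eq_bot_iff_of_injective _ M.subtype_injective]
    refine eq_bot_of_solvable hF hMn (map_subtype_le _) (norm_map_subtype _)
      (solvable_map (solvable_of_le ?_ (normalCore_le _)) _)
    rw [h6]
    exact solvable_sup (solvable_of_abelian hQab) (solvable_of_abelian h3) (Or.inr hDN)
  obtain ⟨F, _, _, hF1, -, hF2, ⟨e⟩⟩ := H18.psl2_of_QD h1 h2 h3 h4 h5 h6 hcore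
  have hidx : M.index ∣ 2 := by
    have e1 : c z ⊔ M = ⊤ := eq_top_iff.2 fun g _ => by
      obtain ⟨m, hm, e⟩ := hconj _ (hMn.conj_mem z hzM g) (by rw [H8.orderOf_conj', hz])
      have e2 : m * g ∈ c z ⊔ M := by
        rcases (hcent (m * g)).1 (by
          calc m * g * z = m * (g * z * g⁻¹) * m⁻¹ * (m * g) := by group
            _ = _ := by rw [e]) with e3 | e3
        · exact mem_sup_left e3
        · exact (mul_mem_cancel_right (mem_sup_right hs.2)).1 (mem_sup_left e3)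
      exact (mul_mem_cancel_left (mem_sup_right hm)).1 e2
    rw [← relIndex_top_right, ← e1, relIndex_sup_right]
    refine relIndex_dvd_two_of_sq (H2.isMulCommutative_of_forall fun _ ha _ hb => hcomm ha hb) hu
      (H8.mul_self_of_orderOf_two hz) fun x hx => ?_
    have e2 : x * x = x * s * x⁻¹ * s⁻¹ := by
      rw [mul_assoc, mul_assoc, ← mul_assoc s, h.inverts' hz hsz hs' (inv_mem hx), inv_inv]
    exact e2 ▸ mul_mem (hMn.conj_mem s hs.2 x) (inv_mem hs.2)
  rcases (Nat.dvd_prime Nat.prime_two).1 hidx with hidx | hidx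
  · obtain rfl := index_eq_one.1 hidx
    exact Or.inl ⟨F, inferInstance, inferInstance, hF2, ⟨topEquiv.symm.trans e⟩⟩
  obtain ⟨K, _, _, hK, hK'⟩ := h.pgl_of_index_two hnil hb hMn hidx (map_subtype_le Q)
    (k := Nat.card D) (by
      rintro _ ⟨x, hx, rfl⟩ hx1
      rw [← h2 x hx fun e => hx1 (by simp [e])]
      ext w
      constructor
      · exact fun hw => ⟨⟨w, hw.1⟩, mem_cent1.2 (Subtype.ext (mem_cent1.1 hw.2)), rfl⟩
      · rintro ⟨w, hw, rfl⟩
        exact ⟨w.2, mem_cent1.2 (congrArg Subtype.val (mem_cent1.1 hw))⟩)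
    (card_pos' D) (by rw [card_subtype, h4]) (by
      rw [← h4, Nat.add_sub_cancel] at h1
      linarith) (by
      have e1 : M ⊓ 𝒩(Q.map M.subtype) = 𝒩(Q).map M.subtype := by
        ext w
        constructor
        · exact fun hw => ⟨⟨w, hw.1⟩, mem_norm_iff_cj.2 (map_injective M.subtype_injective
            ((map_subtype_cj _ _).trans (mem_norm_iff_cj.1 hw.2))), rfl⟩
        · rintro ⟨w, hw, rfl⟩
          exact ⟨w.2, mem_norm_iff_cj.2 ((map_subtype_cj w Q).symm.trans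
            (congrArg _ (mem_norm_iff_cj.1 hw)))⟩
      rw [e1, card_subtype, h6, card_sup_of_disjoint (Or.inr hDN) h5, h4])
  rw [Nat.card_eq_fintype_card] at hK
  exact Or.inr ⟨K, inferInstance, inferInstance, by omega, ⟨_, hK⟩, hK'⟩

/-- The classification of groups with a partition, up to the identification of the groups with a
non-normal subgroup containing the centralisers of its elements and a central involution. -/
theorem NP.main [Nontrivial G] {c : G → Subgroup G} (h : NP c) :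
    Nonempty (G ≃* Equiv.Perm (Fin 4)) ∨ (∃ p : ℕ, p.Prime ∧ closure {g : G | g ^ p ≠ 1} ≠ ⊤) ∨
    (∃ H : Subgroup G, IsFrobeniusComplement H) ∨
    (∃ (F : Type) (_ : Field F) (_ : Fintype F), 4 ≤ Fintype.card F ∧ Nonempty (G ≃* PSL(2, F))) ∨
    (∃ (F : Type) (_ : Field F) (_ : Fintype F), 5 ≤ Fintype.card F ∧ Odd (Fintype.card F) ∧
      Nonempty (G ≃* PGL(2, F))) ∨
    ∃ (H : Subgroup G) (z : G), (∀ x ∈ H, x ≠ 1 → 𝒞[x] ≤ H) ∧ orderOf z = 2 ∧ z ∈ H ∧
      (∀ y ∈ H, z * y = y * z) ∧ ¬ H.Normal := by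
  by_cases hfr : ∃ x, x ≠ 1 ∧ 𝒩(c x) ≤ c x
  · obtain ⟨x, hx, hN⟩ := hfr
    exact Or.inr (Or.inr (Or.inl ⟨_, h.frob hx hN⟩))
  have hnil : ∀ x, Group.IsNilpotent (c x) := fun x => by
    by_cases hx : x = 1
    · rw [hx, h.one]
      infer_instance
    · exact h.nilpotent fun e => hfr ⟨x, hx, e⟩
  have hn : (fittingOf (⊤ : Subgroup G)).Normal := normal_iff_top_le_norm.2 (le_norm_fittingOf ⊤)
  have hmax : ∀ K : Subgroup G, K.Normal → Group.IsNilpotent K → K ≤ fittingOf ⊤ := fun K h1 h2 =>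
    le_fittingOf le_top (normal_iff_top_le_norm.1 h1) h2
  by_cases h1 : fittingOf (⊤ : Subgroup G) ≠ ⊥
  · by_cases h2 : ∃ x, fittingOf ⊤ ≤ c x
    · obtain ⟨x, hx⟩ := h2
      exact Or.inr ((h.case_normal (fun e => h1 (eq_bot_iff.2 (by rwa [e, h.one] at hx)))
        (h.normal_of_le hn h1 hx) fun K h3 h4 => (hmax K h3 h4).trans hx).imp_right Or.inl)
    · exact (h.case_pgroup hnil hn (fittingOf_nil ⊤) (fun x e => h2 ⟨x, e⟩) hmax).imp_right
        (Or.imp_right Or.inl)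
  rw [not_not] at h1
  have hF : ∀ K : Subgroup G, K.Normal → Group.IsNilpotent K → K = ⊥ := fun K h2 h3 =>
    eq_bot_iff.2 (h1 ▸ hmax K h2 h3)
  obtain ⟨S, hS⟩ := exists_sylowOf 2 (⊤ : Subgroup G)
  have hS1 := hS.ne_bot Nat.prime_two rfl (Nat.not_odd_iff_even.1 fun e => top_ne_bot
    (eq_bot_of_solvable hF inferInstance le_rfl le_normalizer (H54.odd_order_solvable e))).two_dvd
  refine Or.inr (Or.inr (Or.inr ?_))
  by_cases hSx : ∃ x, S ≤ c x
  · obtain ⟨x, hx⟩ := hSx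
    obtain ⟨z, hzS, hz, hzc⟩ := exists_invol_center hS.pi hS1 (hnil x) hx
      (sylowOf_normal_of_nilpotent (hnil x) (hS.sub hx le_top))
    have hz1 := H8.ne_one_of_orderOf_two hz
    have hn : ¬ (c z).Normal := fun e => hz1 (mem_bot.1 (hF _ e (hnil z) ▸ h.mem z))
    exact Or.inr (Or.inr ⟨c z, z, h.cc_of_cent_le hnil (fun u => h.cent_le_of_sylow hnil hS hx) hz hn,
      hz, h.mem z, by rwa [h.eq (hx hzS) hz1], hn⟩)
  by_cases he : ∀ u, orderOf u = 2 → S ≤ 𝒞[u] → ∀ l ∈ c u, l * l = 1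
  · obtain ⟨z, hzS, hz, hzc⟩ := exists_invol_center hS.pi hS1 hS.pi.nilpotent le_rfl le_normalizer
    exact Or.inr (Or.inr ⟨S, z, h.cc_of_exp hS hz (fun w hw => mem_cent1.2 (hzc w hw).symm) he,
      hz, hzS, hzc, fun e => hS1 (hF S e hS.pi.nilpotent)⟩)
  · push Not at he
    obtain ⟨z, hz, hzc, y, hy, hy2⟩ := he
    exact (h.dihedral hnil hF (fun e => h.not_cent_le hS fun x e => hSx ⟨x, e⟩) hS hz hzc hy
      hy2).imp_right Or.inl

end Cfsg.Agent.H3
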